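import Cfsg.Agent.Omega.EH3.NonSph.Ind

/-!
# Cubes (bb #12580)

If the characters of three pairwise commuting panels are independent, the cubes of type `i, j, k` close.
-/

set_option autoImplicit false

namespace Cfsg.Agent.Omega.EH3.NonSph

open Cfsg.Agent.ParSys Cfsg.Agent.ParSys.Free Cfsg.Agent.ParSys.Wt

variable {C I G : Type*} [Group G] [MulAction G C] {A : I → C → C → Prop} {m : I → I → ℕ}

/-- the stabiliser of every chamber contains an element which moves the `i`-panel and fixes the `j`- and `k`-panels -/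
def Flex (G : Type*) [Group G] {C I : Type*} [MulAction G C] (A : I → C → C → Prop) (i j k : I) : Prop :=
  ∀ y : C, ∃ e : G, e • y = y ∧ lam A i y e = 1 ∧ lam A j y e = 0 ∧ lam A k y e = 0

theorem chr_lam (h : CS G A m) {c : C} {l : I} {H : Subgroup G} (hH : ∀ g ∈ H, g • c = c) :
    Chr H (fun g => lam A l c g) := fun a ha b hb => h.lam_mul (hH a ha) (hH b hb)

theorem flex_of_ind (h : CS G A m) (htr : ∀ x y : C, ∃ g : G, g • x = y) {c0 : C} {T : Set I}
    (hI : Ind (MulAction.stabilizer G c0) T (fun l g => lam A l c0 g)) {i j k : I} (hi : i ∈ T) (hj : j ∈ T) (hk : k ∈ T)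
    (hij : i ≠ j) (hik : i ≠ k) (hjk : j ≠ k) : Flex G A i j k := by
  classical
  set H := MulAction.stabilizer G c0 with hH
  have hc : ∀ l, Chr H (fun g => lam A l c0 g) := fun l => chr_lam h fun g hg => hg
  have h1 := hI.ker (fun l _ => hc l) hk (H' := kerSub H _ (hc k)) (fun g => mem_kerSub)
  have hc1 : ∀ l, Chr (kerSub H _ (hc k)) (fun g => lam A l c0 g) := fun l => chr_lam h fun g hg => hg.1
  have h2 := h1.ker (fun l _ => hc1 l) (x := j) ⟨hj, by simpa using hjk⟩ (H' := kerSub _ _ (hc1 j)) (fun g => mem_kerSub)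
  obtain ⟨t, ht, hti⟩ := h2.ne (x := i) ⟨⟨hi, by simpa using hik⟩, by simpa using hij⟩
  intro y
  obtain ⟨g, rfl⟩ := htr c0 y
  have key : ∀ l, lam A l (g • c0) (g * t * g⁻¹) = lam A l c0 t := by
    intro l
    rw [h.lam_smul]
    congr 1
    group
  refine ⟨g * t * g⁻¹, ?_, ?_, ?_, ?_⟩
  · have ht0 : t • c0 = c0 := ht.1.1
    rw [smul_smul, inv_mul_cancel_right, mul_smul, ht0]
  · rw [key]; exact hti
  · rw [key]; exact ht.2
  · rw [key]; exact ht.1.2

/-- homogeneity -/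
theorem hom3 (h : CS G A m) (htr : ∀ x y : C, ∃ g : G, g • x = y) {i j k : I} (fi : Flex G A i j k)
    (fj : Flex G A j i k) (fk : Flex G A k i j) {x u v p y u' v' p' : C} (hu : A i x u) (hv : A j x v) (hp : A k x p)
    (hu' : A i y u') (hv' : A j y v') (hp' : A k y p') :
    ∃ g : G, g • x = y ∧ g • u = u' ∧ g • v = v' ∧ g • p = p' := by
  obtain ⟨g, hg⟩ := htr x y
  have s1 : ∃ g : G, g • x = y ∧ g • u = u' := by
    by_cases h1 : g • u = u'
    · exact ⟨g, hg, h1⟩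
    · obtain ⟨e, he, he1, -, -⟩ := fi y
      have h2 := h.act g i x u hu
      rw [hg] at h2
      refine ⟨e * g, by rw [mul_smul, hg, he], ?_⟩
      rw [mul_smul, h.lam_one_eq he he1 h2 hu' h1]
  obtain ⟨g, hg, hgu⟩ := s1
  have s2 : ∃ g : G, g • x = y ∧ g • u = u' ∧ g • v = v' := by
    by_cases h1 : g • v = v'
    · exact ⟨g, hg, hgu, h1⟩
    · obtain ⟨e, he, he1, he2, -⟩ := fj y
      have h2 := h.act g j x v hv
      rw [hg] at h2
      refine ⟨e * g, by rw [mul_smul, hg, he], ?_, ?_⟩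
      · rw [mul_smul, hgu]
        exact lam_eq_zero.1 he2 _ hu'
      · rw [mul_smul, h.lam_one_eq he he1 h2 hv' h1]
  obtain ⟨g, hg, hgu, hgv⟩ := s2
  by_cases h1 : g • p = p'
  · exact ⟨g, hg, hgu, hgv, h1⟩
  · obtain ⟨e, he, he1, he2, he3⟩ := fk y
    have h2 := h.act g k x p hp
    rw [hg] at h2
    refine ⟨e * g, by rw [mul_smul, hg, he], ?_, ?_, ?_⟩
    · rw [mul_smul, hgu]
      exact lam_eq_zero.1 he2 _ hu'
    · rw [mul_smul, hgv]
      exact lam_eq_zero.1 he3 _ hv'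
    · rw [mul_smul, h.lam_one_eq he he1 h2 hp' h1]

/-- a cube of type `i, j, k` without one edge; `q1 = q2` means that it closes -/
structure Kf (A : I → C → C → Prop) (i j k : I) (x u v p w p1 p2 q1 q2 : C) : Prop where
  xu : A i x u
  xv : A j x v
  xp : A k x p
  uw : A j u w
  vw : A i v w
  pp1 : A i p p1
  up1 : A k u p1
  pp2 : A j p p2
  vp2 : A k v p2
  pq1 : A j p1 q1
  wq1 : A k w q1
  pq2 : A i p2 q2
  wq2 : A k w q2

theorem Kf.smul (h : CS G A m) {i j k : I} {x u v p w p1 p2 q1 q2 : C} (K : Kf A i j k x u v p w p1 p2 q1 q2) (g : G) :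
    Kf A i j k (g • x) (g • u) (g • v) (g • p) (g • w) (g • p1) (g • p2) (g • q1) (g • q2) :=
  ⟨h.act g _ _ _ K.xu, h.act g _ _ _ K.xv, h.act g _ _ _ K.xp, h.act g _ _ _ K.uw, h.act g _ _ _ K.vw,
    h.act g _ _ _ K.pp1, h.act g _ _ _ K.up1, h.act g _ _ _ K.pp2, h.act g _ _ _ K.vp2, h.act g _ _ _ K.pq1,
    h.act g _ _ _ K.wq1, h.act g _ _ _ K.pq2, h.act g _ _ _ K.wq2⟩

theorem corner (h : CS G A m) {i j : I} (hij : i ≠ j) (hm : m i j = 2) {x u v w w' : C} (h1 : A i x u) (h2 : A j x v)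
    (h3 : A j u w) (h4 : A i v w) (h5 : A j u w') (h6 : A i v w') : w = w' := by
  obtain ⟨z, -, hz⟩ := h.square hij hm (h.cham.symm h1) h2
  rw [hz w ⟨h3, h.cham.symm h4⟩, hz w' ⟨h5, h.cham.symm h6⟩]

/-- the rest of a cube is determined by a chamber and three of its neighbours -/
theorem Kf.unique (h : CS G A m) {i j k : I} (hij : i ≠ j) (hmij : m i j = 2) (hik : i ≠ k) (hmik : m i k = 2)
    (hjk : j ≠ k) (hmjk : m j k = 2) {x u v p w p1 p2 q1 q2 w' p1' p2' q1' q2' : C}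
    (K : Kf A i j k x u v p w p1 p2 q1 q2) (K' : Kf A i j k x u v p w' p1' p2' q1' q2') : q1 = q1' ∧ q2 = q2' := by
  have e1 : w = w' := corner h hij hmij K.xu K.xv K.uw K.vw K'.uw K'.vw
  have hki : m k i = 2 := by rw [h.symm]; exact hmik
  have hkj : m k j = 2 := by rw [h.symm]; exact hmjk
  have hji : m j i = 2 := by rw [h.symm]; exact hmij
  have e2 : p1 = p1' := corner h hik hmik K.xu K.xp K.up1 K.pp1 K'.up1 K'.pp1
  have e3 : p2 = p2' := corner h hjk hmjk K.xv K.xp K.vp2 K.pp2 K'.vp2 K'.pp2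
  subst e1 e2 e3
  exact ⟨corner h hjk hmjk K.uw K.up1 K.wq1 K.pq1 K'.wq1 K'.pq1, corner h hik hmik K.vw K.vp2 K.wq2 K.pq2 K'.wq2 K'.pq2⟩

theorem exists_corner (h : CS G A m) {i j : I} (hij : i ≠ j) (hm : m i j = 2) {x u v : C} (h1 : A i x u) (h2 : A j x v) :
    ∃ w, A j u w ∧ A i v w := by
  obtain ⟨z, ⟨h3, h4⟩, -⟩ := h.square hij hm (h.cham.symm h1) h2
  exact ⟨z, h3, h.cham.symm h4⟩

/-- **Cubes close.** -/
theorem Kf.eq (h : CS G A m) (htr : ∀ x y : C, ∃ g : G, g • x = y) {i j k : I} (fi : Flex G A i j k)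
    (fj : Flex G A j i k) (fk : Flex G A k i j) (hij : i ≠ j) (hmij : m i j = 2) (hik : i ≠ k) (hmik : m i k = 2)
    (hjk : j ≠ k) (hmjk : m j k = 2) {x u v p w p1 p2 q1 q2 : C} (K : Kf A i j k x u v p w p1 p2 q1 q2) : q1 = q2 := by
  by_contra hne
  have hki : m k i = 2 := by rw [h.symm]; exact hmik
  have all : ∀ {x' u' v' p' w' p1' p2' q1' q2' : C}, Kf A i j k x' u' v' p' w' p1' p2' q1' q2' → q1' ≠ q2' := by
    intro x' u' v' p' w' p1' p2' q1' q2' K' he
    obtain ⟨g, rfl, rfl, rfl, rfl⟩ := hom3 h htr fi fj fk K.xu K.xv K.xp K'.xu K'.xv K'.xp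
    obtain ⟨e1, e2⟩ := Kf.unique h hij hmij hik hmik hjk hmjk (K.smul h g) K'
    rw [← e1, ← e2] at he
    exact hne (smul_left_cancel g he)
  -- the third row
  obtain ⟨u2, hu2, hxu2, -⟩ := h.exists_other K.xu
  obtain ⟨w2, huw2, hvw2⟩ := exists_corner h hij hmij hxu2 K.xv
  have huu2 : A i u u2 := h.cham.trans K.xu hxu2 hu2.symm
  have hww2 : w ≠ w2 := by
    rintro rfl
    exact h.not_adj_two hij hmij huu2 (h.cham.trans (h.cham.symm K.uw) (h.cham.symm huw2) hu2.symm)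
  have aww2 : A i w w2 := h.cham.trans K.vw hvw2 hww2
  obtain ⟨p20, hup20, hpp20⟩ := exists_corner h hik hmik hxu2 K.xp
  have hp1p20 : p1 ≠ p20 := by
    rintro rfl
    exact h.not_adj_two hik hmik huu2 (h.cham.trans (h.cham.symm K.up1) (h.cham.symm hup20) hu2.symm)
  have ap1 : A i p1 p20 := h.cham.trans K.pp1 hpp20 hp1p20
  obtain ⟨r1, hr1, hr1'⟩ := exists_corner h hjk hmjk huw2 hup20
  obtain ⟨r2, hr2, hr2'⟩ := exists_corner h hik hmik hvw2 K.vp2
  obtain ⟨r3, hr3, hr3'⟩ := exists_corner h hik hmik aww2 K.wq1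
  have n12 : r1 ≠ r2 := all (x' := x) (u' := u2) (v' := v) (p' := p) (w' := w2) (p1' := p20) (p2' := p2)
    ⟨hxu2, K.xv, K.xp, huw2, hvw2, hpp20, hup20, K.pp2, K.vp2, hr1', hr1, hr2', hr2⟩
  have n13 : r1 ≠ r3 := all (x' := u) (u' := u2) (v' := w) (p' := p1) (w' := w2) (p1' := p20) (p2' := q1)
    ⟨huu2, K.uw, K.up1, huw2, aww2, ap1, hup20, K.pq1, K.wq1, hr1', hr1, hr3', hr3⟩
  have n23 : r2 ≠ r3 := by
    rintro rfl
    have a1 : q2 ≠ r2 := by
      rintro rfl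
      exact h.not_adj_two hik hmik aww2 (h.cham.trans (h.cham.symm K.wq2) (h.cham.symm hr2) hww2)
    have a2 : A i r2 q2 := h.cham.trans hr2' K.pq2 a1.symm |> fun h0 => h0
    have a3 : A i r2 q1 := h.cham.symm hr3'
    exact h.not_adj_two hik hmik (h.cham.trans a3 a2 hne) (h.cham.trans K.wq1 K.wq2 hne)
  obtain ⟨s1, s2, -, -, -, hs⟩ := h.exists_two k w2
  rcases hs r1 hr1 with e1 | e1 <;> rcases hs r2 hr2 with e2 | e2 <;> rcases hs r3 hr3 with e3 | e3
  · exact n12 (e1.trans e2.symm)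
  · exact n12 (e1.trans e2.symm)
  · exact n13 (e1.trans e3.symm)
  · exact n23 (e2.trans e3.symm)
  · exact n23 (e2.trans e3.symm)
  · exact n13 (e1.trans e3.symm)
  · exact n12 (e1.trans e2.symm)
  · exact n12 (e1.trans e2.symm)

/-- the form used by the certificates -/
theorem cube (h : CS G A m) (htr : ∀ x y : C, ∃ g : G, g • x = y) {i j k : I} (fi : Flex G A i j k)
    (fj : Flex G A j i k) (fk : Flex G A k i j) (hij : i ≠ j) (hmij : m i j = 2) (hik : i ≠ k) (hmik : m i k = 2)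
    (hjk : j ≠ k) (hmjk : m j k = 2) {a b c d a' b' c' d' : C} (h1 : A i a b) (h2 : A j b c) (h3 : A j a d)
    (h4 : A i d c) (h5 : A k a a') (h6 : A k b b') (h7 : A k c c') (h8 : A k d d') (h9 : A i a' b') (h10 : A j b' c')
    (h11 : A j a' d') : A i d' c' := by
  obtain ⟨q, hq1, hq2⟩ := exists_corner h hik hmik h4 h8
  have hK : Kf A i j k a b d a' c b' d' c' q := ⟨h1, h3, h5, h2, h4, h9, h6, h11, h8, h10, h7, hq2, hq1⟩
  rw [hK.eq h htr fi fj fk hij hmij hik hmik hjk hmjk]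
  exact hq2

end Cfsg.Agent.Omega.EH3.NonSph
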