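import Cfsg.Agent.Omega.EH3.NonSph.Sound
import Cfsg.Agent.Omega.EH3.NonSph.Cube

/-!
# A valid certificate gives a contradiction (bb #12580)
-/

set_option autoImplicit false

namespace Cfsg.Agent.Omega.EH3.NonSph.Vm

open Cfsg.Agent.ParSys Cfsg.Agent.ParSys.Free Cfsg.Agent.ParSys.Wt

variable {C I G : Type*} [Group G] [MulAction G C] {A : I → C → C → Prop} {m : I → I → ℕ}
variable {ι : ℕ → I} {mat : ℕ → ℕ → ℕ}

/-- a matrix, packed in a number -/
def tab (k code i j : ℕ) : ℕ := if Nat.blt i k && Nat.blt j k then Nat.land (Nat.shiftRight code (2 * (k * i + j))) 3 else 0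

theorem tab_lt {k code i j : ℕ} (h : tab k code i j ≠ 0) : i < k ∧ j < k := by
  unfold tab at h
  split_ifs at h with h1
  · simpa [Nat.blt_eq] using h1
  · exact absurd rfl h

/-- the Coxeter matrix of a simply laced diagram -/
def dia (E : List (ℕ × ℕ)) (i j : ℕ) : ℕ := if mem2 i j E || mem2 j i E then 3 else 2

theorem no_loop [Finite G] (E : Env G A m ι mat) {per : List Stp} (hne : per ≠ []) {r : List (ℕ × ℕ)} {s0 s1 : St}
    (h1 : runs mat per s0 = some s1) (h2 : sub r s0 s1 = true) : ∀ n, ¬ Good G A ι s0 n := by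
  intro n
  induction n using Nat.strong_induction_on with
  | _ n ih =>
    intro hG
    obtain ⟨n', h3, h4⟩ := runs_sound E h1 hG
    have h5 : 0 < per.length := List.length_pos_iff.2 hne
    exact ih n' (by omega) (sub_sound h2 h4)

theorem no_of_check [Finite G] (E : Env G A m ι mat) {k : ℕ} {pre per : List Stp} {r : List (ℕ × ℕ)}
    (h : check mat k pre per r = true) (n : ℕ) : ¬ Good G A ι (init k) n := by
  intro hG
  unfold check at h
  split at h
  · exact absurd h (by simp)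
  rename_i s0 h0
  split at h
  · exact absurd h (by simp)
  rename_i s1 h1
  simp only [Bool.and_eq_true, Bool.not_eq_true', List.isEmpty_eq_false_iff] at h
  obtain ⟨n', -, h3⟩ := runs_sound E h0 hG
  exact no_loop E h.2 h1 h.1 n' h3

/-- the initial state -/
theorem good_init (h : CS G A m) {c0 : C} {k : ℕ} (inj : ∀ i < k, ∀ j < k, ι i = ι j → i = j)
    (hI : Ind (MulAction.stabilizer G c0) {i | ∃ l < k, ι l = i} (fun l g => lam A l c0 g)) :
    Good G A ι (init k) (Nat.card (MulAction.stabilizer G c0)) := by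
  classical
  refine ⟨MulAction.stabilizer G c0, fun _ => c0, rfl, ⟨?_, ?_⟩, ?_, ?_⟩
  · intro a i b hab
    simp [init] at hab
  · intro v _ g hg
    exact hg
  · intro p hp
    simp only [init, List.mem_map, List.mem_range] at hp ⊢
    obtain ⟨l, -, rfl⟩ := hp
    simp
  · refine hI.map (fun p => ι p.2) ?_ (fun p _ g _ => rfl) ?_
    · intro p hp
      simp only [init, List.mem_map, List.mem_range, Set.mem_setOf_eq] at hp
      obtain ⟨l, hl, rfl⟩ := hp
      exact ⟨l, hl, rfl⟩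
    · intro p hp q hq hpq
      simp only [init, List.mem_map, List.mem_range, Set.mem_setOf_eq] at hp hq
      obtain ⟨l, hl, rfl⟩ := hp
      obtain ⟨l', hl', rfl⟩ := hq
      rw [inj l hl l' hl' hpq]

/-- the environment -/
theorem env (h : CS G A m) (htr : ∀ x y : C, ∃ g : G, g • x = y) {c0 : C} {k : ℕ}
    (inj : ∀ i < k, ∀ j < k, ι i = ι j → i = j)
    (hI : Ind (MulAction.stabilizer G c0) {i | ∃ l < k, ι l = i} (fun l g => lam A l c0 g))
    (hlt : ∀ i j, mat i j ≠ 0 → i < k ∧ j < k ∧ i ≠ j) (hmat : ∀ i j, mat i j ≠ 0 → m (ι i) (ι j) = mat i j) :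
    Env G A m ι mat := by
  have ne : ∀ i j, mat i j ≠ 0 → ι i ≠ ι j := fun i j h0 h1 =>
    (hlt i j h0).2.2 (inj i (hlt i j h0).1 j (hlt i j h0).2.1 h1)
  refine ⟨h, fun i j h2 => ?_, fun i j h3 => ?_, ?_⟩
  · have h0 : mat i j ≠ 0 := by rw [h2]; decide
    exact ⟨ne i j h0, (hmat i j h0).trans h2⟩
  · have h0 : mat i j ≠ 0 := by rw [h3]; decide
    exact ⟨ne i j h0, (hmat i j h0).trans h3⟩
  · intro i j l hij hil hjl a b c d a' b' c' d' h1 h2 h3 h4 h5 h6 h7 h8 h9 h10 h11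
    have k1 : mat i j ≠ 0 := by rw [hij]; decide
    have k2 : mat i l ≠ 0 := by rw [hil]; decide
    have k3 : mat j l ≠ 0 := by rw [hjl]; decide
    have m1 : m (ι i) (ι j) = 2 := (hmat i j k1).trans hij
    have m2 : m (ι i) (ι l) = 2 := (hmat i l k2).trans hil
    have m3 : m (ι j) (ι l) = 2 := (hmat j l k3).trans hjl
    have fi := flex_of_ind h htr hI ⟨i, (hlt i j k1).1, rfl⟩ ⟨j, (hlt i j k1).2.1, rfl⟩ ⟨l, (hlt i l k2).2.1, rfl⟩
      (ne i j k1) (ne i l k2) (ne j l k3)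
    have fj := flex_of_ind h htr hI ⟨j, (hlt i j k1).2.1, rfl⟩ ⟨i, (hlt i j k1).1, rfl⟩ ⟨l, (hlt i l k2).2.1, rfl⟩
      (ne i j k1).symm (ne j l k3) (ne i l k2)
    have fk := flex_of_ind h htr hI ⟨l, (hlt i l k2).2.1, rfl⟩ ⟨i, (hlt i j k1).1, rfl⟩ ⟨j, (hlt i j k1).2.1, rfl⟩
      (ne i l k2).symm (ne j l k3).symm (ne i j k1)
    exact cube h htr fi fj fk (ne i j k1) m1 (ne i l k2) m2 (ne j l k3) m3 h1 h2 h3 h4 h5 h6 h7 h8 h9 h10 h11

/-- **Certificates.** -/
theorem no [Finite G] (h : CS G A m) (htr : ∀ x y : C, ∃ g : G, g • x = y) {c0 : C} {k : ℕ}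
    (inj : ∀ i < k, ∀ j < k, ι i = ι j → i = j)
    (hI : Ind (MulAction.stabilizer G c0) {i | ∃ l < k, ι l = i} (fun l g => lam A l c0 g))
    (hlt : ∀ i j, mat i j ≠ 0 → i < k ∧ j < k ∧ i ≠ j) (hmat : ∀ i j, mat i j ≠ 0 → m (ι i) (ι j) = mat i j)
    {pre per : List Stp} {r : List (ℕ × ℕ)} (hc : check mat k pre per r = true) : False :=
  no_of_check (env h htr inj hI hlt hmat) hc _ (good_init h inj hI)

end Cfsg.Agent.Omega.EH3.NonSph.Vm
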