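import Cfsg.Agent.Omega.EH3.NonSph.Cert

/-!
# The certificate for the affine diagram of type E6 (bb #12580)

nodes `0, …, 6`, edges `01 12 03 34 05 56`; generated by a search program, checked here by the kernel.
-/

set_option autoImplicit false

namespace Cfsg.Agent.Omega.EH3.NonSph.Vm.E6

def s0 : Stp := ⟨(0, 0), [], 0, 0, 1,
  [],
  [⟨0, 0, 1, 1, (0, 1), [], []⟩, ⟨0, 0, 1, 3, (0, 3), [], []⟩, ⟨0, 0, 1, 5, (0, 5), [], []⟩],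
  [0, 1],
  [⟨(0, 1), []⟩, ⟨(0, 2), []⟩, ⟨(0, 3), []⟩, ⟨(0, 4), []⟩, ⟨(0, 5), []⟩, ⟨(0, 6), []⟩, ⟨(1, 1), []⟩, ⟨(1, 3), []⟩,
  ⟨(1, 5), []⟩]⟩

def s1 : Stp := ⟨(1, 1), [], 1, 1, 2,
  [],
  [⟨1, 1, 2, 2, (0, 2), [], [.l2 0 1]⟩],
  [0, 1, 2],
  [⟨(0, 1), []⟩, ⟨(0, 2), []⟩, ⟨(0, 3), []⟩, ⟨(0, 4), []⟩, ⟨(0, 5), []⟩, ⟨(0, 6), []⟩, ⟨(1, 3), []⟩, ⟨(1, 5), []⟩,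
  ⟨(2, 2), []⟩]⟩

def s2 : Stp := ⟨(1, 3), [.l2 1 2], 2, 3, 3,
  [.sq 1 1 2 3 3 4],
  [⟨1, 3, 4, 4, (0, 4), [.l2 1 1], [.l2 0 1]⟩, ⟨2, 3, 3, 0, (0, 1), [], [.l3 0 1 2]⟩],
  [0, 1, 2, 3, 4],
  [⟨(0, 1), []⟩, ⟨(0, 2), []⟩, ⟨(0, 3), []⟩, ⟨(0, 4), []⟩, ⟨(0, 5), []⟩, ⟨(0, 6), []⟩, ⟨(1, 5), []⟩, ⟨(2, 2), []⟩,
  ⟨(4, 4), []⟩, ⟨(3, 0), []⟩]⟩

def s3 : Stp := ⟨(3, 0), [], 3, 0, 5,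
  [],
  [⟨3, 0, 5, 5, (1, 5), [], [.l2 3 4, .l2 1 3]⟩],
  [1, 2, 3, 4, 5],
  [⟨(0, 1), [.l3 0 1 2]⟩, ⟨(0, 2), [.l2 0 1]⟩, ⟨(0, 3), [.l3 0 1 4]⟩, ⟨(0, 4), [.l2 0 1]⟩, ⟨(0, 6), [.l2 0 1]⟩,
  ⟨(1, 5), []⟩, ⟨(2, 2), []⟩, ⟨(4, 4), []⟩, ⟨(5, 5), []⟩]⟩

def s4 : Stp := ⟨(2, 2), [.l2 3 3, .l2 0 5], 5, 2, 6,
  [.sq 3 0 5 2 6 7, .sq 2 3 3 2 7 8],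
  [⟨5, 2, 6, 1, (4, 0), [], [.l3 1 3 5]⟩],
  [2, 3, 5, 6, 7, 8],
  [⟨(2, 0), []⟩, ⟨(1, 2), [.l3 1 2 8, .l2 3 7]⟩, ⟨(4, 0), [.l3 1 3 5]⟩, ⟨(1, 4), [.l2 1 2]⟩, ⟨(1, 6), [.l2 1 2]⟩,
  ⟨(1, 5), [.l2 1 2]⟩, ⟨(4, 4), [.l2 1 3]⟩, ⟨(5, 5), []⟩, ⟨(6, 1), []⟩]⟩

def s5 : Stp := ⟨(6, 1), [], 6, 1, 9,
  [],
  [],
  [3, 5, 6, 7, 9],
  [⟨(2, 0), [.l3 3 3 5]⟩, ⟨(7, 1), []⟩, ⟨(5, 1), []⟩, ⟨(2, 6), [.l2 3 3]⟩, ⟨(2, 5), [.l2 3 3]⟩, ⟨(3, 4), []⟩,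
  ⟨(5, 5), []⟩]⟩

def s6 : Stp := ⟨(5, 5), [.l2 2 6, .l2 1 9], 9, 5, 10,
  [.sq 6 1 9 5 10 11, .sq 5 2 6 5 11 12],
  [⟨5, 5, 12, 6, (3, 6), [.l2 1 6, .l2 2 5], [.l2 0 5]⟩, ⟨9, 5, 10, 0, (7, 1), [], [.l3 0 6 9]⟩],
  [5, 6, 9, 10, 11, 12],
  [⟨(5, 3), []⟩, ⟨(7, 1), [.l3 0 6 9]⟩, ⟨(5, 1), []⟩, ⟨(3, 6), [.l2 0 5]⟩, ⟨(3, 5), [.l2 2 7, .l3 0 6 11]⟩,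
  ⟨(3, 4), [.l2 0 5]⟩, ⟨(12, 6), []⟩, ⟨(10, 0), []⟩]⟩

def s7 : Stp := ⟨(10, 0), [], 10, 0, 13,
  [],
  [⟨10, 0, 13, 3, (5, 3), [], [.l2 2 6, .l2 5 11, .l2 1 10]⟩],
  [6, 9, 10, 11, 13],
  [⟨(5, 3), [.l2 2 6]⟩, ⟨(9, 0), []⟩, ⟨(5, 1), [.l3 2 6 9]⟩, ⟨(5, 6), [.l2 2 6]⟩, ⟨(11, 0), []⟩, ⟨(5, 4), [.l2 2 6]⟩,
  ⟨(12, 6), [.l2 2 11, .l2 1 10]⟩, ⟨(13, 3), []⟩]⟩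

def s8 : Stp := ⟨(10, 6), [.l2 0 13], 13, 6, 14,
  [.sq 10 0 13 6 14 15, .sq 15 6 10 1 11 16],
  [⟨13, 6, 14, 5, (9, 0), [], [.l3 5 10 13]⟩],
  [9, 10, 13, 14, 15],
  [⟨(6, 3), [.l2 1 9]⟩, ⟨(9, 0), []⟩, ⟨(9, 2), []⟩, ⟨(6, 6), [.l2 1 9]⟩, ⟨(11, 0), [.l3 1 10 13]⟩,
  ⟨(6, 4), [.l2 1 9]⟩, ⟨(13, 3), []⟩, ⟨(14, 5), []⟩]⟩

def s9 : Stp := ⟨(13, 3), [.l2 6 14], 14, 3, 17,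
  [.sq 13 6 14 3 17 18],
  [⟨13, 3, 18, 4, (9, 4), [.l2 6 13], [.l2 5 10, .l2 0 13]⟩],
  [10, 13, 14, 15, 17, 18],
  [⟨(9, 3), [.l2 5 10]⟩, ⟨(9, 0), [.l3 5 10 13]⟩, ⟨(9, 2), [.l2 5 10]⟩, ⟨(9, 6), [.l3 5 10 15]⟩, ⟨(13, 1), []⟩,
  ⟨(9, 4), [.l2 5 10]⟩, ⟨(14, 5), []⟩, ⟨(18, 4), []⟩]⟩

def s10 : Stp := ⟨(14, 5), [.l2 3 17], 17, 5, 19,
  [.sq 14 3 17 5 19 20],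
  [⟨17, 5, 19, 0, (10, 3), [], [.l2 6 15, .l3 0 14 17]⟩],
  [13, 14, 17, 18, 19, 20],
  [⟨(10, 3), [.l2 6 15, .l3 0 14 17]⟩, ⟨(13, 5), []⟩, ⟨(10, 2), [.l2 0 13]⟩, ⟨(15, 5), [.l3 0 14 20]⟩, ⟨(13, 1), []⟩,
  ⟨(10, 4), [.l2 0 13]⟩, ⟨(18, 4), []⟩, ⟨(19, 0), []⟩]⟩

def s11 : Stp := ⟨(19, 0), [], 19, 0, 21,
  [],
  [⟨19, 0, 21, 1, (13, 1), [], [.l2 6 14, .l2 5 20, .l2 3 19]⟩],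
  [14, 17, 19, 20, 21],
  [⟨(17, 0), []⟩, ⟨(13, 5), [.l3 6 14 20, .l2 3 19]⟩, ⟨(13, 2), [.l2 6 14]⟩, ⟨(20, 0), []⟩, ⟨(13, 1), [.l2 6 14]⟩,
  ⟨(13, 4), [.l2 6 14]⟩, ⟨(18, 4), [.l2 6 17]⟩, ⟨(21, 1), []⟩]⟩

def s12 : Stp := ⟨(17, 4), [.l2 5 19, .l2 0 21], 21, 4, 22,
  [.sq 19 0 21 4 22 23, .sq 17 5 19 4 23 24],
  [⟨21, 4, 22, 3, (20, 0), [], [.l3 3 19 21]⟩],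
  [17, 19, 21, 22, 23, 24],
  [⟨(17, 0), []⟩, ⟨(19, 6), []⟩, ⟨(14, 2), [.l2 3 17]⟩, ⟨(20, 0), [.l3 3 19 21]⟩, ⟨(14, 1), [.l2 3 17]⟩,
  ⟨(14, 4), [.l3 3 17 24, .l2 5 23]⟩, ⟨(21, 1), []⟩, ⟨(22, 3), []⟩]⟩

def s13 : Stp := ⟨(21, 1), [.l2 4 22], 22, 1, 25,
  [.sq 21 4 22 1 25 26],
  [⟨21, 1, 26, 2, (17, 2), [.l2 4 21], [.l2 5 19, .l2 0 21]⟩],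
  [19, 21, 22, 23, 25, 26],
  [⟨(17, 0), [.l3 5 19 21]⟩, ⟨(19, 6), []⟩, ⟨(17, 2), [.l2 5 19]⟩, ⟨(21, 3), []⟩, ⟨(17, 1), [.l2 5 19]⟩,
  ⟨(23, 3), []⟩, ⟨(22, 3), []⟩, ⟨(26, 2), []⟩]⟩

def s14 : Stp := ⟨(22, 3), [.l2 1 25], 25, 3, 27,
  [.sq 27 3 25 1 22 28],
  [⟨25, 3, 27, 0, (19, 1), [], [.l2 4 23, .l3 0 22 25]⟩],
  [21, 22, 25, 26, 27, 28],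
  [⟨(21, 5), []⟩, ⟨(19, 6), [.l2 0 21]⟩, ⟨(19, 2), [.l2 0 21]⟩, ⟨(21, 3), []⟩, ⟨(19, 1), [.l3 0 21 26, .l2 4 25]⟩,
  ⟨(23, 3), [.l3 0 22 28]⟩, ⟨(26, 2), []⟩, ⟨(27, 0), []⟩]⟩

def s15 : Stp := ⟨(27, 0), [], 27, 0, 29,
  [],
  [⟨27, 0, 29, 5, (21, 5), [], [.l2 1 26, .l2 4 25, .l2 3 27]⟩],
  [22, 25, 27, 28, 29],
  [⟨(21, 5), [.l2 4 22]⟩, ⟨(21, 6), [.l2 4 22]⟩, ⟨(21, 2), [.l2 4 22]⟩, ⟨(21, 3), [.l2 1 26, .l3 4 25 27]⟩,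
  ⟨(25, 0), []⟩, ⟨(28, 0), []⟩, ⟨(26, 2), [.l2 4 25]⟩, ⟨(29, 5), []⟩]⟩

def s16 : Stp := ⟨(25, 2), [.l2 3 27, .l2 0 29], 29, 2, 30,
  [.sq 27 0 29 2 30 31, .sq 31 2 27 3 25 32],
  [⟨29, 2, 30, 1, (28, 0), [], [.l3 1 27 29]⟩],
  [25, 27, 29, 30, 31, 32],
  [⟨(22, 5), [.l2 1 25]⟩, ⟨(22, 6), [.l2 1 25]⟩, ⟨(22, 2), [.l3 1 25 32, .l2 3 31]⟩, ⟨(27, 4), []⟩, ⟨(25, 0), []⟩,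
  ⟨(28, 0), [.l3 1 27 29]⟩, ⟨(29, 5), []⟩, ⟨(30, 1), []⟩]⟩

def s17 : Stp := ⟨(30, 1), [], 30, 1, 33,
  [],
  [],
  [27, 29, 30, 31, 33],
  [⟨(25, 5), [.l2 3 27]⟩, ⟨(25, 6), [.l2 3 27]⟩, ⟨(31, 1), []⟩, ⟨(27, 4), []⟩, ⟨(25, 0), [.l3 3 27 29]⟩,
  ⟨(29, 1), []⟩, ⟨(29, 5), []⟩]⟩

def pre : List Stp := [s0, s1, s2, s3, s4, s5]

def per : List Stp := [s6, s7, s8, s9, s10, s11, s12, s13, s14, s15, s16, s17]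

def ren : List (ℕ × ℕ) := [(3, 27), (5, 29), (6, 30), (7, 31), (9, 33)]

def mat : ℕ → ℕ → ℕ := tab 7 72628234638025257981334843116

theorem ok : check mat 7 pre per ren = true := by decide +kernel

end Cfsg.Agent.Omega.EH3.NonSph.Vm.E6
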