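import Cfsg.Agent.Omega.EH3.NonSph.Cert

/-!
# The certificate for the affine diagram of type E7 (bb #12580)

nodes `0, …, 7`, edges `01 12 23 34 45 56 37`; generated by a search program, checked here by the kernel.
-/

set_option autoImplicit false

namespace Cfsg.Agent.Omega.EH3.NonSph.Vm.E7

def s0 : Stp := ⟨(0, 0), [], 0, 0, 1,
  [],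
  [⟨0, 0, 1, 1, (0, 1), [], []⟩],
  [0, 1],
  [⟨(0, 1), []⟩, ⟨(0, 2), []⟩, ⟨(0, 3), []⟩, ⟨(0, 4), []⟩, ⟨(0, 5), []⟩, ⟨(0, 6), []⟩, ⟨(0, 7), []⟩, ⟨(1, 1), []⟩]⟩

def s1 : Stp := ⟨(1, 1), [], 1, 1, 2,
  [],
  [⟨1, 1, 2, 2, (0, 2), [], [.l2 0 1]⟩],
  [0, 1, 2],
  [⟨(0, 1), []⟩, ⟨(0, 2), []⟩, ⟨(0, 3), []⟩, ⟨(0, 4), []⟩, ⟨(0, 5), []⟩, ⟨(0, 6), []⟩, ⟨(0, 7), []⟩, ⟨(2, 2), []⟩]⟩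

def s2 : Stp := ⟨(2, 2), [], 2, 2, 3,
  [],
  [⟨2, 2, 3, 3, (0, 3), [], [.l2 0 1, .l2 1 2]⟩],
  [0, 1, 2, 3],
  [⟨(0, 1), []⟩, ⟨(0, 2), []⟩, ⟨(0, 3), []⟩, ⟨(0, 4), []⟩, ⟨(0, 5), []⟩, ⟨(0, 6), []⟩, ⟨(0, 7), []⟩, ⟨(3, 3), []⟩]⟩

def s3 : Stp := ⟨(3, 3), [], 3, 3, 4,
  [],
  [⟨3, 3, 4, 4, (0, 4), [], [.l2 0 1, .l2 1 2, .l2 2 3]⟩, ⟨3, 3, 4, 7, (0, 7), [], [.l2 0 1, .l2 1 2, .l2 2 3]⟩],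
  [0, 1, 2, 3, 4],
  [⟨(0, 1), []⟩, ⟨(0, 2), []⟩, ⟨(0, 3), []⟩, ⟨(0, 4), []⟩, ⟨(0, 5), []⟩, ⟨(0, 6), []⟩, ⟨(0, 7), []⟩, ⟨(4, 4), []⟩,
  ⟨(4, 7), []⟩]⟩

def s4 : Stp := ⟨(4, 4), [], 4, 4, 5,
  [],
  [⟨4, 4, 5, 5, (0, 5), [], [.l2 0 1, .l2 1 2, .l2 2 3, .l2 3 4]⟩],
  [1, 2, 3, 4, 5],
  [⟨(0, 1), [.l3 0 1 2]⟩, ⟨(0, 2), [.l2 0 1]⟩, ⟨(0, 3), [.l2 0 1]⟩, ⟨(0, 4), [.l2 0 1]⟩, ⟨(0, 5), [.l2 0 1]⟩,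
  ⟨(0, 6), [.l2 0 1]⟩, ⟨(0, 7), [.l2 0 1]⟩, ⟨(4, 7), []⟩, ⟨(5, 5), []⟩]⟩

def s5 : Stp := ⟨(4, 7), [.l2 4 5], 5, 7, 6,
  [.sq 4 4 5 7 6 7],
  [⟨5, 7, 6, 3, (1, 4), [], [.l2 1 2, .l2 2 3, .l3 3 4 5]⟩],
  [2, 3, 4, 5, 6, 7],
  [⟨(2, 0), []⟩, ⟨(1, 2), [.l3 1 2 3]⟩, ⟨(1, 3), [.l2 1 2]⟩, ⟨(1, 4), [.l2 1 2]⟩, ⟨(1, 5), [.l2 1 2]⟩,
  ⟨(1, 6), [.l2 1 2]⟩, ⟨(1, 7), [.l2 1 2]⟩, ⟨(5, 5), []⟩, ⟨(6, 3), []⟩]⟩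

def s6 : Stp := ⟨(6, 3), [], 6, 3, 8,
  [],
  [⟨6, 3, 8, 2, (2, 3), [], [.l3 2 3 4, .l2 4 5, .l2 7 6]⟩],
  [3, 4, 5, 6, 7, 8],
  [⟨(2, 0), [.l2 2 3]⟩, ⟨(3, 1), []⟩, ⟨(2, 3), [.l3 2 3 4]⟩, ⟨(2, 4), [.l2 2 3]⟩, ⟨(2, 5), [.l2 2 3]⟩,
  ⟨(2, 6), [.l2 2 3]⟩, ⟨(2, 7), [.l2 2 3]⟩, ⟨(5, 5), []⟩, ⟨(8, 2), []⟩]⟩

def s7 : Stp := ⟨(5, 5), [.l2 7 6, .l2 3 8], 8, 5, 9,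
  [.sq 6 3 8 5 9 10, .sq 5 7 6 5 10 11],
  [⟨5, 5, 11, 6, (3, 6), [.l2 3 6, .l2 7 5], [.l2 3 4, .l2 4 5]⟩, ⟨8, 5, 9, 4, (3, 7), [], [.l3 3 4 7, .l3 4 6 8]⟩],
  [4, 5, 6, 7, 8, 9, 10, 11],
  [⟨(3, 0), [.l2 3 4]⟩, ⟨(3, 1), [.l2 3 4]⟩, ⟨(4, 2), []⟩, ⟨(3, 4), [.l3 3 4 5]⟩, ⟨(3, 5), [.l2 3 4]⟩,
  ⟨(3, 6), [.l2 3 4]⟩, ⟨(3, 7), [.l3 3 4 7]⟩, ⟨(8, 2), []⟩, ⟨(11, 6), []⟩, ⟨(9, 4), []⟩]⟩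

def s8 : Stp := ⟨(9, 4), [], 9, 4, 12,
  [],
  [],
  [5, 6, 8, 9, 10, 11, 12],
  [⟨(4, 0), [.l2 4 5]⟩, ⟨(4, 1), [.l2 4 5]⟩, ⟨(4, 2), [.l2 4 5]⟩, ⟨(5, 3), []⟩, ⟨(4, 5), [.l3 4 5 11, .l2 7 10]⟩,
  ⟨(4, 6), [.l2 4 5]⟩, ⟨(7, 3), [.l3 4 6 8]⟩, ⟨(8, 2), []⟩, ⟨(11, 6), []⟩]⟩

def s9 : Stp := ⟨(8, 2), [.l2 5 9, .l2 4 12], 12, 2, 13,
  [.sq 9 4 12 2 13 14, .sq 8 5 9 2 14 15],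
  [⟨8, 2, 15, 1, (5, 1), [.l2 4 9, .l2 5 8], [.l2 7 6, .l2 3 8]⟩, ⟨12, 2, 13, 3, (10, 4), [], [.l3 3 9 12]⟩],
  [6, 8, 9, 10, 12, 13, 14, 15],
  [⟨(5, 0), [.l2 7 6]⟩, ⟨(5, 1), [.l2 7 6]⟩, ⟨(5, 2), [.l2 7 6]⟩, ⟨(5, 3), [.l3 7 6 8]⟩, ⟨(10, 4), []⟩,
  ⟨(5, 6), [.l2 7 6]⟩, ⟨(8, 4), []⟩, ⟨(11, 6), [.l2 7 10, .l2 3 9]⟩, ⟨(15, 1), []⟩, ⟨(13, 3), []⟩]⟩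

def s10 : Stp := ⟨(13, 3), [], 13, 3, 16,
  [],
  [⟨13, 3, 16, 7, (8, 7), [], [.l2 2 15, .l2 5 14, .l2 4 13]⟩],
  [8, 9, 12, 13, 14, 15, 16],
  [⟨(6, 0), [.l2 3 8]⟩, ⟨(6, 1), [.l2 3 8]⟩, ⟨(6, 2), [.l3 3 8 15, .l2 5 14]⟩, ⟨(8, 7), []⟩, ⟨(10, 4), [.l3 3 9 12]⟩,
  ⟨(6, 6), [.l2 3 8]⟩, ⟨(8, 4), []⟩, ⟨(9, 6), []⟩, ⟨(15, 1), []⟩, ⟨(16, 7), []⟩]⟩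

def s11 : Stp := ⟨(15, 1), [.l2 5 14, .l2 4 13, .l2 3 16], 16, 1, 17,
  [.sq 13 3 16 1 17 18, .sq 18 1 13 4 14 19, .sq 19 1 14 5 15 20],
  [⟨13, 1, 18, 0, (8, 0), [.l2 3 13], [.l2 2 15, .l2 5 14, .l2 4 13]⟩, ⟨16, 1, 17, 2, (12, 3), [], [.l3 2 13 16]⟩],
  [9, 12, 13, 14, 16, 17, 18, 19],
  [⟨(8, 0), [.l2 5 9]⟩, ⟨(8, 1), [.l2 5 9]⟩, ⟨(14, 3), []⟩, ⟨(8, 7), [.l2 5 9]⟩, ⟨(12, 3), []⟩,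
  ⟨(8, 4), [.l3 5 9 12]⟩, ⟨(9, 6), []⟩, ⟨(16, 7), []⟩, ⟨(18, 0), []⟩, ⟨(17, 2), []⟩]⟩

def s12 : Stp := ⟨(17, 2), [], 17, 2, 21,
  [],
  [],
  [12, 13, 16, 17, 18, 21],
  [⟨(9, 0), [.l2 4 12]⟩, ⟨(9, 1), [.l2 4 12]⟩, ⟨(14, 3), [.l3 4 13 16]⟩, ⟨(9, 7), [.l2 4 12]⟩, ⟨(12, 3), []⟩,
  ⟨(12, 5), []⟩, ⟨(9, 6), [.l2 4 12]⟩, ⟨(16, 7), []⟩, ⟨(18, 0), []⟩]⟩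

def s13 : Stp := ⟨(16, 7), [.l2 1 17, .l2 2 21], 21, 7, 22,
  [.sq 17 2 21 7 22 23, .sq 16 1 17 7 23 24],
  [⟨21, 7, 22, 3, (12, 1), [], [.l3 2 13 18, .l3 3 17 21]⟩],
  [13, 16, 17, 18, 21, 22, 23, 24],
  [⟨(12, 0), [.l2 2 13]⟩, ⟨(12, 1), [.l3 2 13 18]⟩, ⟨(16, 4), []⟩, ⟨(12, 7), [.l2 2 13]⟩, ⟨(12, 3), [.l3 2 13 16]⟩,
  ⟨(12, 5), [.l2 2 13]⟩, ⟨(12, 6), [.l2 2 13]⟩, ⟨(18, 0), []⟩, ⟨(22, 3), []⟩]⟩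

def s14 : Stp := ⟨(22, 3), [], 22, 3, 25,
  [],
  [⟨22, 3, 25, 4, (16, 4), [], [.l2 1 17, .l2 2 21, .l2 7 22]⟩],
  [16, 17, 21, 22, 23, 24, 25],
  [⟨(13, 0), [.l2 3 16]⟩, ⟨(18, 2), [.l3 3 17 21]⟩, ⟨(16, 4), []⟩, ⟨(13, 7), [.l3 3 16 24, .l2 1 23]⟩, ⟨(16, 2), []⟩,
  ⟨(13, 5), [.l2 3 16]⟩, ⟨(13, 6), [.l2 3 16]⟩, ⟨(18, 0), [.l2 3 17]⟩, ⟨(25, 4), []⟩]⟩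

def s15 : Stp := ⟨(17, 0), [.l2 2 21, .l2 7 22, .l2 3 25], 25, 0, 26,
  [.sq 22 3 25 0 26 27, .sq 27 0 22 2 23 28, .sq 27 0 22 7 21 29, .sq 29 7 27 2 28 30,
  .cu 0 7 2 22 27 29 21 23 28 30 17],
  [⟨21, 0, 29, 1, (16, 2), [.l2 3 22, .l2 7 21], [.l3 1 17 21]⟩],
  [17, 21, 22, 23, 25, 26, 27, 28, 29, 30],
  [⟨(16, 0), [.l3 1 17 30, .l2 7 28]⟩, ⟨(21, 3), []⟩, ⟨(16, 4), [.l2 1 17]⟩, ⟨(23, 3), []⟩, ⟨(16, 2), [.l3 1 17 21]⟩,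
  ⟨(16, 5), [.l2 1 17]⟩, ⟨(16, 6), [.l2 1 17]⟩, ⟨(25, 4), []⟩, ⟨(29, 1), []⟩]⟩

def s16 : Stp := ⟨(29, 1), [.l2 7 27, .l2 3 26], 26, 1, 31,
  [.sq 27 3 26 1 31 32, .sq 29 7 27 1 32 33],
  [⟨26, 1, 31, 2, (23, 3), [], [.l2 0 28, .l3 2 27 26]⟩],
  [21, 22, 25, 26, 27, 29, 31, 32, 33],
  [⟨(28, 1), [.l3 2 27 32]⟩, ⟨(21, 3), []⟩, ⟨(17, 4), [.l2 2 21]⟩, ⟨(23, 3), [.l3 2 22 25]⟩, ⟨(21, 1), []⟩,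
  ⟨(17, 5), [.l2 2 21]⟩, ⟨(17, 6), [.l2 2 21]⟩, ⟨(25, 4), []⟩, ⟨(31, 2), []⟩]⟩

def s17 : Stp := ⟨(31, 2), [], 31, 2, 34,
  [],
  [],
  [22, 25, 26, 27, 31, 32, 34],
  [⟨(32, 2), []⟩, ⟨(21, 3), [.l3 7 22 25]⟩, ⟨(21, 4), [.l2 7 22]⟩, ⟨(25, 2), []⟩, ⟨(21, 1), [.l2 7 22]⟩,
  ⟨(21, 5), [.l2 7 22]⟩, ⟨(21, 6), [.l2 7 22]⟩, ⟨(25, 4), []⟩]⟩

def s18 : Stp := ⟨(25, 4), [.l2 0 26, .l2 1 31, .l2 2 34], 34, 4, 35,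
  [.sq 31 2 34 4 35 36, .sq 26 1 31 4 36 37, .sq 25 0 26 4 37 38],
  [⟨25, 4, 38, 5, (22, 5), [.l2 2 31, .l2 1 26, .l2 0 25], [.l2 3 25]⟩, ⟨34, 4, 35, 3, (32, 2), [], [.l3 3 31 34]⟩],
  [25, 26, 31, 34, 35, 36, 37, 38],
  [⟨(32, 2), [.l3 3 31 34]⟩, ⟨(25, 7), []⟩, ⟨(22, 4), [.l2 0 27, .l3 3 26 37, .l2 1 36]⟩, ⟨(25, 2), []⟩,
  ⟨(22, 1), [.l2 3 25]⟩, ⟨(22, 5), [.l2 3 25]⟩, ⟨(22, 6), [.l2 3 25]⟩, ⟨(38, 5), []⟩, ⟨(35, 3), []⟩]⟩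

def s19 : Stp := ⟨(35, 3), [], 35, 3, 39,
  [],
  [⟨35, 3, 39, 7, (25, 7), [], [.l2 0 26, .l2 1 31, .l2 2 34, .l2 4 35]⟩],
  [26, 31, 34, 35, 36, 37, 39],
  [⟨(34, 3), []⟩, ⟨(25, 7), [.l2 0 26]⟩, ⟨(36, 3), []⟩, ⟨(25, 2), [.l2 0 26]⟩, ⟨(25, 1), [.l3 0 26 31]⟩,
  ⟨(25, 5), [.l2 0 26]⟩, ⟨(25, 6), [.l2 0 26]⟩, ⟨(38, 5), [.l2 0 37, .l2 1 36, .l2 2 35]⟩, ⟨(39, 7), []⟩]⟩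

def s20 : Stp := ⟨(35, 5), [.l2 3 39], 39, 5, 40,
  [.sq 35 3 39 5 40 41, .sq 36 2 35 5 41 42, .sq 42 5 36 1 37 43],
  [⟨35, 5, 41, 6, (26, 6), [.l2 3 35], [.l2 1 31, .l2 2 34, .l2 4 35]⟩, ⟨39, 5, 40, 4, (34, 3), [], [.l3 4 35 39]⟩],
  [31, 34, 35, 36, 39, 40, 41, 42],
  [⟨(34, 3), []⟩, ⟨(26, 7), [.l2 1 31]⟩, ⟨(36, 3), []⟩, ⟨(26, 2), [.l3 1 31 34]⟩, ⟨(31, 0), []⟩,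
  ⟨(26, 5), [.l2 1 31]⟩, ⟨(26, 6), [.l2 1 31]⟩, ⟨(39, 7), []⟩, ⟨(41, 6), []⟩, ⟨(40, 4), []⟩]⟩

def s21 : Stp := ⟨(40, 4), [], 40, 4, 44,
  [],
  [],
  [34, 35, 39, 40, 41, 44],
  [⟨(34, 3), []⟩, ⟨(31, 7), [.l2 2 34]⟩, ⟨(36, 3), [.l3 2 35 39]⟩, ⟨(34, 1), []⟩, ⟨(31, 0), [.l2 2 34]⟩,
  ⟨(31, 5), [.l2 2 34]⟩, ⟨(31, 6), [.l2 2 34]⟩, ⟨(39, 7), []⟩, ⟨(41, 6), []⟩]⟩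

def s22 : Stp := ⟨(39, 7), [.l2 5 40, .l2 4 44], 44, 7, 45,
  [.sq 40 4 44 7 45 46, .sq 39 5 40 7 46 47],
  [⟨44, 7, 45, 3, (34, 5), [], [.l3 4 35 41, .l3 3 40 44]⟩],
  [35, 39, 40, 41, 44, 45, 46, 47],
  [⟨(34, 3), [.l3 4 35 39]⟩, ⟨(34, 7), [.l2 4 35]⟩, ⟨(39, 2), []⟩, ⟨(34, 1), [.l2 4 35]⟩, ⟨(34, 0), [.l2 4 35]⟩,
  ⟨(34, 5), [.l3 4 35 41]⟩, ⟨(34, 6), [.l2 4 35]⟩, ⟨(41, 6), []⟩, ⟨(45, 3), []⟩]⟩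

def s23 : Stp := ⟨(45, 3), [], 45, 3, 48,
  [],
  [⟨45, 3, 48, 2, (39, 2), [], [.l2 5 40, .l2 7 46, .l2 4 45]⟩],
  [39, 40, 44, 45, 46, 47, 48],
  [⟨(39, 4), []⟩, ⟨(35, 7), [.l2 5 41, .l3 3 40 46]⟩, ⟨(39, 2), []⟩, ⟨(35, 1), [.l2 3 39]⟩, ⟨(35, 0), [.l2 3 39]⟩,
  ⟨(41, 4), [.l3 3 40 44]⟩, ⟨(35, 6), [.l2 3 39]⟩, ⟨(41, 6), [.l2 3 40]⟩, ⟨(48, 2), []⟩]⟩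

def s24 : Stp := ⟨(40, 6), [.l2 7 46, .l2 4 45, .l2 3 48], 48, 6, 49,
  [.sq 49 6 48 3 45 50, .sq 50 6 45 4 46 51, .sq 50 6 45 7 44 52, .sq 40 7 46 6 51 53,
  .cu 4 7 6 45 46 40 44 50 51 53 52],
  [⟨44, 6, 52, 5, (39, 4), [.l2 3 45, .l2 7 44], [.l3 5 40 44]⟩],
  [40, 44, 45, 46, 48, 49, 50, 51, 52, 53],
  [⟨(39, 4), [.l3 5 40 44]⟩, ⟨(46, 3), []⟩, ⟨(39, 2), [.l2 5 40]⟩, ⟨(39, 1), [.l2 5 40]⟩, ⟨(39, 0), [.l2 5 40]⟩,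
  ⟨(44, 3), []⟩, ⟨(39, 6), [.l3 5 40 53, .l2 7 51]⟩, ⟨(48, 2), []⟩, ⟨(52, 5), []⟩]⟩

def s25 : Stp := ⟨(52, 5), [.l2 7 50, .l2 3 49], 49, 5, 54,
  [.sq 50 3 49 5 54 55, .sq 55 5 50 7 52 56],
  [⟨49, 5, 54, 4, (46, 3), [], [.l3 4 45 48, .l2 6 49]⟩],
  [44, 45, 48, 49, 50, 52, 54, 55, 56],
  [⟨(44, 5), []⟩, ⟨(46, 3), [.l3 4 45 48]⟩, ⟨(40, 2), [.l2 4 44]⟩, ⟨(40, 1), [.l2 4 44]⟩, ⟨(40, 0), [.l2 4 44]⟩,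
  ⟨(44, 3), []⟩, ⟨(51, 5), [.l3 4 50 55]⟩, ⟨(48, 2), []⟩, ⟨(54, 4), []⟩]⟩

def s26 : Stp := ⟨(54, 4), [], 54, 4, 57,
  [],
  [],
  [45, 48, 49, 50, 54, 55, 57],
  [⟨(44, 5), [.l2 7 45]⟩, ⟨(48, 4), []⟩, ⟨(44, 2), [.l2 7 45]⟩, ⟨(44, 1), [.l2 7 45]⟩, ⟨(44, 0), [.l2 7 45]⟩,
  ⟨(44, 3), [.l3 7 45 48]⟩, ⟨(55, 4), []⟩, ⟨(48, 2), []⟩]⟩

def s27 : Stp := ⟨(48, 2), [.l2 6 49, .l2 5 54, .l2 4 57], 57, 2, 58,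
  [.sq 54 4 57 2 58 59, .sq 49 5 54 2 59 60, .sq 60 2 49 6 48 61],
  [⟨48, 2, 61, 1, (45, 1), [.l2 4 54, .l2 5 49, .l2 6 48], [.l2 3 48]⟩, ⟨57, 2, 58, 3, (55, 4), [], [.l3 3 54 57]⟩],
  [48, 49, 54, 57, 58, 59, 60, 61],
  [⟨(45, 5), [.l2 3 48]⟩, ⟨(48, 4), []⟩, ⟨(45, 2), [.l3 3 48 61, .l2 6 60, .l2 5 59]⟩, ⟨(45, 1), [.l2 3 48]⟩,
  ⟨(45, 0), [.l2 3 48]⟩, ⟨(48, 7), []⟩, ⟨(55, 4), [.l3 3 54 57]⟩, ⟨(61, 1), []⟩, ⟨(58, 3), []⟩]⟩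

def s28 : Stp := ⟨(58, 3), [], 58, 3, 62,
  [],
  [⟨58, 3, 62, 7, (48, 7), [], [.l2 2 61, .l2 6 60, .l2 5 59, .l2 4 58]⟩],
  [49, 54, 57, 58, 59, 60, 62],
  [⟨(48, 5), [.l3 6 49 54]⟩, ⟨(48, 4), [.l2 6 49]⟩, ⟨(59, 3), []⟩, ⟨(48, 1), [.l2 6 49]⟩, ⟨(48, 0), [.l2 6 49]⟩,
  ⟨(48, 7), [.l2 6 49]⟩, ⟨(57, 3), []⟩, ⟨(61, 1), [.l2 6 60, .l2 5 59, .l2 4 58]⟩, ⟨(62, 7), []⟩]⟩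

def s29 : Stp := ⟨(58, 1), [.l2 3 62], 62, 1, 63,
  [.sq 58 3 62 1 63 64, .sq 59 4 58 1 64 65, .sq 60 5 59 1 65 66],
  [⟨58, 1, 64, 0, (49, 0), [.l2 3 58], [.l2 2 60, .l2 5 59, .l2 4 58]⟩, ⟨62, 1, 63, 2, (57, 3), [], [.l3 2 58 62]⟩],
  [54, 57, 58, 59, 62, 63, 64, 65],
  [⟨(54, 6), []⟩, ⟨(49, 4), [.l3 5 54 57]⟩, ⟨(59, 3), []⟩, ⟨(49, 1), [.l2 5 54]⟩, ⟨(49, 0), [.l2 5 54]⟩,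
  ⟨(49, 7), [.l2 5 54]⟩, ⟨(57, 3), []⟩, ⟨(62, 7), []⟩, ⟨(64, 0), []⟩, ⟨(63, 2), []⟩]⟩

def s30 : Stp := ⟨(63, 2), [], 63, 2, 67,
  [],
  [],
  [57, 58, 62, 63, 64, 67],
  [⟨(54, 6), [.l2 4 57]⟩, ⟨(57, 5), []⟩, ⟨(59, 3), [.l3 4 58 62]⟩, ⟨(54, 1), [.l2 4 57]⟩, ⟨(54, 0), [.l2 4 57]⟩,
  ⟨(54, 7), [.l2 4 57]⟩, ⟨(57, 3), []⟩, ⟨(62, 7), []⟩, ⟨(64, 0), []⟩]⟩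

def s31 : Stp := ⟨(62, 7), [.l2 1 63, .l2 2 67], 67, 7, 68,
  [.sq 63 2 67 7 68 69, .sq 62 1 63 7 69 70],
  [⟨67, 7, 68, 3, (57, 1), [], [.l3 2 58 64, .l3 3 63 67]⟩],
  [58, 62, 63, 64, 67, 68, 69, 70],
  [⟨(57, 6), [.l2 2 58]⟩, ⟨(57, 5), [.l2 2 58]⟩, ⟨(62, 4), []⟩, ⟨(57, 1), [.l3 2 58 64]⟩, ⟨(57, 0), [.l2 2 58]⟩,
  ⟨(57, 7), [.l2 2 58]⟩, ⟨(57, 3), [.l3 2 58 62]⟩, ⟨(64, 0), []⟩, ⟨(68, 3), []⟩]⟩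

def s32 : Stp := ⟨(68, 3), [], 68, 3, 71,
  [],
  [⟨68, 3, 71, 4, (62, 4), [], [.l2 7 70, .l2 1 69, .l2 2 68]⟩],
  [62, 63, 67, 68, 69, 70, 71],
  [⟨(58, 6), [.l2 3 62]⟩, ⟨(58, 5), [.l2 3 62]⟩, ⟨(62, 4), []⟩, ⟨(64, 2), [.l3 3 63 67]⟩, ⟨(58, 0), [.l2 3 62]⟩,
  ⟨(58, 7), [.l2 1 64, .l3 3 63 69]⟩, ⟨(62, 2), []⟩, ⟨(64, 0), [.l2 3 63]⟩, ⟨(71, 4), []⟩]⟩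

def pre : List Stp := [s0, s1, s2, s3, s4, s5, s6, s7, s8, s9, s10, s11, s12, s13, s14]

def per : List Stp := [s15, s16, s17, s18, s19, s20, s21, s22, s23, s24, s25, s26, s27, s28, s29, s30, s31, s32]

def ren : List (ℕ × ℕ) := [(16, 62), (17, 63), (21, 67), (22, 68), (23, 69), (24, 70), (25, 71)]

def mat : ℕ → ℕ → ℕ := tab 8 57045466914419113017052093125580008108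

theorem ok : check mat 8 pre per ren = true := by decide +kernel

end Cfsg.Agent.Omega.EH3.NonSph.Vm.E7
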