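import Cfsg.Agent.Omega.EH3.NonSph.Cert

/-!
# The certificate for the affine diagram of type E8 (bb #12580)

nodes `0, …, 8`, edges `01 12 23 34 45 56 67 58`; generated by a search program, checked here by the kernel.
-/

set_option autoImplicit false

namespace Cfsg.Agent.Omega.EH3.NonSph.Vm.E8

def s0 : Stp := ⟨(0, 0), [], 0, 0, 1,
  [],
  [⟨0, 0, 1, 1, (0, 1), [], []⟩],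
  [0, 1],
  [⟨(0, 1), []⟩, ⟨(0, 2), []⟩, ⟨(0, 3), []⟩, ⟨(0, 4), []⟩, ⟨(0, 5), []⟩, ⟨(0, 6), []⟩, ⟨(0, 7), []⟩, ⟨(0, 8), []⟩,
  ⟨(1, 1), []⟩]⟩

def s1 : Stp := ⟨(1, 1), [], 1, 1, 2,
  [],
  [⟨1, 1, 2, 2, (0, 2), [], [.l2 0 1]⟩],
  [0, 1, 2],
  [⟨(0, 1), []⟩, ⟨(0, 2), []⟩, ⟨(0, 3), []⟩, ⟨(0, 4), []⟩, ⟨(0, 5), []⟩, ⟨(0, 6), []⟩, ⟨(0, 7), []⟩, ⟨(0, 8), []⟩,
  ⟨(2, 2), []⟩]⟩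

def s2 : Stp := ⟨(2, 2), [], 2, 2, 3,
  [],
  [⟨2, 2, 3, 3, (0, 3), [], [.l2 0 1, .l2 1 2]⟩],
  [0, 1, 2, 3],
  [⟨(0, 1), []⟩, ⟨(0, 2), []⟩, ⟨(0, 3), []⟩, ⟨(0, 4), []⟩, ⟨(0, 5), []⟩, ⟨(0, 6), []⟩, ⟨(0, 7), []⟩, ⟨(0, 8), []⟩,
  ⟨(3, 3), []⟩]⟩

def s3 : Stp := ⟨(3, 3), [], 3, 3, 4,
  [],
  [⟨3, 3, 4, 4, (0, 4), [], [.l2 0 1, .l2 1 2, .l2 2 3]⟩],
  [0, 1, 2, 3, 4],
  [⟨(0, 1), []⟩, ⟨(0, 2), []⟩, ⟨(0, 3), []⟩, ⟨(0, 4), []⟩, ⟨(0, 5), []⟩, ⟨(0, 6), []⟩, ⟨(0, 7), []⟩, ⟨(0, 8), []⟩,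
  ⟨(4, 4), []⟩]⟩

def s4 : Stp := ⟨(4, 4), [], 4, 4, 5,
  [],
  [⟨4, 4, 5, 5, (0, 5), [], [.l2 0 1, .l2 1 2, .l2 2 3, .l2 3 4]⟩],
  [0, 1, 2, 3, 4, 5],
  [⟨(0, 1), []⟩, ⟨(0, 2), []⟩, ⟨(0, 3), []⟩, ⟨(0, 4), []⟩, ⟨(0, 5), []⟩, ⟨(0, 6), []⟩, ⟨(0, 7), []⟩, ⟨(0, 8), []⟩,
  ⟨(5, 5), []⟩]⟩

def s5 : Stp := ⟨(5, 5), [], 5, 5, 6,
  [],
  [⟨5, 5, 6, 6, (0, 6), [], [.l2 0 1, .l2 1 2, .l2 2 3, .l2 3 4, .l2 4 5]⟩, ⟨5, 5, 6, 8, (0, 8), [],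
  [.l2 0 1, .l2 1 2, .l2 2 3, .l2 3 4, .l2 4 5]⟩],
  [0, 1, 2, 3, 4, 5, 6],
  [⟨(0, 1), []⟩, ⟨(0, 2), []⟩, ⟨(0, 3), []⟩, ⟨(0, 4), []⟩, ⟨(0, 5), []⟩, ⟨(0, 6), []⟩, ⟨(0, 7), []⟩, ⟨(0, 8), []⟩,
  ⟨(6, 6), []⟩, ⟨(6, 8), []⟩]⟩

def s6 : Stp := ⟨(6, 6), [], 6, 6, 7,
  [],
  [⟨6, 6, 7, 7, (0, 7), [], [.l2 0 1, .l2 1 2, .l2 2 3, .l2 3 4, .l2 4 5, .l2 5 6]⟩],
  [0, 1, 2, 3, 4, 5, 6, 7],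
  [⟨(0, 1), []⟩, ⟨(0, 2), []⟩, ⟨(0, 3), []⟩, ⟨(0, 4), []⟩, ⟨(0, 5), []⟩, ⟨(0, 6), []⟩, ⟨(0, 7), []⟩, ⟨(0, 8), []⟩,
  ⟨(6, 8), []⟩, ⟨(7, 7), []⟩]⟩

def s7 : Stp := ⟨(6, 8), [.l2 6 7], 7, 8, 8,
  [.sq 6 6 7 8 8 9],
  [⟨7, 8, 8, 5, (0, 6), [], [.l2 0 1, .l2 1 2, .l2 2 3, .l2 3 4, .l2 4 5, .l3 5 6 7]⟩],
  [1, 2, 3, 4, 5, 6, 7, 8, 9],
  [⟨(0, 1), [.l3 0 1 2]⟩, ⟨(0, 2), [.l2 0 1]⟩, ⟨(0, 3), [.l2 0 1]⟩, ⟨(0, 4), [.l2 0 1]⟩, ⟨(0, 5), [.l2 0 1]⟩,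
  ⟨(0, 6), [.l2 0 1]⟩, ⟨(0, 7), [.l2 0 1]⟩, ⟨(0, 8), [.l2 0 1]⟩, ⟨(7, 7), []⟩, ⟨(8, 5), []⟩]⟩

def s8 : Stp := ⟨(8, 5), [], 8, 5, 10,
  [],
  [⟨8, 5, 10, 4, (1, 5), [], [.l2 1 2, .l2 2 3, .l2 3 4, .l3 4 5 6, .l2 6 7, .l2 8 8]⟩],
  [2, 3, 4, 5, 6, 7, 8, 9, 10],
  [⟨(2, 0), []⟩, ⟨(1, 2), [.l3 1 2 3]⟩, ⟨(1, 3), [.l2 1 2]⟩, ⟨(1, 4), [.l2 1 2]⟩, ⟨(1, 5), [.l2 1 2]⟩,
  ⟨(1, 6), [.l2 1 2]⟩, ⟨(1, 7), [.l2 1 2]⟩, ⟨(1, 8), [.l2 1 2]⟩, ⟨(7, 7), []⟩, ⟨(10, 4), []⟩]⟩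

def s9 : Stp := ⟨(7, 7), [.l2 8 8, .l2 5 10], 10, 7, 11,
  [.sq 8 5 10 7 11 12, .sq 7 8 8 7 12 13],
  [⟨10, 7, 11, 6, (2, 8), [], [.l2 2 3, .l2 3 4, .l2 4 5, .l3 5 6 9, .l3 6 8 10]⟩],
  [3, 4, 5, 6, 7, 8, 9, 10, 11, 12, 13],
  [⟨(2, 0), [.l2 2 3]⟩, ⟨(3, 1), []⟩, ⟨(2, 3), [.l3 2 3 4]⟩, ⟨(2, 4), [.l2 2 3]⟩, ⟨(2, 5), [.l2 2 3]⟩,
  ⟨(2, 6), [.l2 2 3]⟩, ⟨(2, 7), [.l2 2 3]⟩, ⟨(2, 8), [.l2 2 3]⟩, ⟨(10, 4), []⟩, ⟨(11, 6), []⟩]⟩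

def s10 : Stp := ⟨(11, 6), [], 11, 6, 14,
  [],
  [],
  [4, 5, 6, 7, 8, 9, 10, 11, 12, 13, 14],
  [⟨(3, 0), [.l2 3 4]⟩, ⟨(3, 1), [.l2 3 4]⟩, ⟨(4, 2), []⟩, ⟨(3, 4), [.l3 3 4 5]⟩, ⟨(3, 5), [.l2 3 4]⟩,
  ⟨(3, 6), [.l2 3 4]⟩, ⟨(3, 7), [.l2 3 4]⟩, ⟨(3, 8), [.l2 3 4]⟩, ⟨(10, 4), []⟩]⟩

def s11 : Stp := ⟨(10, 4), [.l2 7 11, .l2 6 14], 14, 4, 15,
  [.sq 15 4 14 6 11 16, .sq 10 7 11 4 16 17],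
  [⟨10, 4, 17, 3, (5, 3), [.l2 6 11, .l2 7 10], [.l2 5 6, .l2 6 7, .l2 8 8, .l2 5 10]⟩, ⟨14, 4, 15, 5, (4, 7), [],
  [.l2 4 5, .l2 5 6, .l3 6 7 13, .l2 8 12, .l3 5 11 14]⟩],
  [5, 6, 7, 8, 9, 10, 11, 12, 13, 14, 15, 16, 17],
  [⟨(4, 0), [.l2 4 5]⟩, ⟨(4, 1), [.l2 4 5]⟩, ⟨(4, 2), [.l2 4 5]⟩, ⟨(5, 3), []⟩, ⟨(4, 5), [.l3 4 5 6]⟩,
  ⟨(4, 6), [.l2 4 5]⟩, ⟨(4, 7), [.l2 4 5]⟩, ⟨(4, 8), [.l2 4 5]⟩, ⟨(17, 3), []⟩, ⟨(15, 5), []⟩]⟩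

def s12 : Stp := ⟨(15, 5), [], 15, 5, 18,
  [],
  [⟨15, 5, 18, 8, (5, 6), [], [.l3 5 6 7, .l2 7 13, .l3 8 12 11, .l2 6 14, .l2 4 15]⟩],
  [6, 7, 8, 9, 10, 11, 12, 13, 14, 15, 16, 17, 18],
  [⟨(5, 0), [.l2 5 6]⟩, ⟨(5, 1), [.l2 5 6]⟩, ⟨(5, 2), [.l2 5 6]⟩, ⟨(5, 3), [.l2 5 6]⟩, ⟨(6, 4), []⟩,
  ⟨(5, 6), [.l3 5 6 7]⟩, ⟨(5, 7), [.l2 5 6]⟩, ⟨(5, 8), [.l3 5 6 9]⟩, ⟨(17, 3), []⟩, ⟨(18, 8), []⟩]⟩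

def s13 : Stp := ⟨(17, 3), [.l2 7 16, .l2 6 15, .l2 5 18], 18, 3, 19,
  [.sq 15 5 18 3 19 20, .sq 20 3 15 6 16 21, .sq 17 7 16 3 21 22],
  [⟨15, 3, 20, 2, (6, 2), [.l2 5 15], [.l2 6 7, .l2 7 13, .l2 8 12, .l2 5 11, .l2 6 14, .l2 4 15]⟩,
  ⟨18, 3, 19, 4, (6, 7), [], [.l3 6 7 13, .l2 8 12, .l3 5 11 14, .l3 4 15 18]⟩],
  [7, 8, 10, 11, 12, 13, 14, 15, 16, 17, 18, 19, 20, 21, 22],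
  [⟨(6, 0), [.l2 6 7]⟩, ⟨(6, 1), [.l2 6 7]⟩, ⟨(6, 2), [.l2 6 7]⟩, ⟨(6, 3), [.l2 6 7]⟩, ⟨(6, 4), [.l2 6 7]⟩,
  ⟨(7, 5), []⟩, ⟨(6, 7), [.l3 6 7 13, .l2 8 12]⟩, ⟨(9, 5), [.l3 6 8 10]⟩, ⟨(18, 8), []⟩, ⟨(20, 2), []⟩,
  ⟨(19, 4), []⟩]⟩

def s14 : Stp := ⟨(19, 4), [], 19, 4, 23,
  [],
  [],
  [8, 10, 11, 12, 14, 15, 16, 17, 18, 19, 20, 21, 22, 23],
  [⟨(7, 0), [.l2 8 8]⟩, ⟨(7, 1), [.l2 8 8]⟩, ⟨(7, 2), [.l2 8 8]⟩, ⟨(7, 3), [.l2 8 8]⟩, ⟨(7, 4), [.l2 8 8]⟩,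
  ⟨(7, 5), [.l3 8 8 10]⟩, ⟨(12, 6), []⟩, ⟨(10, 6), []⟩, ⟨(18, 8), []⟩, ⟨(20, 2), []⟩]⟩

def s15 : Stp := ⟨(18, 8), [.l2 3 19, .l2 4 23], 23, 8, 24,
  [.sq 19 4 23 8 24 25, .sq 18 3 19 8 25 26],
  [⟨23, 8, 24, 5, (8, 3), [], [.l2 5 10, .l2 7 11, .l2 6 14, .l3 4 15 20, .l3 5 19 23]⟩],
  [10, 11, 14, 15, 16, 17, 18, 19, 20, 21, 22, 23, 24, 25, 26],
  [⟨(8, 0), [.l2 5 10]⟩, ⟨(8, 1), [.l2 5 10]⟩, ⟨(8, 2), [.l2 5 10]⟩, ⟨(8, 3), [.l2 5 10]⟩,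
  ⟨(8, 4), [.l3 5 10 17, .l2 7 16]⟩, ⟨(10, 8), []⟩, ⟨(12, 6), [.l3 5 11 14]⟩, ⟨(10, 6), []⟩, ⟨(20, 2), []⟩,
  ⟨(24, 5), []⟩]⟩

def s16 : Stp := ⟨(24, 5), [], 24, 5, 27,
  [],
  [⟨24, 5, 27, 6, (16, 5), [], [.l2 3 21, .l3 6 20 19, .l2 8 25, .l2 4 24]⟩],
  [11, 14, 15, 16, 18, 19, 20, 21, 23, 24, 25, 26, 27],
  [⟨(10, 0), [.l2 7 11]⟩, ⟨(10, 1), [.l2 7 11]⟩, ⟨(10, 2), [.l2 7 11]⟩, ⟨(10, 3), [.l2 7 11]⟩, ⟨(16, 5), []⟩,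
  ⟨(10, 8), [.l2 7 11]⟩, ⟨(14, 5), []⟩, ⟨(10, 6), [.l3 7 11 14]⟩, ⟨(20, 2), []⟩, ⟨(27, 6), []⟩]⟩

def s17 : Stp := ⟨(20, 2), [.l2 5 19, .l2 8 25, .l2 4 24, .l2 5 27], 27, 2, 28,
  [.sq 24 5 27 2 28 29, .sq 23 8 24 2 29 30, .sq 30 2 23 4 19 31, .sq 31 2 19 5 20 32, .sq 31 2 19 8 25 33,
  .sq 21 6 20 2 32 34, .cu 4 8 2 23 19 25 24 30 31 33 29],
  [⟨19, 2, 31, 1, (11, 1), [.l2 5 24, .l2 8 23, .l2 4 19], [.l2 6 14, .l2 4 15, .l2 5 18, .l2 3 19]⟩,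
  ⟨23, 2, 30, 3, (14, 5), [.l2 5 24, .l2 8 23], [.l3 4 15 18, .l3 3 19 23]⟩],
  [14, 15, 18, 19, 20, 23, 24, 25, 26, 27, 28, 29, 30, 31, 32, 33],
  [⟨(11, 0), [.l2 6 14]⟩, ⟨(11, 1), [.l2 6 14]⟩, ⟨(11, 2), [.l2 6 14]⟩, ⟨(11, 3), [.l2 6 14]⟩,
  ⟨(16, 5), [.l3 6 15 18]⟩, ⟨(11, 8), [.l2 6 14]⟩, ⟨(14, 5), []⟩, ⟨(14, 7), []⟩, ⟨(27, 6), []⟩, ⟨(31, 1), []⟩,
  ⟨(30, 3), []⟩]⟩

def s18 : Stp := ⟨(30, 3), [.l2 8 29, .l2 5 28], 28, 3, 35,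
  [.sq 29 5 28 3 35 36, .sq 30 8 29 3 36 37],
  [⟨28, 3, 35, 4, (14, 8), [], [.l2 4 15, .l3 5 18 26, .l2 3 25, .l3 4 24 27, .l2 2 28]⟩],
  [15, 18, 19, 20, 23, 24, 25, 26, 27, 28, 29, 30, 31, 32, 33, 35, 36, 37],
  [⟨(14, 0), [.l2 4 15]⟩, ⟨(14, 1), [.l2 4 15]⟩, ⟨(14, 2), [.l2 4 15]⟩, ⟨(14, 3), [.l3 4 15 20]⟩, ⟨(18, 6), []⟩,
  ⟨(14, 8), [.l2 4 15]⟩, ⟨(14, 5), [.l3 4 15 18]⟩, ⟨(14, 7), [.l2 4 15]⟩, ⟨(27, 6), []⟩, ⟨(31, 1), []⟩,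
  ⟨(35, 4), []⟩]⟩

def s19 : Stp := ⟨(35, 4), [], 35, 4, 38,
  [],
  [],
  [18, 19, 23, 24, 25, 26, 27, 28, 29, 30, 31, 33, 35, 36, 37, 38],
  [⟨(15, 0), [.l2 5 18]⟩, ⟨(15, 1), [.l2 5 18]⟩, ⟨(15, 2), [.l2 5 18]⟩, ⟨(20, 4), [.l3 5 19 23]⟩, ⟨(18, 6), []⟩,
  ⟨(15, 8), [.l3 5 18 26, .l2 3 25]⟩, ⟨(18, 4), []⟩, ⟨(15, 7), [.l2 5 18]⟩, ⟨(27, 6), []⟩, ⟨(31, 1), []⟩]⟩

def s20 : Stp := ⟨(31, 1), [.l2 4 30, .l2 3 37, .l2 8 36, .l2 5 35, .l2 4 38], 38, 1, 39,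
  [.sq 35 4 38 1 39 40, .sq 40 1 35 3 28 41, .sq 29 5 28 1 41 42, .sq 33 4 29 1 42 43, .sq 31 8 33 1 43 44,
  .sq 30 8 29 1 42 45, .sq 42 1 29 3 36 46, .sq 45 8 42 3 46 47, .cu 1 8 3 29 42 45 30 36 46 47 37,
  .cu 5 3 1 28 29 36 35 41 42 46 40, .cu 4 8 1 33 29 30 31 43 42 45 44],
  [⟨28, 1, 41, 0, (18, 0), [.l2 4 35, .l2 3 28], [.l2 8 26, .l2 3 25, .l2 4 24, .l2 2 29, .l2 5 28]⟩,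
  ⟨35, 1, 40, 2, (18, 4), [.l2 4 35], [.l2 8 26, .l3 3 25 24, .l3 2 29 36, .l2 5 35]⟩],
  [19, 23, 24, 25, 27, 28, 29, 30, 31, 33, 35, 36, 37, 38, 39, 40, 41, 42, 43, 44, 45, 46, 47],
  [⟨(18, 0), [.l2 3 19]⟩, ⟨(18, 1), [.l2 3 19]⟩, ⟨(18, 2), [.l3 3 19 31]⟩, ⟨(23, 5), []⟩, ⟨(18, 6), [.l2 3 19]⟩,
  ⟨(25, 5), []⟩, ⟨(18, 4), [.l3 3 19 23]⟩, ⟨(18, 7), [.l2 3 19]⟩, ⟨(27, 6), []⟩, ⟨(41, 0), []⟩, ⟨(40, 2), []⟩]⟩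

def s21 : Stp := ⟨(40, 2), [.l2 4 39], 39, 2, 48,
  [.sq 48 2 39 4 40 49, .sq 46 5 40 2 49 50, .sq 50 2 46 8 47 51],
  [⟨39, 2, 48, 3, (25, 5), [], [.l3 4 24 27, .l2 2 28, .l3 3 35 38, .l2 1 39]⟩],
  [23, 24, 27, 28, 29, 30, 35, 36, 37, 38, 39, 40, 41, 42, 45, 46, 47, 48, 49, 50, 51],
  [⟨(19, 0), [.l2 4 23]⟩, ⟨(19, 1), [.l2 4 23]⟩, ⟨(31, 3), [.l3 4 30 37, .l2 8 36]⟩, ⟨(23, 5), []⟩,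
  ⟨(19, 6), [.l2 4 23]⟩, ⟨(25, 5), [.l3 4 24 27]⟩, ⟨(23, 3), []⟩, ⟨(19, 7), [.l2 4 23]⟩, ⟨(27, 6), []⟩,
  ⟨(41, 0), []⟩, ⟨(48, 3), []⟩]⟩

def s22 : Stp := ⟨(48, 3), [], 48, 3, 52,
  [],
  [],
  [24, 27, 28, 29, 35, 36, 38, 39, 40, 41, 42, 46, 48, 49, 50, 52],
  [⟨(23, 0), [.l2 8 24]⟩, ⟨(23, 1), [.l2 8 24]⟩, ⟨(36, 4), []⟩, ⟨(23, 5), [.l3 8 24 27]⟩, ⟨(23, 6), [.l2 8 24]⟩,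
  ⟨(27, 4), []⟩, ⟨(23, 3), [.l2 8 24]⟩, ⟨(23, 7), [.l2 8 24]⟩, ⟨(27, 6), []⟩, ⟨(41, 0), []⟩]⟩

def s23 : Stp := ⟨(27, 6), [.l2 2 28, .l2 1 41, .l2 3 40, .l2 2 49, .l2 4 48, .l2 3 52], 52, 6, 53,
  [.sq 48 3 52 6 53 54, .sq 49 4 48 6 54 55, .sq 40 2 49 6 55 56, .sq 41 3 40 6 56 57, .sq 57 6 41 1 28 58,
  .sq 27 2 28 6 58 59, .sq 56 3 57 1 58 60, .sq 56 6 40 4 39 61, .sq 61 6 39 1 38 62,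
  .cu 6 3 1 41 57 56 40 28 58 60 35, .cu 2 6 4 49 40 56 55 48 39 61 54, .cu 4 6 1 40 39 61 56 35 38 62 60],
  [⟨27, 6, 59, 7, (24, 7), [.l2 3 48, .l2 2 39, .l2 4 40, .l2 1 35, .l2 3 28, .l2 2 27], [.l2 5 27]⟩,
  ⟨38, 6, 62, 5, (36, 4), [.l2 3 48, .l2 2 39, .l2 1 38], [.l3 5 35 38]⟩],
  [27, 28, 35, 38, 39, 40, 41, 48, 49, 52, 53, 54, 55, 56, 57, 58, 59, 60, 61, 62],
  [⟨(24, 0), [.l2 5 27]⟩, ⟨(24, 1), [.l2 5 27]⟩, ⟨(36, 4), [.l3 5 35 38]⟩, ⟨(27, 8), []⟩,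
  ⟨(24, 6), [.l3 5 27 59, .l2 2 58, .l2 3 60, .l2 1 56, .l2 2 55]⟩, ⟨(27, 4), []⟩, ⟨(24, 3), [.l2 5 27]⟩,
  ⟨(24, 7), [.l2 5 27]⟩, ⟨(41, 0), []⟩, ⟨(59, 7), []⟩, ⟨(62, 5), []⟩]⟩

def s24 : Stp := ⟨(62, 5), [.l2 1 61, .l2 2 54, .l2 3 53], 53, 5, 63,
  [.sq 54 3 53 5 63 64, .sq 61 2 54 5 64 65, .sq 62 1 61 5 65 66],
  [⟨53, 5, 63, 4, (27, 1), [], [.l3 2 28 41, .l2 6 57, .l3 3 56 55, .l3 4 54 53]⟩, ⟨53, 5, 63, 8, (27, 8), [],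
  [.l2 2 28, .l2 3 35, .l2 1 40, .l2 6 56, .l2 2 55, .l2 4 54, .l2 3 53]⟩],
  [28, 35, 38, 39, 40, 41, 48, 49, 52, 53, 54, 55, 56, 57, 58, 60, 61, 62, 63, 64, 65, 66],
  [⟨(27, 0), [.l2 2 28]⟩, ⟨(27, 1), [.l3 2 28 41]⟩, ⟨(38, 5), []⟩, ⟨(27, 8), [.l2 2 28]⟩, ⟨(55, 5), []⟩,
  ⟨(27, 4), [.l2 2 28]⟩, ⟨(27, 3), [.l3 2 28 35]⟩, ⟨(27, 7), [.l2 2 28]⟩, ⟨(41, 0), []⟩,
  ⟨(59, 7), [.l2 2 58, .l2 3 60, .l2 4 62, .l2 1 61, .l2 2 54, .l2 3 53]⟩, ⟨(63, 4), []⟩, ⟨(63, 8), []⟩]⟩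

def s25 : Stp := ⟨(63, 4), [], 63, 4, 67,
  [],
  [],
  [35, 38, 39, 40, 48, 49, 52, 53, 54, 55, 56, 60, 61, 62, 63, 64, 65, 66, 67],
  [⟨(28, 0), [.l2 3 35]⟩, ⟨(41, 2), [.l3 3 40 49]⟩, ⟨(38, 5), []⟩, ⟨(28, 8), [.l2 3 35]⟩, ⟨(55, 5), []⟩,
  ⟨(28, 4), [.l3 3 35 38]⟩, ⟨(35, 2), []⟩, ⟨(28, 7), [.l2 3 35]⟩, ⟨(41, 0), [.l2 3 40, .l2 4 39]⟩, ⟨(53, 7), []⟩,
  ⟨(63, 8), []⟩]⟩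

def s26 : Stp := ⟨(53, 7), [.l2 5 63, .l2 4 67], 67, 7, 68,
  [.sq 63 4 67 7 68 69, .sq 53 5 63 7 69 70, .sq 70 7 53 3 54 71, .sq 55 4 54 7 71 72, .sq 61 2 54 7 71 73,
  .sq 62 1 61 7 73 74, .sq 74 7 62 4 60 75, .sq 74 7 62 5 66 76, .sq 56 1 60 7 75 77, .sq 65 1 66 7 76 78,
  .sq 69 5 70 3 71 79, .cu 7 5 3 53 70 69 63 54 71 79 64, .cu 4 7 1 62 60 75 74 61 56 77 73,
  .cu 2 7 4 54 61 73 71 55 56 77 72, .cu 5 7 1 62 66 76 74 61 65 78 73, .cu 2 7 5 61 54 71 73 65 64 79 78],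
  [⟨63, 7, 69, 6, (38, 5), [.l2 4 63], [.l2 1 39, .l3 6 61 65, .l2 2 64, .l2 3 63]⟩],
  [38, 39, 48, 52, 53, 54, 61, 62, 63, 64, 65, 66, 67, 68, 69, 70, 71, 73, 74, 76, 78, 79],
  [⟨(35, 0), [.l2 4 38]⟩, ⟨(49, 3), [.l3 4 48 52]⟩, ⟨(38, 5), []⟩, ⟨(35, 8), [.l2 4 38]⟩, ⟨(55, 5), [.l3 4 54 64]⟩,
  ⟨(38, 3), []⟩, ⟨(35, 2), [.l2 4 38]⟩, ⟨(35, 7), [.l2 4 38]⟩, ⟨(39, 0), []⟩, ⟨(63, 8), []⟩, ⟨(69, 6), []⟩]⟩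

def s27 : Stp := ⟨(69, 6), [.l2 4 68], 68, 6, 80,
  [.sq 69 4 68 6 80 81, .sq 79 3 69 6 81 82, .sq 78 2 79 6 82 83, .sq 83 6 78 1 76 84],
  [⟨68, 6, 80, 5, (52, 4), [], [.l2 6 53, .l3 5 63 67, .l2 7 68]⟩],
  [39, 48, 52, 53, 54, 61, 63, 64, 65, 67, 68, 69, 70, 71, 73, 78, 79, 80, 81, 82, 83],
  [⟨(52, 4), []⟩, ⟨(38, 5), [.l2 1 39]⟩, ⟨(38, 8), [.l2 1 39]⟩, ⟨(64, 4), []⟩, ⟨(38, 3), [.l2 1 39]⟩,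
  ⟨(38, 2), [.l3 1 39 48]⟩, ⟨(38, 7), [.l2 1 39]⟩, ⟨(39, 0), []⟩, ⟨(63, 8), []⟩, ⟨(80, 5), []⟩]⟩

def s28 : Stp := ⟨(80, 5), [], 80, 5, 85,
  [],
  [⟨80, 5, 85, 8, (63, 8), [], [.l2 7 69, .l2 4 68, .l2 6 80]⟩],
  [48, 52, 53, 54, 63, 64, 67, 68, 69, 70, 71, 79, 80, 81, 82, 85],
  [⟨(52, 4), []⟩, ⟨(39, 5), [.l2 2 48]⟩, ⟨(39, 8), [.l2 2 48]⟩, ⟨(64, 4), []⟩, ⟨(39, 3), [.l3 2 48 52]⟩,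
  ⟨(48, 1), []⟩, ⟨(39, 7), [.l2 2 48]⟩, ⟨(39, 0), [.l2 2 48]⟩, ⟨(63, 8), []⟩, ⟨(85, 8), []⟩]⟩

def s29 : Stp := ⟨(85, 8), [], 85, 8, 86,
  [],
  [],
  [52, 53, 63, 67, 68, 69, 70, 80, 81, 85, 86],
  [⟨(52, 4), []⟩, ⟨(48, 5), [.l2 3 52]⟩, ⟨(48, 8), [.l2 3 52]⟩, ⟨(64, 4), [.l3 3 63 67]⟩, ⟨(52, 2), []⟩,
  ⟨(48, 1), [.l2 3 52]⟩, ⟨(48, 7), [.l2 3 52]⟩, ⟨(48, 0), [.l2 3 52]⟩, ⟨(63, 8), []⟩]⟩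

def s30 : Stp := ⟨(63, 8), [.l2 7 69, .l2 6 81, .l2 4 80, .l3 5 85 86], 86, 5, 87,
  [.hx 80 5 85 8 86 87 88 89, .sq 68 6 80 8 88 90, .sq 88 8 80 4 81 91, .sq 69 6 81 8 91 92, .sq 67 7 68 8 90 93,
  .sq 93 8 67 4 63 94, .cu 4 8 6 80 81 91 88 68 69 92 90, .cu 7 8 4 68 67 93 90 69 63 94 92],
  [⟨67, 8, 93, 5, (52, 4), [.l3 8 85 80, .l2 6 68, .l2 7 67], [.l2 6 53, .l3 5 63 67]⟩,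
  ⟨81, 8, 91, 5, (52, 7), [.l3 8 85 80, .l2 4 81], [.l3 6 53 70, .l3 5 69 81]⟩],
  [53, 63, 67, 68, 69, 70, 80, 81, 85, 86, 87, 88, 89, 90, 91, 92, 93, 94],
  [⟨(52, 4), [.l2 6 53]⟩, ⟨(52, 5), [.l3 6 53 63]⟩, ⟨(52, 8), [.l2 6 53]⟩, ⟨(67, 3), []⟩, ⟨(52, 2), [.l2 6 53]⟩,
  ⟨(52, 1), [.l2 6 53]⟩, ⟨(52, 7), [.l3 6 53 70]⟩, ⟨(52, 0), [.l2 6 53]⟩, ⟨(93, 5), []⟩, ⟨(91, 5), []⟩]⟩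

def s31 : Stp := ⟨(93, 5), [.l2 7 90, .l3 6 88 89, .l2 8 87], 87, 6, 95,
  [.sq 89 8 87 6 95 96, .hx 90 6 88 5 89 96 97 98, .sq 97 5 90 7 93 99],
  [⟨87, 6, 95, 7, (63, 6), [], [.l2 8 94, .l3 7 92 91, .l2 4 88, .l2 5 89, .l2 8 87]⟩],
  [63, 67, 68, 69, 80, 81, 85, 86, 87, 88, 89, 90, 91, 92, 93, 94, 95, 96, 97, 98, 99],
  [⟨(53, 4), [.l3 5 63 67]⟩, ⟨(63, 6), []⟩, ⟨(53, 8), [.l2 7 70, .l3 5 69 92]⟩, ⟨(67, 3), []⟩, ⟨(53, 2), [.l2 5 63]⟩,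
  ⟨(53, 1), [.l2 5 63]⟩, ⟨(70, 6), [.l3 5 69 81]⟩, ⟨(53, 0), [.l2 5 63]⟩, ⟨(91, 5), []⟩, ⟨(95, 7), []⟩]⟩

def s32 : Stp := ⟨(91, 5), [.l3 4 88 89, .l2 6 96, .l2 8 95], 95, 4, 100,
  [.sq 87 6 95 4 100 101, .sq 96 8 95 4 100 102, .sq 102 8 100 6 101 103, .cu 4 8 6 95 100 102 96 87 101 103 89,
  .hx 103 4 89 5 88 91 104 105],
  [⟨87, 4, 101, 3, (67, 3), [.l2 6 87], [.l2 7 68, .l2 8 90, .l2 6 88, .l2 5 89, .l2 8 87]⟩,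
  ⟨95, 4, 100, 5, (67, 5), [], [.l2 7 68, .l3 8 90 97, .l2 6 98, .l3 5 96 95]⟩],
  [67, 68, 80, 85, 86, 87, 88, 89, 90, 93, 95, 96, 97, 98, 99, 100, 101, 102, 103],
  [⟨(67, 5), []⟩, ⟨(63, 6), [.l2 4 67]⟩, ⟨(92, 5), [.l3 4 90 97]⟩, ⟨(67, 3), []⟩, ⟨(63, 2), [.l2 4 67]⟩,
  ⟨(63, 1), [.l2 4 67]⟩, ⟨(81, 5), [.l3 4 80 85]⟩, ⟨(63, 0), [.l2 4 67]⟩, ⟨(95, 7), []⟩, ⟨(101, 3), []⟩,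
  ⟨(100, 5), []⟩]⟩

def s33 : Stp := ⟨(100, 5), [], 100, 5, 106,
  [],
  [],
  [68, 80, 85, 86, 87, 88, 89, 90, 95, 96, 97, 98, 100, 101, 102, 103, 106],
  [⟨(67, 5), [.l2 7 68]⟩, ⟨(67, 6), [.l3 7 68 80]⟩, ⟨(97, 4), []⟩, ⟨(67, 3), [.l2 7 68]⟩, ⟨(67, 2), [.l2 7 68]⟩,
  ⟨(67, 1), [.l2 7 68]⟩, ⟨(85, 4), []⟩, ⟨(67, 0), [.l2 7 68]⟩, ⟨(95, 7), []⟩, ⟨(101, 3), []⟩]⟩

def s34 : Stp := ⟨(95, 7), [.l2 4 100, .l2 5 106], 106, 7, 107,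
  [.sq 107 7 106 5 100 108, .sq 102 8 100 7 108 109, .sq 109 7 102 4 96 110, .sq 110 7 96 5 98 111,
  .sq 110 7 96 8 95 112, .cu 4 8 7 102 96 95 100 109 110 112 108],
  [⟨106, 7, 107, 6, (85, 4), [], [.l2 8 86, .l3 5 87 101, .l3 6 100 106]⟩],
  [80, 85, 86, 87, 88, 89, 95, 96, 100, 101, 102, 103, 106, 107, 108, 109, 110, 112],
  [⟨(68, 5), [.l3 6 80 85]⟩, ⟨(80, 7), []⟩, ⟨(97, 4), [.l2 6 98, .l3 5 96 102]⟩, ⟨(68, 3), [.l2 6 80]⟩,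
  ⟨(68, 2), [.l2 6 80]⟩, ⟨(68, 1), [.l2 6 80]⟩, ⟨(85, 4), []⟩, ⟨(68, 0), [.l2 6 80]⟩, ⟨(101, 3), []⟩, ⟨(107, 6), []⟩]⟩

def s35 : Stp := ⟨(107, 6), [], 107, 6, 113,
  [],
  [],
  [85, 86, 87, 95, 100, 101, 106, 107, 108, 112, 113],
  [⟨(85, 6), []⟩, ⟨(80, 7), [.l2 5 85]⟩, ⟨(102, 5), [.l3 8 100 106]⟩, ⟨(80, 3), [.l2 5 85]⟩, ⟨(80, 2), [.l2 5 85]⟩,
  ⟨(80, 1), [.l2 5 85]⟩, ⟨(85, 4), []⟩, ⟨(80, 0), [.l2 5 85]⟩, ⟨(101, 3), []⟩]⟩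

def s36 : Stp := ⟨(101, 3), [.l2 6 100, .l2 5 106, .l2 7 107, .l2 6 113], 113, 3, 114,
  [.sq 107 6 113 3 114 115, .sq 106 7 107 3 115 116, .sq 108 5 107 3 115 117, .sq 117 3 108 7 100 118,
  .sq 118 3 100 6 101 119, .cu 5 7 3 107 108 100 106 115 117 118 116],
  [⟨100, 3, 118, 2, (85, 2), [.l2 6 107, .l2 7 106, .l2 5 100], [.l2 8 86, .l2 5 87, .l2 4 101, .l2 6 100]⟩,
  ⟨106, 3, 116, 4, (85, 6), [.l2 6 107, .l2 7 106], [.l2 8 86, .l3 5 87 95, .l3 4 100 106]⟩],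
  [86, 87, 95, 100, 101, 106, 107, 108, 112, 113, 114, 115, 116, 117, 118, 119],
  [⟨(85, 6), [.l2 8 86]⟩, ⟨(85, 7), [.l2 8 86]⟩, ⟨(106, 8), []⟩, ⟨(85, 3), [.l2 8 86]⟩, ⟨(85, 2), [.l2 8 86]⟩,
  ⟨(85, 1), [.l2 8 86]⟩, ⟨(85, 4), [.l2 8 86]⟩, ⟨(85, 0), [.l2 8 86]⟩, ⟨(118, 2), []⟩, ⟨(116, 4), []⟩]⟩

def s37 : Stp := ⟨(116, 4), [.l2 7 115, .l2 6 114], 114, 4, 120,
  [.sq 115 6 114 4 120 121, .sq 121 4 115 7 116 122],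
  [⟨114, 4, 120, 5, (86, 7), [], [.l2 5 87, .l2 4 101, .l3 6 100 108, .l2 3 117, .l3 5 115 114]⟩],
  [87, 95, 100, 101, 106, 107, 108, 112, 113, 114, 115, 116, 117, 118, 119, 120, 121, 122],
  [⟨(86, 6), [.l3 5 87 95]⟩, ⟨(86, 7), [.l2 5 87]⟩, ⟨(106, 8), []⟩, ⟨(86, 3), [.l2 5 87]⟩, ⟨(86, 2), [.l2 5 87]⟩,
  ⟨(86, 1), [.l2 5 87]⟩, ⟨(86, 4), [.l3 5 87 101]⟩, ⟨(86, 0), [.l2 5 87]⟩, ⟨(118, 2), []⟩, ⟨(120, 5), []⟩]⟩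

def s38 : Stp := ⟨(120, 5), [], 120, 5, 123,
  [],
  [⟨120, 5, 123, 8, (106, 8), [], [.l2 7 107, .l2 6 113, .l2 3 114, .l2 4 120]⟩],
  [95, 100, 106, 107, 108, 112, 113, 114, 115, 116, 117, 118, 120, 121, 122, 123],
  [⟨(95, 5), []⟩, ⟨(87, 7), [.l2 4 101, .l3 6 100 108]⟩, ⟨(106, 8), []⟩, ⟨(87, 3), [.l2 6 95]⟩,
  ⟨(87, 2), [.l2 6 95]⟩, ⟨(87, 1), [.l2 6 95]⟩, ⟨(101, 5), [.l3 6 100 106]⟩, ⟨(87, 0), [.l2 6 95]⟩, ⟨(118, 2), []⟩,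
  ⟨(123, 8), []⟩]⟩

def s39 : Stp := ⟨(118, 2), [.l2 7 117, .l2 5 115, .l2 4 121, .l2 6 120, .l2 5 123], 123, 2, 124,
  [.sq 124 2 123 5 120 125, .sq 114 4 120 2 125 126, .sq 115 6 114 2 126 127, .sq 117 5 115 2 127 128,
  .sq 128 2 117 7 118 129, .sq 121 4 115 2 127 130, .sq 122 7 121 2 130 131, .sq 116 5 118 2 129 132,
  .cu 6 4 2 114 115 121 120 126 127 130 125, .cu 7 5 2 117 118 116 115 128 129 132 127,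
  .cu 4 7 2 121 115 116 122 130 127 132 131],
  [⟨114, 2, 126, 1, (95, 1), [.l2 5 120, .l2 4 114], [.l2 7 112, .l2 4 108, .l2 3 117, .l2 5 115, .l2 6 114]⟩,
  ⟨120, 2, 125, 3, (95, 5), [.l2 5 120], [.l2 7 112, .l3 4 108 107, .l2 6 113, .l3 3 114 120]⟩],
  [100, 106, 107, 108, 113, 114, 115, 116, 117, 118, 120, 121, 122, 123, 124, 125, 126, 127, 128, 129, 130, 131, 132],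
  [⟨(95, 5), [.l3 4 100 106]⟩, ⟨(108, 6), []⟩, ⟨(106, 8), []⟩, ⟨(95, 3), [.l3 4 100 118, .l2 7 117]⟩,
  ⟨(95, 2), [.l2 4 100]⟩, ⟨(95, 1), [.l2 4 100]⟩, ⟨(106, 6), []⟩, ⟨(95, 0), [.l2 4 100]⟩, ⟨(123, 8), []⟩,
  ⟨(126, 1), []⟩, ⟨(125, 3), []⟩]⟩

def s40 : Stp := ⟨(125, 3), [.l2 5 124], 124, 3, 133,
  [.sq 125 5 124 3 133 134, .sq 130 6 125 3 134 135, .sq 131 7 130 3 135 136],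
  [⟨124, 3, 133, 4, (108, 6), [], [.l2 3 117, .l3 5 115 114, .l3 4 120 123, .l2 2 124]⟩],
  [106, 107, 113, 114, 115, 116, 120, 121, 122, 123, 124, 125, 126, 127, 130, 131, 132, 133, 134, 135, 136],
  [⟨(106, 4), []⟩, ⟨(108, 6), [.l3 5 107 113]⟩, ⟨(106, 8), []⟩, ⟨(117, 4), [.l3 5 115 121]⟩, ⟨(100, 2), [.l2 5 106]⟩,
  ⟨(100, 1), [.l2 5 106]⟩, ⟨(106, 6), []⟩, ⟨(100, 0), [.l2 5 106]⟩, ⟨(123, 8), []⟩, ⟨(126, 1), []⟩, ⟨(133, 4), []⟩]⟩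

def s41 : Stp := ⟨(133, 4), [], 133, 4, 137,
  [],
  [],
  [107, 113, 114, 115, 120, 121, 123, 124, 125, 126, 127, 130, 133, 134, 135, 137],
  [⟨(106, 4), [.l2 7 107]⟩, ⟨(113, 5), []⟩, ⟨(106, 8), [.l2 7 107]⟩, ⟨(121, 5), []⟩, ⟨(106, 2), [.l2 7 107]⟩,
  ⟨(106, 1), [.l2 7 107]⟩, ⟨(106, 6), [.l3 7 107 113]⟩, ⟨(106, 0), [.l2 7 107]⟩, ⟨(123, 8), []⟩, ⟨(126, 1), []⟩]⟩

def s42 : Stp := ⟨(126, 1), [.l2 4 125, .l2 3 134, .l2 5 133, .l2 4 137], 137, 1, 138,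
  [.sq 133 4 137 1 138 139, .sq 124 3 133 1 139 140, .sq 125 5 124 1 140 141, .sq 130 6 125 1 141 142,
  .sq 142 1 130 3 135 143, .sq 142 1 130 4 127 144, .sq 144 1 127 6 126 145, .sq 134 6 135 1 143 146,
  .cu 3 6 1 130 135 134 125 142 143 146 141, .cu 5 3 1 124 125 134 133 140 141 146 139,
  .cu 4 6 1 130 127 126 125 142 144 145 141],
  [⟨124, 1, 140, 0, (107, 0), [.l2 4 133, .l2 3 124], [.l2 6 113, .l2 3 114, .l2 2 126, .l2 4 125, .l2 5 124]⟩,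
  ⟨133, 1, 139, 2, (107, 4), [.l2 4 133], [.l2 6 113, .l3 3 114 120, .l3 2 125 134, .l2 5 133]⟩],
  [113, 114, 120, 123, 124, 125, 126, 133, 134, 137, 138, 139, 140, 141, 145, 146],
  [⟨(107, 4), [.l2 6 113]⟩, ⟨(113, 5), []⟩, ⟨(107, 8), [.l2 6 113]⟩, ⟨(121, 5), [.l3 6 120 123]⟩,
  ⟨(107, 2), [.l2 6 113]⟩, ⟨(107, 1), [.l2 6 113]⟩, ⟨(113, 7), []⟩, ⟨(107, 0), [.l2 6 113]⟩, ⟨(123, 8), []⟩,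
  ⟨(140, 0), []⟩, ⟨(139, 2), []⟩]⟩

def s43 : Stp := ⟨(139, 2), [.l2 4 138], 138, 2, 147,
  [.sq 139 4 138 2 147 148, .sq 146 5 139 2 148 149],
  [⟨138, 2, 147, 3, (113, 5), [], [.l2 3 114, .l2 2 126, .l2 1 145, .l3 4 141 140, .l3 3 139 138]⟩],
  [114, 120, 123, 124, 125, 126, 133, 134, 137, 138, 139, 140, 141, 145, 146, 147, 148, 149],
  [⟨(113, 4), [.l3 3 114 120]⟩, ⟨(113, 5), [.l2 3 114]⟩, ⟨(113, 8), [.l2 3 114]⟩, ⟨(123, 6), []⟩,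
  ⟨(113, 2), [.l3 3 114 126]⟩, ⟨(113, 1), [.l2 3 114]⟩, ⟨(113, 7), [.l2 3 114]⟩, ⟨(113, 0), [.l2 3 114]⟩,
  ⟨(123, 8), []⟩, ⟨(140, 0), []⟩, ⟨(147, 3), []⟩]⟩

def s44 : Stp := ⟨(147, 3), [], 147, 3, 150,
  [],
  [],
  [120, 123, 124, 125, 133, 134, 137, 138, 139, 140, 141, 146, 147, 148, 149, 150],
  [⟨(120, 3), []⟩, ⟨(114, 5), [.l3 4 120 123]⟩, ⟨(114, 8), [.l2 4 120]⟩, ⟨(123, 6), []⟩, ⟨(126, 3), [.l3 4 125 134]⟩,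
  ⟨(114, 1), [.l2 4 120]⟩, ⟨(114, 7), [.l2 4 120]⟩, ⟨(114, 0), [.l2 4 120]⟩, ⟨(123, 8), []⟩, ⟨(140, 0), []⟩]⟩

def s45 : Stp := ⟨(123, 8), [.l2 2 124, .l2 1 140, .l2 3 139, .l2 2 148, .l2 4 147, .l2 3 150], 150, 8, 151,
  [.sq 147 3 150 8 151 152, .sq 138 2 147 8 152 153, .sq 148 4 147 8 152 154, .sq 137 1 138 8 153 155,
  .sq 133 4 137 8 155 156, .sq 124 3 133 8 156 157, .sq 123 2 124 8 157 158, .sq 153 8 138 4 139 159,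
  .sq 140 3 139 8 159 160, .cu 2 8 4 147 138 153 152 148 139 159 154, .cu 1 8 4 137 138 153 155 133 139 159 156,
  .cu 1 8 3 133 139 159 156 124 140 160 157],
  [⟨137, 8, 155, 5, (134, 4), [.l2 3 147, .l2 2 138, .l2 1 137], [.l3 5 133 137]⟩],
  [123, 124, 133, 137, 138, 139, 140, 147, 148, 150, 151, 152, 153, 154, 155, 156, 157, 158, 159, 160],
  [⟨(120, 3), [.l2 5 123]⟩, ⟨(123, 4), []⟩, ⟨(120, 8), [.l3 5 123 158, .l2 2 157, .l2 1 160, .l2 3 159, .l2 2 154]⟩,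
  ⟨(123, 6), []⟩, ⟨(134, 4), [.l3 5 133 137]⟩, ⟨(120, 1), [.l2 5 123]⟩, ⟨(120, 7), [.l2 5 123]⟩,
  ⟨(120, 0), [.l2 5 123]⟩, ⟨(140, 0), []⟩, ⟨(155, 5), []⟩]⟩

def s46 : Stp := ⟨(155, 5), [.l2 1 153, .l2 2 152, .l2 3 151], 151, 5, 161,
  [.sq 152 3 151 5 161 162, .sq 162 5 152 2 153 163, .sq 155 1 153 5 163 164],
  [⟨151, 5, 161, 4, (123, 1), [], [.l3 2 124 140, .l2 8 160, .l3 3 159 154, .l3 4 152 151]⟩,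
  ⟨151, 5, 161, 6, (123, 6), [], [.l2 2 124, .l2 1 140, .l2 8 160, .l2 3 159, .l2 2 154, .l2 4 152, .l2 3 151]⟩],
  [124, 133, 137, 138, 139, 140, 147, 148, 150, 151, 152, 153, 154, 155, 156, 157, 159, 160, 161, 162, 163, 164],
  [⟨(123, 3), [.l3 2 124 133]⟩, ⟨(123, 4), [.l2 2 124]⟩, ⟨(154, 5), []⟩, ⟨(123, 6), [.l2 2 124]⟩, ⟨(137, 5), []⟩,
  ⟨(123, 1), [.l3 2 124 140]⟩, ⟨(123, 7), [.l2 2 124]⟩, ⟨(123, 0), [.l2 2 124]⟩, ⟨(140, 0), []⟩, ⟨(161, 4), []⟩,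
  ⟨(161, 6), []⟩]⟩

def s47 : Stp := ⟨(161, 4), [], 161, 4, 165,
  [],
  [],
  [133, 137, 138, 139, 147, 148, 150, 151, 152, 153, 154, 155, 156, 159, 161, 162, 163, 164, 165],
  [⟨(133, 2), []⟩, ⟨(124, 4), [.l3 3 133 137]⟩, ⟨(154, 5), []⟩, ⟨(124, 6), [.l2 3 133]⟩, ⟨(137, 5), []⟩,
  ⟨(140, 2), [.l3 3 139 148]⟩, ⟨(124, 7), [.l2 3 133]⟩, ⟨(124, 0), [.l2 3 133]⟩, ⟨(140, 0), [.l2 3 139, .l2 4 138]⟩,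
  ⟨(161, 6), []⟩]⟩

def s48 : Stp := ⟨(138, 0), [.l2 2 147, .l2 3 150, .l2 8 151, .l2 5 161, .l2 4 165], 165, 0, 166,
  [.sq 166 0 165 4 161 167, .sq 167 0 161 3 162 168, .sq 152 5 162 0 168 169, .sq 154 4 152 0 169 170,
  .sq 159 2 154 0 170 171, .sq 148 8 154 0 170 172, .sq 167 0 161 5 151 173, .sq 168 0 162 2 163 174,
  .sq 173 0 151 8 150 175, .sq 175 0 150 3 147 176, .sq 138 2 147 0 176 177, .sq 177 0 138 8 153 178,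
  .sq 177 0 138 4 139 179, .cu 3 5 0 162 161 151 152 168 167 173 169, .cu 8 3 0 151 150 147 152 173 175 176 169,
  .cu 2 8 0 147 138 153 152 176 177 178 169, .cu 4 2 0 154 152 153 159 170 169 178 171,
  .cu 8 4 0 153 138 139 159 178 177 179 171, .cu 2 8 0 154 159 139 148 170 171 179 172,
  .cu 4 2 0 139 138 147 148 179 177 176 172, .cu 5 2 0 162 152 153 163 168 169 178 174],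
  [⟨147, 0, 176, 1, (133, 2), [.l2 4 161, .l2 3 162, .l2 5 152, .l2 8 147], [.l2 4 137, .l3 1 138 147]⟩],
  [137, 138, 147, 150, 151, 152, 153, 155, 161, 162, 163, 164, 165, 166, 167, 168, 169, 173, 174, 175, 176, 177, 178],
  [⟨(133, 2), [.l2 4 137]⟩, ⟨(137, 3), []⟩, ⟨(154, 5), [.l3 4 152 162]⟩, ⟨(133, 6), [.l2 4 137]⟩, ⟨(137, 5), []⟩,
  ⟨(148, 3), [.l3 4 147 150]⟩, ⟨(133, 7), [.l2 4 137]⟩, ⟨(133, 0), [.l2 4 137]⟩, ⟨(161, 6), []⟩, ⟨(176, 1), []⟩]⟩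

def s49 : Stp := ⟨(176, 1), [.l2 8 169, .l2 5 168, .l2 3 167, .l2 4 166], 166, 1, 180,
  [.sq 167 4 166 1 180 181, .sq 168 3 167 1 181 182, .sq 181 1 167 5 173 183, .sq 183 5 181 3 182 184,
  .sq 183 1 173 8 175 185, .sq 176 3 175 1 185 186, .cu 1 5 3 167 181 183 173 168 182 184 169,
  .cu 8 3 1 173 175 176 169 183 185 186 184],
  [⟨166, 1, 180, 2, (137, 3), [], [.l2 1 138, .l2 0 177, .l2 8 178, .l3 2 169 173, .l2 5 167, .l2 4 166]⟩],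
  [138, 147, 150, 151, 152, 153, 161, 162, 163, 165, 166, 167, 168, 169, 173, 174, 175, 176, 177, 178, 180, 181, 182,
  183, 184, 185, 186],
  [⟨(137, 2), [.l3 1 138 147]⟩, ⟨(137, 3), [.l2 1 138]⟩, ⟨(162, 4), []⟩, ⟨(137, 6), [.l2 1 138]⟩,
  ⟨(137, 5), [.l2 1 138]⟩, ⟨(150, 4), []⟩, ⟨(137, 7), [.l2 1 138]⟩,
  ⟨(137, 0), [.l3 1 138 177, .l2 8 178, .l2 5 174]⟩, ⟨(161, 6), []⟩, ⟨(180, 2), []⟩]⟩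

def s50 : Stp := ⟨(180, 2), [], 180, 2, 187,
  [.sq 181 4 180 2 187 188, .sq 183 5 181 2 188 189, .sq 185 8 183 2 189 190],
  [⟨180, 2, 187, 3, (162, 4), [], [.l2 0 168, .l2 1 182, .l3 3 181 180]⟩],
  [147, 150, 151, 152, 161, 162, 165, 166, 167, 168, 169, 173, 175, 176, 180, 181, 182, 183, 184, 185, 186, 187, 188,
  189, 190],
  [⟨(147, 1), []⟩, ⟨(138, 3), [.l3 2 147 150]⟩, ⟨(162, 4), []⟩, ⟨(138, 6), [.l2 2 147]⟩, ⟨(138, 5), [.l2 2 147]⟩,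
  ⟨(150, 4), []⟩, ⟨(138, 7), [.l2 2 147]⟩, ⟨(174, 1), [.l3 2 168 182]⟩, ⟨(161, 6), []⟩, ⟨(187, 3), []⟩]⟩

def s51 : Stp := ⟨(187, 3), [], 187, 3, 191,
  [],
  [],
  [150, 151, 161, 165, 166, 167, 173, 175, 180, 181, 183, 185, 187, 188, 189, 190, 191],
  [⟨(147, 1), [.l2 3 150]⟩, ⟨(150, 2), []⟩, ⟨(162, 4), [.l3 3 161 165]⟩, ⟨(147, 6), [.l2 3 150]⟩,
  ⟨(147, 5), [.l2 3 150]⟩, ⟨(150, 4), []⟩, ⟨(147, 7), [.l2 3 150]⟩, ⟨(182, 2), [.l3 3 181 188]⟩, ⟨(161, 6), []⟩]⟩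

def s52 : Stp := ⟨(161, 6), [.l2 4 165, .l2 0 166, .l2 1 180, .l2 2 187, .l2 3 191], 191, 6, 192,
  [.sq 187 3 191 6 192 193, .sq 193 6 187 2 180 194, .sq 193 6 187 4 188 195, .sq 166 1 180 6 194 196,
  .sq 167 4 166 6 196 197, .sq 181 4 180 6 194 198, .sq 197 6 167 0 161 199, .sq 199 6 161 4 165 200,
  .cu 2 6 4 187 180 194 193 188 181 198 195, .cu 0 6 4 167 161 199 197 166 165 200 196,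
  .cu 1 6 4 166 180 194 196 167 181 198 197],
  [⟨161, 6, 199, 7, (150, 7), [.l2 3 187, .l2 2 180, .l2 1 166, .l2 0 165, .l2 4 161], [.l2 8 151, .l2 5 161]⟩,
  ⟨165, 6, 200, 5, (150, 4), [.l2 3 187, .l2 2 180, .l2 1 166, .l2 0 165], [.l2 8 151, .l3 5 161 165]⟩],
  [151, 161, 165, 166, 167, 173, 180, 181, 183, 187, 188, 189, 191, 192, 193, 194, 195, 196, 197, 198, 199, 200],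
  [⟨(150, 1), [.l2 8 151]⟩, ⟨(150, 2), [.l2 8 151]⟩, ⟨(165, 3), []⟩, ⟨(150, 6), [.l2 8 151]⟩,
  ⟨(150, 5), [.l3 8 151 161]⟩, ⟨(150, 4), [.l2 8 151]⟩, ⟨(150, 7), [.l2 8 151]⟩, ⟨(188, 3), []⟩, ⟨(199, 7), []⟩,
  ⟨(200, 5), []⟩]⟩

def s53 : Stp := ⟨(200, 5), [.l2 0 196, .l2 1 194, .l2 2 193, .l2 3 192], 192, 5, 201,
  [.sq 201 5 192 3 193 202, .sq 202 5 193 2 194 203, .sq 196 1 194 5 203 204, .sq 200 0 196 5 204 205],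
  [⟨192, 5, 201, 4, (188, 3), [], [.l3 4 187 191, .l2 6 192]⟩, ⟨192, 5, 201, 8, (161, 8), [],
  [.l2 6 199, .l2 0 197, .l2 1 198, .l2 4 194, .l2 2 193, .l2 3 192]⟩],
  [161, 165, 166, 167, 180, 181, 187, 188, 191, 192, 193, 194, 195, 196, 197, 198, 199, 200, 201, 202, 203, 204, 205],
  [⟨(151, 1), [.l2 5 161]⟩, ⟨(151, 2), [.l2 5 161]⟩, ⟨(165, 3), []⟩,
  ⟨(151, 6), [.l2 0 173, .l3 5 167 197, .l2 1 198, .l2 2 195]⟩, ⟨(161, 8), []⟩, ⟨(151, 4), [.l3 5 161 165]⟩,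
  ⟨(151, 7), [.l2 5 161]⟩, ⟨(188, 3), []⟩, ⟨(199, 7), []⟩, ⟨(201, 4), []⟩, ⟨(201, 8), []⟩]⟩

def s54 : Stp := ⟨(201, 4), [], 201, 4, 206,
  [],
  [],
  [165, 166, 180, 187, 191, 192, 193, 194, 196, 200, 201, 202, 203, 204, 205, 206],
  [⟨(161, 1), [.l2 4 165]⟩, ⟨(161, 2), [.l2 4 165]⟩, ⟨(165, 3), []⟩, ⟨(195, 5), [.l3 4 193 202]⟩,
  ⟨(161, 8), [.l2 4 165]⟩, ⟨(165, 5), []⟩, ⟨(161, 7), [.l2 4 165]⟩, ⟨(188, 3), [.l3 4 187 191]⟩,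
  ⟨(199, 7), [.l2 4 200, .l2 0 196, .l2 1 194, .l2 2 193, .l2 3 192]⟩, ⟨(201, 8), []⟩]⟩

def s55 : Stp := ⟨(192, 7), [.l2 5 201, .l2 4 206], 206, 7, 207,
  [.sq 201 4 206 7 207 208, .sq 202 3 201 7 208 209, .sq 193 5 202 7 209 210, .sq 209 7 202 2 203 211,
  .sq 204 1 203 7 211 212, .sq 208 3 209 5 210 213, .sq 205 0 204 7 212 214, .sq 200 5 205 7 214 215,
  .sq 215 5 214 0 212 216, .sq 216 5 212 1 211 217, .cu 7 5 3 202 209 210 193 201 208 213 192,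
  .cu 7 5 0 205 214 215 200 204 212 216 196, .cu 7 5 1 204 212 216 196 203 211 217 194,
  .cu 2 7 5 202 203 211 209 193 194 217 210],
  [⟨201, 7, 208, 6, (165, 5), [.l2 4 201], [.l3 6 200 205, .l2 0 204, .l2 1 203, .l2 2 202, .l2 3 201]⟩],
  [166, 180, 187, 191, 192, 193, 194, 196, 201, 202, 203, 204, 206, 207, 208, 209, 210, 211, 212, 213, 216, 217],
  [⟨(165, 1), [.l3 0 166 180]⟩, ⟨(165, 2), [.l2 0 166]⟩, ⟨(165, 3), [.l2 0 166]⟩, ⟨(202, 4), []⟩,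
  ⟨(165, 8), [.l2 0 166]⟩, ⟨(165, 5), [.l2 0 166]⟩, ⟨(165, 7), [.l2 0 166]⟩, ⟨(191, 4), []⟩, ⟨(201, 8), []⟩,
  ⟨(208, 6), []⟩]⟩

def s56 : Stp := ⟨(208, 6), [.l2 4 207], 207, 6, 218,
  [.sq 218 6 207 4 208 219, .sq 209 3 208 6 219 220, .sq 220 6 209 2 211 221, .sq 212 1 211 6 221 222],
  [⟨207, 6, 218, 5, (191, 4), [], [.l2 6 192, .l3 5 201 206, .l2 7 207]⟩],
  [180, 187, 191, 192, 193, 194, 201, 202, 203, 206, 207, 208, 209, 210, 211, 213, 217, 218, 219, 220, 221],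
  [⟨(180, 0), []⟩, ⟨(166, 2), [.l3 1 180 187]⟩, ⟨(166, 3), [.l2 1 180]⟩, ⟨(202, 4), []⟩, ⟨(166, 8), [.l2 1 180]⟩,
  ⟨(166, 5), [.l2 1 180]⟩, ⟨(166, 7), [.l2 1 180]⟩, ⟨(191, 4), []⟩, ⟨(201, 8), []⟩, ⟨(218, 5), []⟩]⟩

def s57 : Stp := ⟨(218, 5), [], 218, 5, 223,
  [],
  [⟨218, 5, 223, 8, (201, 8), [], [.l2 7 208, .l2 6 219, .l2 4 218]⟩],
  [187, 191, 192, 193, 201, 202, 206, 207, 208, 209, 210, 213, 218, 219, 220, 223],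
  [⟨(180, 0), [.l2 2 187]⟩, ⟨(187, 1), []⟩, ⟨(180, 3), [.l3 2 187 191]⟩, ⟨(202, 4), []⟩, ⟨(180, 8), [.l2 2 187]⟩,
  ⟨(180, 5), [.l2 2 187]⟩, ⟨(180, 7), [.l2 2 187]⟩, ⟨(191, 4), []⟩, ⟨(201, 8), []⟩, ⟨(223, 8), []⟩]⟩

def s58 : Stp := ⟨(223, 8), [], 223, 8, 224,
  [],
  [],
  [191, 192, 201, 206, 207, 208, 213, 218, 219, 223, 224],
  [⟨(187, 0), [.l2 3 191]⟩, ⟨(187, 1), [.l2 3 191]⟩, ⟨(191, 2), []⟩, ⟨(202, 4), [.l3 3 201 206]⟩,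
  ⟨(187, 8), [.l2 3 191]⟩, ⟨(187, 5), [.l2 3 191]⟩, ⟨(187, 7), [.l2 3 191]⟩, ⟨(191, 4), []⟩, ⟨(201, 8), []⟩]⟩

def s59 : Stp := ⟨(201, 8), [.l2 7 208, .l2 4 207, .l2 6 218, .l3 5 223 224], 224, 5, 225,
  [.hx 218 5 223 8 224 225 226 227, .sq 207 6 218 8 226 228, .sq 208 4 207 8 228 229, .sq 201 7 208 8 229 230,
  .sq 206 7 207 8 228 231, .sq 226 6 228 4 229 232, .cu 8 6 4 207 228 226 218 208 229 232 219,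
  .cu 4 8 7 208 207 228 229 201 206 231 230],
  [⟨206, 8, 231, 5, (191, 4), [.l3 8 223 218, .l2 6 207, .l2 7 206], [.l2 6 192, .l3 5 201 206]⟩,
  ⟨219, 8, 232, 5, (191, 7), [.l3 8 223 218, .l2 4 219], [.l3 6 192 213, .l3 5 208 219]⟩],
  [192, 201, 206, 207, 208, 213, 218, 219, 223, 224, 225, 226, 227, 228, 229, 230, 231, 232],
  [⟨(191, 0), [.l2 6 192]⟩, ⟨(191, 1), [.l2 6 192]⟩, ⟨(191, 2), [.l2 6 192]⟩, ⟨(206, 3), []⟩,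
  ⟨(191, 8), [.l2 6 192]⟩, ⟨(191, 5), [.l3 6 192 201]⟩, ⟨(191, 7), [.l3 6 192 213]⟩, ⟨(191, 4), [.l2 6 192]⟩,
  ⟨(231, 5), []⟩, ⟨(232, 5), []⟩]⟩

def s60 : Stp := ⟨(231, 5), [.l2 7 228, .l3 6 226 227, .l2 8 225], 225, 6, 233,
  [.sq 227 8 225 6 233 234, .hx 228 6 226 5 227 234 235 236, .sq 231 7 228 5 235 237],
  [⟨225, 6, 233, 7, (201, 6), [], [.l2 8 230, .l2 4 231, .l3 7 228 226, .l2 5 227, .l2 8 225]⟩],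
  [201, 206, 207, 208, 218, 219, 223, 224, 225, 226, 227, 228, 229, 230, 231, 232, 233, 234, 235, 236, 237],
  [⟨(192, 0), [.l2 5 201]⟩, ⟨(192, 1), [.l2 5 201]⟩, ⟨(192, 2), [.l2 5 201]⟩, ⟨(206, 3), []⟩,
  ⟨(192, 8), [.l3 5 201 230, .l2 7 229]⟩, ⟨(201, 6), []⟩, ⟨(213, 6), [.l3 5 208 219]⟩, ⟨(192, 4), [.l3 5 201 206]⟩,
  ⟨(232, 5), []⟩, ⟨(233, 7), []⟩]⟩

def s61 : Stp := ⟨(232, 5), [.l3 4 226 227, .l2 6 234, .l2 8 233], 233, 4, 238,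
  [.sq 234 8 233 4 238 239, .sq 227 6 234 4 239 240, .hx 232 4 226 5 227 240 241 242, .sq 238 8 239 6 240 243,
  .cu 4 8 6 234 239 238 233 227 240 243 225],
  [⟨225, 4, 243, 3, (206, 3), [.l2 6 225], [.l2 8 231, .l2 7 228, .l2 6 226, .l2 5 227, .l2 8 225]⟩,
  ⟨233, 4, 238, 5, (206, 5), [], [.l3 8 231 237, .l2 7 235, .l2 6 236, .l3 5 234 233]⟩],
  [206, 207, 218, 223, 224, 225, 226, 227, 228, 231, 233, 234, 235, 236, 237, 238, 239, 240, 243],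
  [⟨(201, 0), [.l2 4 206]⟩, ⟨(201, 1), [.l2 4 206]⟩, ⟨(201, 2), [.l2 4 206]⟩, ⟨(206, 3), []⟩,
  ⟨(229, 5), [.l3 4 228 235]⟩, ⟨(201, 6), [.l2 4 206]⟩, ⟨(219, 5), [.l3 4 218 223]⟩, ⟨(206, 5), []⟩, ⟨(233, 7), []⟩,
  ⟨(243, 3), []⟩, ⟨(238, 5), []⟩]⟩

def s62 : Stp := ⟨(238, 5), [], 238, 5, 244,
  [],
  [],
  [207, 218, 223, 224, 225, 226, 227, 228, 233, 234, 235, 236, 238, 239, 240, 243, 244],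
  [⟨(206, 0), [.l2 7 207]⟩, ⟨(206, 1), [.l2 7 207]⟩, ⟨(206, 2), [.l2 7 207]⟩, ⟨(206, 3), [.l2 7 207]⟩,
  ⟨(235, 4), []⟩, ⟨(206, 6), [.l3 7 207 218]⟩, ⟨(223, 4), []⟩, ⟨(206, 5), [.l2 7 207]⟩, ⟨(233, 7), []⟩,
  ⟨(243, 3), []⟩]⟩

def s63 : Stp := ⟨(233, 7), [.l2 4 238, .l2 5 244], 244, 7, 245,
  [.sq 238 5 244 7 245 246, .sq 239 8 238 7 246 247, .sq 246 7 238 4 233 248, .sq 234 4 239 7 247 249,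
  .sq 249 7 234 5 236 250, .cu 8 7 4 238 239 247 246 233 234 249 248],
  [⟨244, 7, 245, 6, (223, 4), [], [.l2 8 224, .l3 5 225 243, .l3 6 238 244]⟩],
  [218, 223, 224, 225, 226, 227, 233, 234, 238, 239, 240, 243, 244, 245, 246, 247, 248, 249],
  [⟨(207, 0), [.l2 6 218]⟩, ⟨(207, 1), [.l2 6 218]⟩, ⟨(207, 2), [.l2 6 218]⟩, ⟨(207, 3), [.l2 6 218]⟩,
  ⟨(235, 4), [.l2 6 236, .l3 5 234 239]⟩, ⟨(218, 7), []⟩, ⟨(223, 4), []⟩, ⟨(207, 5), [.l3 6 218 223]⟩,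
  ⟨(243, 3), []⟩, ⟨(245, 6), []⟩]⟩

def s64 : Stp := ⟨(245, 6), [], 245, 6, 251,
  [],
  [],
  [223, 224, 225, 233, 238, 243, 244, 245, 246, 248, 251],
  [⟨(218, 0), [.l2 5 223]⟩, ⟨(218, 1), [.l2 5 223]⟩, ⟨(218, 2), [.l2 5 223]⟩, ⟨(218, 3), [.l2 5 223]⟩,
  ⟨(239, 5), [.l3 8 238 244]⟩, ⟨(218, 7), [.l2 5 223]⟩, ⟨(223, 4), []⟩, ⟨(223, 6), []⟩, ⟨(243, 3), []⟩]⟩

def s65 : Stp := ⟨(243, 3), [.l2 6 238, .l2 5 244, .l2 7 245, .l2 6 251], 251, 3, 252,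
  [.sq 245 6 251 3 252 253, .sq 246 5 245 3 253 254, .sq 238 7 246 3 254 255, .sq 243 6 238 3 255 256,
  .sq 255 3 238 5 244 257, .cu 7 5 3 246 238 244 245 254 255 257 253],
  [⟨238, 3, 255, 2, (223, 2), [.l2 6 245, .l2 7 244, .l2 5 238], [.l2 8 224, .l2 5 225, .l2 6 233, .l2 4 238]⟩,
  ⟨244, 3, 257, 4, (223, 6), [.l2 6 245, .l2 7 244], [.l2 8 224, .l3 5 225 233, .l3 4 238 244]⟩],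
  [224, 225, 233, 238, 243, 244, 245, 246, 248, 251, 252, 253, 254, 255, 256, 257],
  [⟨(223, 0), [.l2 8 224]⟩, ⟨(223, 1), [.l2 8 224]⟩, ⟨(223, 2), [.l2 8 224]⟩, ⟨(223, 3), [.l2 8 224]⟩,
  ⟨(244, 8), []⟩, ⟨(223, 7), [.l2 8 224]⟩, ⟨(223, 4), [.l2 8 224]⟩, ⟨(223, 6), [.l2 8 224]⟩, ⟨(255, 2), []⟩,
  ⟨(257, 4), []⟩]⟩

def s66 : Stp := ⟨(257, 4), [.l2 7 253, .l2 6 252], 252, 4, 258,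
  [.sq 258 4 252 6 253 259, .sq 259 4 253 7 257 260],
  [⟨252, 4, 258, 5, (224, 7), [], [.l2 5 225, .l3 6 233 248, .l2 4 246, .l3 5 245 251, .l2 3 252]⟩],
  [225, 233, 238, 243, 244, 245, 246, 248, 251, 252, 253, 254, 255, 256, 257, 258, 259, 260],
  [⟨(224, 0), [.l2 5 225]⟩, ⟨(224, 1), [.l2 5 225]⟩, ⟨(224, 2), [.l2 5 225]⟩, ⟨(224, 3), [.l2 5 225]⟩,
  ⟨(244, 8), []⟩, ⟨(224, 7), [.l2 5 225]⟩, ⟨(224, 4), [.l3 5 225 243]⟩, ⟨(224, 6), [.l3 5 225 233]⟩, ⟨(255, 2), []⟩,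
  ⟨(258, 5), []⟩]⟩

def pre : List Stp := [s0, s1, s2, s3, s4, s5, s6, s7, s8, s9, s10, s11, s12, s13, s14, s15, s16, s17, s18, s19, s20,
  s21, s22, s23, s24, s25, s26, s27, s28, s29, s30, s31, s32, s33, s34, s35, s36, s37]

def per : List Stp := [s38, s39, s40, s41, s42, s43, s44, s45, s46, s47, s48, s49, s50, s51, s52, s53, s54, s55, s56,
  s57, s58, s59, s60, s61, s62, s63, s64, s65, s66]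

def ren : List (ℕ × ℕ) := [(87, 225), (95, 233), (100, 238), (101, 243), (106, 244), (107, 245), (108, 246), (112,
  248), (113, 251), (114, 252), (115, 253), (116, 257), (117, 254), (118, 255), (119, 256), (120, 258), (121, 259),
  (122, 260)]

def mat : ℕ → ℕ → ℕ := tab 9 997167948829548727918187404439447488188669405868

theorem ok : check mat 9 pre per ren = true := by decide +kernel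

end Cfsg.Agent.Omega.EH3.NonSph.Vm.E8
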