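import Cfsg.Agent.Omega.EH3.NonSph.CertE6
import Cfsg.Agent.Omega.EH3.NonSph.CertE7
import Cfsg.Agent.Omega.EH3.NonSph.CertE8

/-!
# The affine diagrams of type `E~6`, `E~7`, `E~8` (bb #12580)
-/

set_option autoImplicit false

namespace Cfsg.Agent.Omega.EH3.NonSph

open Cfsg.Agent.ParSys Cfsg.Agent.ParSys.Free Cfsg.Agent.ParSys.Wt Cfsg.Agent.Omega.EH3.NonSph.Vm

variable {C I G : Type*} [Group G] [MulAction G C] {A : I → C → C → Prop} {m : I → I → ℕ} {J : Set I}

/-- the nodes of a subdiagram with `k` nodes -/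
structure Sub (m : I → I → ℕ) (J : Set I) (E : List (ℕ × ℕ)) (k : ℕ) (v : ℕ → I) : Prop where
  mem : ∀ i < k, v i ∈ J
  inj : ∀ i < k, ∀ j < k, v i = v j → i = j
  val : ∀ i < k, ∀ j < k, i ≠ j → m (v i) (v j) = dia E i j

/-- the edges of `E~6` -/
def eE6 : List (ℕ × ℕ) := [(0, 1), (1, 2), (0, 3), (3, 4), (0, 5), (5, 6)]

/-- the edges of `E~7` -/
def eE7 : List (ℕ × ℕ) := [(0, 1), (1, 2), (2, 3), (3, 4), (4, 5), (5, 6), (3, 7)]

/-- the edges of `E~8` -/
def eE8 : List (ℕ × ℕ) := [(0, 1), (1, 2), (2, 3), (3, 4), (4, 5), (5, 6), (6, 7), (5, 8)]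

theorem no_of_sub [Finite G] (h : CS G A m) (htr : ∀ x y : C, ∃ g : G, g • x = y) {c : C}
    (hI : Ind (MulAction.stabilizer G c) J (fun l g => lam A l c g)) {E : List (ℕ × ℕ)} {k code : ℕ}
    (h1 : ∀ i < k, tab k code i i = 0) (h2 : ∀ i < k, ∀ j < k, i ≠ j → tab k code i j = dia E i j) {v : ℕ → I}
    (hv : Sub m J E k v) {pre per : List Stp} {r : List (ℕ × ℕ)} (hc : check (tab k code) k pre per r = true) :
    False := by
  refine Vm.no (ι := v) (mat := tab k code) h htr hv.inj (hI.mono ?_) (fun i j h0 => ?_) (fun i j h0 => ?_) hc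
  · rintro _ ⟨i, hi, rfl⟩
    exact hv.mem i hi
  · obtain ⟨h3, h4⟩ := tab_lt h0
    refine ⟨h3, h4, ?_⟩
    rintro rfl
    exact h0 (h1 i h3)
  · obtain ⟨h3, h4⟩ := tab_lt h0
    have h5 : i ≠ j := by
      rintro rfl
      exact h0 (h1 i h3)
    rw [hv.val i h3 j h4 h5, h2 i h3 j h4 h5]

/-- **`E~6` does not occur.** -/
theorem no_E6 [Finite G] (h : CS G A m) (htr : ∀ x y : C, ∃ g : G, g • x = y) {c : C}
    (hI : Ind (MulAction.stabilizer G c) J (fun l g => lam A l c g)) {v : ℕ → I} (hv : Sub m J eE6 7 v) : False :=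
  no_of_sub h htr hI (by decide +kernel) (by decide +kernel) hv Vm.E6.ok

/-- **`E~7` does not occur.** -/
theorem no_E7 [Finite G] (h : CS G A m) (htr : ∀ x y : C, ∃ g : G, g • x = y) {c : C}
    (hI : Ind (MulAction.stabilizer G c) J (fun l g => lam A l c g)) {v : ℕ → I} (hv : Sub m J eE7 8 v) : False :=
  no_of_sub h htr hI (by decide +kernel) (by decide +kernel) hv Vm.E7.ok

/-- **`E~8` does not occur.** -/
theorem no_E8 [Finite G] (h : CS G A m) (htr : ∀ x y : C, ∃ g : G, g • x = y) {c : C}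
    (hI : Ind (MulAction.stabilizer G c) J (fun l g => lam A l c g)) {v : ℕ → I} (hv : Sub m J eE8 9 v) : False :=
  no_of_sub h htr hI (by decide +kernel) (by decide +kernel) hv Vm.E8.ok

end Cfsg.Agent.Omega.EH3.NonSph
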