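import Cfsg.Agent.Omega.EH3.NonSph.Main
import Cfsg.Agent.ParSys.Wt.HonBN

/-!
# The group form of `out` (bb #12580)

`B ≤ P i`, `|P i : B| = 3`, simply laced, connected, rank two residues generalised polygons.  `x_i(g) = 0` iff
`g ∈ Core B (P i)`, i.e. all conjugates of `g` under `P i` are in `B`.

* `out_of_dual` : for every `i` an element of `B` moves the panel `i` and fixes the other panels;
* `out_of_node` : the same for the nodes `≠ o` modulo the panel `o`, and an element of `B` which moves only the panel `o`.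
-/

set_option autoImplicit false

namespace Cfsg.Agent.Omega.EH3.NonSph

open Cfsg.Agent.ParSys Cfsg.Agent.ParSys.Free Cfsg.Agent.ParSys.Wt

section ind

variable {G : Type*} [Group G] {ι : Type*}

/-- independence from triangular elements: one node `o`, and dual elements for the others -/
theorem Ind.of_node {H : Subgroup G} {T : Set ι} {y : ι → G → ZMod 2} (o : ι)
    (ho : ∃ g ∈ H, y o g = 1 ∧ ∀ k ∈ T, k ≠ o → y k g = 0)
    (h : ∀ k ∈ T, k ≠ o → ∃ g ∈ H, y k g = 1 ∧ ∀ l ∈ T, l ≠ k → l ≠ o → y l g = 0) : Ind H T y := by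
  classical
  intro U hU h1
  have hoU : o ∉ U := by
    intro hoU
    obtain ⟨g, hg, g1, g2⟩ := ho
    have h2 := h1 g hg
    rw [Finset.sum_eq_single_of_mem o hoU fun k hk hko => g2 k (hU k hk) hko, g1] at h2
    exact absurd h2 (by decide)
  rw [Finset.eq_empty_iff_forall_notMem]
  intro k hk
  have hko : k ≠ o := by
    rintro rfl
    exact hoU hk
  obtain ⟨g, hg, g1, g2⟩ := h k (hU k hk) hko
  have h2 := h1 g hg
  rw [Finset.sum_eq_single_of_mem k hk fun l hl hlk => g2 l (hU l hl) hlk fun hlo => hoU (hlo ▸ hl), g1] at h2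
  exact absurd h2 (by decide)

theorem Ind.of_dual {H : Subgroup G} {T : Set ι} {y : ι → G → ZMod 2}
    (h : ∀ k ∈ T, ∃ g ∈ H, y k g = 1 ∧ ∀ l ∈ T, l ≠ k → y l g = 0) : Ind H T y := by
  classical
  intro U hU h1
  rw [Finset.eq_empty_iff_forall_notMem]
  intro k hk
  obtain ⟨g, hg, g1, g2⟩ := h k (hU k hk)
  have h2 := h1 g hg
  rw [Finset.sum_eq_single_of_mem k hk fun l hl hlk => g2 l (hU l hl) hlk, g1] at h2
  exact absurd h2 (by decide)

end ind

variable {G I : Type*} [Group G] {B : Subgroup G} {P : I → Subgroup G}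

/-- all conjugates of `g` under `P` are in `B` -/
def InCore (B P : Subgroup G) (g : G) : Prop := ∀ p ∈ P, p⁻¹ * g * p ∈ B

theorem stab_base : MulAction.stabilizer G ((1 : G) : G ⧸ B) = B := by
  ext g
  rw [MulAction.mem_stabilizer_iff]
  show ((g * 1 : G) : G ⧸ B) = _ ↔ _
  rw [mul_one, eq_comm, QuotientGroup.eq, inv_one, one_mul]

theorem lam_base (hBP : ∀ i, B ≤ P i) {i : I} {g : G} (hg : g ∈ B) :
    lam (adj B P) i ((1 : G) : G ⧸ B) g = 0 ↔ InCore B (P i) g := by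
  rw [lam_eq_zero]
  constructor
  · intro h p hp
    by_cases hpB : p ∈ B
    · exact mul_mem (mul_mem (inv_mem hpB) hg) hpB
    · have h1 : adj B P i ((1 : G) : G ⧸ B) ((p : G) : G ⧸ B) := by
        rw [adj_mk hBP]
        simpa using ⟨hp, hpB⟩
      have h2 : ((g * p : G) : G ⧸ B) = (p : G ⧸ B) := h _ h1
      rw [eq_comm, QuotientGroup.eq] at h2
      rwa [mul_assoc]
  · intro h d hd
    induction d using QuotientGroup.induction_on with
    | _ y =>
    rw [adj_mk hBP] at hd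
    have h1 := h y (by simpa using hd.1)
    show ((g * y : G) : G ⧸ B) = (y : G ⧸ B)
    rw [eq_comm, QuotientGroup.eq]
    rwa [mul_assoc] at h1

theorem lam_base_one (hBP : ∀ i, B ≤ P i) {i : I} {g : G} (hg : g ∈ B) (h : ¬ InCore B (P i) g) :
    lam (adj B P) i ((1 : G) : G ⧸ B) g = 1 := by
  have z : ∀ a : ZMod 2, a ≠ 0 → a = 1 := by decide
  exact z _ fun h0 => h ((lam_base hBP hg).1 h0)

theorem cs_group [Finite G] {M : CoxeterMatrix I} (hBP : ∀ i, B ≤ P i) (h3 : ∀ i, B.relIndex (P i) = 3)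
    (hgp : GP B P (fun i j => M i j)) : CS G (adj B P) (fun i j => M i j) :=
  (HonBN.sy (cs := M.toCoxeterSystem) hBP h3 hgp).toCS

/-- **Group form**, dual elements for all nodes. -/
theorem out_of_dual [Finite G] [Fintype I] [DecidableEq I] [Nonempty I] {M : CoxeterMatrix I} (hBP : ∀ i, B ≤ P i)
    (h3 : ∀ i, B.relIndex (P i) = 3) (hgp : GP B P (fun i j => M i j)) (hsl : ∀ i j, i ≠ j → M i j = 2 ∨ M i j = 3)
    (hconn : ∀ J : Set I, J.Nonempty → Jᶜ.Nonempty → ∃ a ∈ J, ∃ b ∈ Jᶜ, M a b ≠ 2)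
    (hd : ∀ i, ∃ g ∈ B, ¬ InCore B (P i) g ∧ ∀ j, j ≠ i → InCore B (P j) g) : Shape.Out M := by
  refine out (A := adj B P) (m := fun i j => M i j) (c := ((1 : G) : G ⧸ B)) (cs_group hBP h3 hgp)
    (fun _ _ _ => rfl) hsl hconn (fun x y => MulAction.exists_smul_eq G x y) ?_
  rw [stab_base]
  refine Ind.of_dual fun k _ => ?_
  obtain ⟨g, hg, h1, h2⟩ := hd k
  exact ⟨g, hg, lam_base_one hBP hg h1, fun l _ hl => (lam_base hBP hg).2 (h2 l hl)⟩

/-- **Group form**, one distinguished node `o`. -/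
theorem out_of_node [Finite G] [Fintype I] [DecidableEq I] [Nonempty I] {M : CoxeterMatrix I} (hBP : ∀ i, B ≤ P i)
    (h3 : ∀ i, B.relIndex (P i) = 3) (hgp : GP B P (fun i j => M i j)) (hsl : ∀ i j, i ≠ j → M i j = 2 ∨ M i j = 3)
    (hconn : ∀ J : Set I, J.Nonempty → Jᶜ.Nonempty → ∃ a ∈ J, ∃ b ∈ Jᶜ, M a b ≠ 2) (o : I)
    (ho : ∃ g ∈ B, ¬ InCore B (P o) g ∧ ∀ j, j ≠ o → InCore B (P j) g)
    (hd : ∀ i, i ≠ o → ∃ g ∈ B, ¬ InCore B (P i) g ∧ ∀ j, j ≠ i → j ≠ o → InCore B (P j) g) : Shape.Out M := by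
  refine out (A := adj B P) (m := fun i j => M i j) (c := ((1 : G) : G ⧸ B)) (cs_group hBP h3 hgp)
    (fun _ _ _ => rfl) hsl hconn (fun x y => MulAction.exists_smul_eq G x y) ?_
  rw [stab_base]
  refine Ind.of_node o ?_ fun k _ hk => ?_
  · obtain ⟨g, hg, h1, h2⟩ := ho
    exact ⟨g, hg, lam_base_one hBP hg h1, fun l _ hl => (lam_base hBP hg).2 (h2 l hl)⟩
  · obtain ⟨g, hg, h1, h2⟩ := hd k hk
    exact ⟨g, hg, lam_base_one hBP hg h1, fun l _ hl hlo => (lam_base hBP hg).2 (h2 l hl hlo)⟩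

end Cfsg.Agent.Omega.EH3.NonSph
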