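import Cfsg.Agent.Omega.EH3.NonSph.Sys

/-!
# Independence of all characters from the independence of the proper subsets (bb #12580 (0))
-/

set_option autoImplicit false

namespace Cfsg.Agent.Omega.EH3.NonSph

open Cfsg.Agent.ParSys Cfsg.Agent.ParSys.Free Cfsg.Agent.ParSys.Wt

variable {C I G : Type*} [Group G] [MulAction G C] {A : I → C → C → Prop} {m : I → I → ℕ}

theorem zmod_two_cases (a : ZMod 2) : a = 0 ∨ a = 1 := by
  revert a
  decide

/-- the panel of `d` is fixed if `g` fixes `d` and a neighbour -/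
theorem lam_zero_nb (h : CS G A m) {i : I} {c d : C} (hcd : A i c d) {g : G} (hc : g • c = c) (hd : g • d = d) :
    lam A i d g = 0 :=
  h.lam_zero_of_fix hd (h.cham.symm hcd) hc

/-- a full relation at one chamber is a relation at every chamber -/
theorem rel_all (h : CS G A m) (htr : ∀ x y : C, ∃ g : G, g • x = y) [Fintype I] {c0 : C}
    (h0 : ∀ g : G, g • c0 = c0 → ∑ i, lam A i c0 g = 0) (c : C) (g : G) (hg : g • c = c) :
    ∑ i, lam A i c g = 0 := by
  obtain ⟨k, rfl⟩ := htr c0 c
  have h1 : ∀ i : I, lam A i (k • c0) g = lam A i c0 (k⁻¹ * g * k) := fun i => h.lam_smul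
  rw [Finset.sum_congr rfl fun i _ => h1 i]
  apply h0
  rw [mul_smul, mul_smul, hg, inv_smul_smul]

/-- a relation with full support: the diagram is complete -/
theorem complete_of_rel (h : CS G A m) [Fintype I] {c : C}
    (hsl : ∀ i j, i ≠ j → m i j = 2 ∨ m i j = 3) (hnb : ∀ i, ∃ j, j ≠ i ∧ m i j = 3)
    (hprop : ∀ k, Ind (MulAction.stabilizer G c) {l | l ≠ k} (fun l g => lam A l c g))
    (hrel : ∀ (c : C) (g : G), g • c = c → ∑ i, lam A i c g = 0) {i j : I} (hij : i ≠ j) : m i j = 3 := by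
  classical
  refine (hsl i j hij).resolve_left fun h2 => ?_
  obtain ⟨k, hki, hk3⟩ := hnb i
  have hf : ∀ g ∈ MulAction.stabilizer G c, g • c = c := fun g hg => hg
  have hik : i ∈ {l : I | l ≠ k} := hki.symm
  have hI := (hprop k).ker (fun l _ => chr_lam (l := l) h hf) hik (H' := kerSub _ _ (chr_lam (l := i) h hf))
    fun g => mem_kerSub
  have h3 := hI (Finset.univ.filter fun l => l ≠ i ∧ m i l = 2) (fun l hl => by
    obtain ⟨-, h4, h5⟩ := Finset.mem_filter.1 hl
    refine ⟨?_, h4⟩
    rintro rfl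
    omega) (fun g hg => by
    have hgc : g • c = c := hg.1
    have hgi : lam A i c g = 0 := hg.2
    obtain ⟨d, e, hde, hd, he, -⟩ := h.exists_two i c
    have hgd := lam_eq_zero.1 hgi d hd
    have hge := lam_eq_zero.1 hgi e he
    have key : ∀ l : I, lam A l c g + lam A l d g + lam A l e g = if l ≠ i ∧ m i l = 2 then lam A l c g else 0 := by
      intro l
      by_cases hli : l = i
      · subst hli
        rw [if_neg (fun h0 => h0.1 rfl), hgi, lam_zero_nb h hd hgc hgd, lam_zero_nb h he hgc hge]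
        decide
      · rcases hsl i l (Ne.symm hli) with h5 | h5
        · rw [if_pos ⟨hli, h5⟩, ← h.par2 (Ne.symm hli) h5 hd hgc hgd, ← h.par2 (Ne.symm hli) h5 he hgc hge]
          have z : ∀ a : ZMod 2, a + a + a = a := by decide
          exact z _
        · rw [if_neg (fun h0 => by omega), h.fano (Ne.symm hli) h5 hd he hde hgc hgd hge]
    rw [Finset.sum_filter, ← Finset.sum_congr rfl fun l _ => key l, Finset.sum_add_distrib, Finset.sum_add_distrib,
      hrel c g hgc, hrel d g hgd, hrel e g hge]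
    decide)
  have h4 : j ∈ Finset.univ.filter fun l => l ≠ i ∧ m i l = 2 :=
    Finset.mem_filter.2 ⟨Finset.mem_univ _, hij.symm, h2⟩
  rw [h3] at h4
  exact absurd h4 (Finset.notMem_empty _)

/-! ### the degenerate triangle -/

/-- trivial on the ball of radius two -/
def RR (A : I → C → C → Prop) (c : C) (g : G) : Prop :=
  g • c = c ∧ (∀ j, lam A j c g = 0) ∧ ∀ i d, A i c d → ∀ j, lam A j d g = 0

theorem RR.fix {c d : C} {g : G} (hR : RR A c g) {i : I} (hd : A i c d) : g • d = d :=
  lam_eq_zero.1 (hR.2.1 i) d hd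

theorem RR.mul (h : CS G A m) {c : C} {g g' : G} (hg : RR A c g) (hg' : RR A c g') : RR A c (g * g') := by
  refine ⟨by rw [mul_smul, hg'.1, hg.1], fun j => ?_, fun i d hd j => ?_⟩
  · rw [h.lam_mul hg.1 hg'.1, hg.2.1, hg'.2.1, add_zero]
  · rw [h.lam_mul (hg.fix hd) (hg'.fix hd), hg.2.2 i d hd, hg'.2.2 i d hd, add_zero]

theorem RR.of_one (h : CS G A m) {p q r : I} (hI : ∀ i : I, i = p ∨ i = q ∨ i = r)
    (hpq : p ≠ q) (hpr : p ≠ r) (hqr : q ≠ r) (h3 : ∀ i j, i ≠ j → m i j = 3)
    (hrel : ∀ (c : C) (g : G), g • c = c → lam A p c g + lam A q c g + lam A r c g = 0) {c d : C} {i : I} {g : G}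
    (hc : g • c = c) (hcj : ∀ j, lam A j c g = 0) (hd : A i c d) (hdj : ∀ j, lam A j d g = 0) : RR A c g := by
  have hgd := lam_eq_zero.1 (hcj i) d hd
  refine ⟨hc, hcj, ?_⟩
  intro i' f hf j
  have hgf := lam_eq_zero.1 (hcj i') f hf
  by_cases hii : i' = i
  · subst hii
    by_cases hfd : f = d
    · subst hfd
      exact hdj j
    · by_cases hji : j = i'
      · subst hji
        exact lam_zero_nb h hf hc hgf
      · have h1 := h.fano (Ne.symm hji) (h3 i' j (Ne.symm hji)) hd hf (Ne.symm hfd) hc hgd hgf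
        rw [hcj, hdj] at h1
        simpa using h1
  · -- `f -i'- c -i- d`
    have h1 : lam A i f g = 0 := by
      rw [h.par3 hii (h3 i' i hii) (h.cham.symm hf) hd hgf hc hgd]
      exact hdj i'
    have h2 : lam A i' f g = 0 := lam_zero_nb h hf hc hgf
    have h4 := hrel f g hgf
    have z1 : ∀ a : ZMod 2, 0 + 0 + a = 0 → a = 0 := by decide
    have z2 : ∀ a : ZMod 2, 0 + a + 0 = 0 → a = 0 := by decide
    have z3 : ∀ a : ZMod 2, a + 0 + 0 = 0 → a = 0 := by decide
    rcases hI i with rfl | rfl | rfl <;> rcases hI i' with rfl | rfl | rfl <;>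
      first
      | exact absurd rfl hii
      | (rw [h1, h2] at h4
         rcases hI j with rfl | rfl | rfl <;>
           first
           | exact h1
           | exact h2
           | exact z1 _ h4
           | exact z2 _ h4
           | exact z3 _ h4)

theorem no_triangle (h : CS G A m) {p q r : I} (hI : ∀ i : I, i = p ∨ i = q ∨ i = r)
    (hpq : p ≠ q) (hpr : p ≠ r) (hqr : q ≠ r) (h3 : ∀ i j, i ≠ j → m i j = 3) {c : C}
    (hrel : ∀ (c : C) (g : G), g • c = c → lam A p c g + lam A q c g + lam A r c g = 0)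
    (hprop : Ind (MulAction.stabilizer G c) {l | l ≠ r} (fun l g => lam A l c g)) : False := by
  classical
  have sq : ∀ g : G, g • c = c → RR A c (g * g) := by
    intro g hg
    have h1 : ∃ i, lam A i c g = 0 := by
      by_contra hcon
      push Not at hcon
      have h2 := hrel c g hg
      have z : ∀ a b c : ZMod 2, a ≠ 0 → b ≠ 0 → c ≠ 0 → a + b + c ≠ 0 := by decide
      exact z _ _ _ (hcon p) (hcon q) (hcon r) h2
    obtain ⟨i, hi⟩ := h1
    obtain ⟨d, hd⟩ := h.cham.ex i c
    have hgd := lam_eq_zero.1 hi d hd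
    have z : ∀ a : ZMod 2, a + a = 0 := by decide
    exact RR.of_one h hI hpq hpr hqr h3 hrel (by rw [mul_smul, hg, hg])
      (fun j => by rw [h.lam_mul hg hg]; exact z _) hd (fun j => by rw [h.lam_mul hgd hgd]; exact z _)
  have hf : ∀ g ∈ MulAction.stabilizer G c, g • c = c := fun g hg => hg
  have hp : p ∈ {l : I | l ≠ r} := hpr
  have hI' := hprop.ker (fun l _ => chr_lam (l := l) h hf) hp (H' := kerSub _ _ (chr_lam (l := p) h hf))
    fun g => mem_kerSub
  obtain ⟨g, hg, hg1⟩ := hI'.ne (x := q) ⟨hqr, hpq.symm⟩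
  obtain ⟨k, hk, hk1⟩ := hprop.ne hp
  have hgc : g • c = c := hg.1
  have hgp : lam A p c g = 0 := hg.2
  have hkc : k • c = c := hk
  obtain ⟨d, e, hde, hd, he, hx⟩ := h.exists_two p c
  have hgd := lam_eq_zero.1 hgp d hd
  have hge := lam_eq_zero.1 hgp e he
  have hkd : k • d = e := by
    have h1 := h.ne_of_lam_one hkc hk1 hd
    have h2 := h.act k _ _ _ hd
    rw [hkc] at h2
    exact (hx _ h2).resolve_left h1
  have hcom : RR A c (g⁻¹ * (k⁻¹ * g * k)) := by
    have h1 := ((sq g⁻¹ (by rw [inv_smul_eq_iff, hgc])).mul h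
      (sq (g * k⁻¹) (by rw [mul_smul, (inv_smul_eq_iff.2 hkc.symm), hgc]))).mul h (sq k hkc)
    have e1 : g⁻¹ * g⁻¹ * (g * k⁻¹ * (g * k⁻¹)) * (k * k) = g⁻¹ * (k⁻¹ * g * k) := by group
    rwa [e1] at h1
  have h1 := hcom.2.2 p d hd q
  have hgk : (k⁻¹ * g * k) • d = d := by
    rw [mul_smul, mul_smul, hkd, hge, ← hkd, inv_smul_smul]
  rw [h.lam_mul (by rw [inv_smul_eq_iff, hgd]) hgk, h.lam_inv hgd, ← h.lam_smul, hkd] at h1
  have h2 := h.fano hpq (h3 p q hpq) hd he hde hgc hgd hge
  have hg1' : lam A q c g = 1 := hg1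
  rw [hg1', add_assoc, h1] at h2
  exact absurd h2 (by decide)

/-- **(0)** : all characters are independent -/
theorem ind_of_proper [Finite G] [Fintype I] (h : CS G A m) (htr : ∀ x y : C, ∃ g : G, g • x = y) {c : C}
    (hsl : ∀ i j, i ≠ j → m i j = 2 ∨ m i j = 3) (hnb : ∀ i, ∃ j, j ≠ i ∧ m i j = 3) (hcard : 3 ≤ Fintype.card I)
    (hprop : ∀ k, Ind (MulAction.stabilizer G c) {l | l ≠ k} (fun l g => lam A l c g)) :
    Ind (MulAction.stabilizer G c) Set.univ (fun l g => lam A l c g) := by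
  classical
  intro U _ h1
  by_contra hne
  have hU : U = Finset.univ := by
    by_contra hU
    obtain ⟨k, hk⟩ : ∃ k, k ∉ U := by
      by_contra hcon
      push Not at hcon
      exact hU (Finset.eq_univ_iff_forall.2 hcon)
    exact hne (hprop k U (fun l hl => by
      rintro rfl
      exact hk hl) h1)
  subst hU
  have hrel := rel_all h htr (c0 := c) (fun g hg => h1 g hg)
  have h3 : ∀ i j, i ≠ j → m i j = 3 := fun i j hij => complete_of_rel h hsl hnb hprop hrel hij
  obtain ⟨p, q, r, -, -, -, hpq, hpr, hqr⟩ : ∃ p q r : I, p ∈ Finset.univ ∧ q ∈ Finset.univ ∧ r ∈ Finset.univ ∧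
      p ≠ q ∧ p ≠ r ∧ q ≠ r := by
    have h2 : 2 < (Finset.univ : Finset I).card := by
      rw [Finset.card_univ]
      omega
    obtain ⟨p, q, r, hp, hq, hr, h4, h5, h6⟩ := Finset.two_lt_card_iff.1 h2
    exact ⟨p, q, r, hp, hq, hr, h4, h5, h6⟩
  by_cases hI : ∀ i : I, i = p ∨ i = q ∨ i = r
  · have huniv : (Finset.univ : Finset I) = {p, q, r} := by
      ext i
      simp [hI i]
    refine no_triangle h hI hpq hpr hqr h3 (c := c) (fun c' g hg => ?_) (hprop r)
    have h2 := hrel c' g hg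
    rw [huniv, Finset.sum_insert (by simp [hpq, hpr]), Finset.sum_insert (by simp [hqr]), Finset.sum_singleton,
      ← add_assoc] at h2
    exact h2
  · push Not at hI
    obtain ⟨s, hsp, hsq, hsr⟩ := hI
    have hJ : ∀ i ∈ ({p, q, r} : Set I), ∀ j ∈ ({p, q, r} : Set I), i ≠ j → m i j = 2 ∨ m i j = 3 :=
      fun i _ j _ hij => hsl i j hij
    have hIJ := (hprop s).mono (T' := ({p, q, r} : Set I)) (by
      rintro l (rfl | rfl | rfl)
      · exact hsp.symm
      · exact hsq.symm
      · exact hsr.symm)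
    refine no_A h hJ hIJ (n := 3) le_rfl (v := ![p, q, r]) ?_ ?_ ?_
    · intro a
      fin_cases a <;> simp
    · intro a b hab
      fin_cases a <;> fin_cases b <;>
        first
        | rfl
        | exact absurd hab hpq
        | exact absurd hab hpr
        | exact absurd hab hqr
        | exact absurd hab hpq.symm
        | exact absurd hab hpr.symm
        | exact absurd hab hqr.symm
    · intro a
      fin_cases a
      · exact h3 _ _ hpq
      · exact h3 _ _ hqr
      · exact h3 _ _ hpr.symm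

end Cfsg.Agent.Omega.EH3.NonSph
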