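import Cfsg.Agent.Omega.EH3.NonSph.Group
import Cfsg.Agent.Omega.EH3.NonSph.Zero
import Cfsg.Agent.ParSys.Wt.Hom

/-!
# All proper residues honest ⟹ spherical (bb #12580)

`Honest B P M K` : the residues of type `K` come from a (B,N)-pair of a finite group (`HonBN.ResBN`).

* `dual_of_res` : dual elements from an honest residue;
* `out_of_honest` : simply laced, connected, rank at least three, panels with three chambers, all residues of corank one
  honest: the diagram is `A_n`, `D_n`, `E_6`, `E_7` or `E_8`.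
-/

set_option autoImplicit false

namespace Cfsg.Agent.Omega.EH3.NonSph

open Cfsg.Agent.ParSys Cfsg.Agent.ParSys.Free Cfsg.Agent.ParSys.Wt Cfsg.Agent.ParSys.Wt.HonBN
  Cfsg.Agent.ParSys.Wt.W2 Cfsg.Agent.ParSys.Wt.Hom Cfsg.Agent.LieExceptional.BNPairCore Cfsg.Agent.Tits.Core
  Cfsg.Agent.Tits.OfBN

universe u

variable {G I : Type*} [Group G] {B : Subgroup G} {P : I → Subgroup G}

theorem inCore_of_lam (hBP : ∀ i, B ≤ P i) {i : I} {g : G} (hg : g ∈ B)
    (h : lam (adj B P) i ((1 : G) : G ⧸ B) g = 0) : InCore B (P i) g := (lam_base hBP hg).1 h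

/-- **dual elements from an honest residue** -/
theorem dual_of_res [Finite G] {M : CoxeterMatrix I} (hBP : ∀ i, B ≤ P i) (h3 : ∀ i, B.relIndex (P i) = 3)
    (hsl : ∀ i j, i ≠ j → M i j = 2 ∨ M i j = 3) {K : Set I} {PK : Subgroup G} {L : Type*} [Group L] [Finite L]
    {φ : ↥PK →* L} {Q : Cfsg.BNPair L} {e : ↥K ≃ ↥Q.S} (h : ResBN B P K PK φ Q e (fun i j => M i j)) {k : I}
    (hk : k ∈ K) : ∃ g ∈ B, ¬ InCore B (P k) g ∧ ∀ j ∈ K, j ≠ k → InCore B (P j) g := by
  classical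
  have hN := normal_subgroupOf Q
  have hF := Fintype.ofFinite ↥Q.S
  obtain ⟨M'', cs'', hcs⟩ := S0320.result Q
  have hlab : ∀ i j : ↥K, M'' (e i) (e j) = M i j := h.label cs'' hcs
  let P'' : ↥Q.S → Subgroup G := fun s => P ((e.symm s : ↥K) : I)
  have hBP'' : ∀ s, B ≤ P'' s := fun s => hBP _
  have h3'' : ∀ s, B.relIndex (P'' s) = 3 := fun s => h3 _
  have hlab' : ∀ s t : ↥Q.S, M'' s t = M ((e.symm s : ↥K) : I) ((e.symm t : ↥K) : I) := by
    intro s t
    rw [← hlab, Equiv.apply_symm_apply, Equiv.apply_symm_apply]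
  have hres : ResBN B P'' Set.univ PK φ Q (Equiv.Set.univ ↥Q.S) (fun s t => M'' s t) := by
    refine ⟨h.le, fun s _ => h.leP _ (e.symm s).2, h.surj, h.memB, ?_, ?_⟩
    · rintro ⟨s, hs⟩ x
      have h1 := h.par (e.symm s) x
      rw [Equiv.apply_symm_apply] at h1
      exact h1
    · rintro ⟨s, hs⟩ ⟨t, ht⟩ n
      have h1 := h.lab (e.symm s) (e.symm t) n
      rw [Equiv.apply_symm_apply, Equiv.apply_symm_apply] at h1
      show (((s : ↥Q.S) : L) * ((t : ↥Q.S) : L)) ^ n ∈ Q.B ↔ M'' s t ∣ n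
      rw [hlab' s t]
      exact h1
  have hgp'' : GP B P'' (fun s t => M'' s t) := fun s t _ =>
    hres.gpp hBP'' (Set.mem_univ s) (Set.mem_univ t)
  have H'' : Sy G cs'' (adj B P'') := sy hBP'' h3'' hgp''
  have hHon : Hon G cs'' (adj B P'') Set.univ := hres.hon cs'' hBP''
  have hsl'' : ∀ s t : ↥Q.S, s ≠ t → M'' s t = 2 ∨ M'' s t = 3 := by
    intro s t hst
    rw [hlab' s t]
    refine hsl _ _ fun h1 => hst ?_
    exact e.symm.injective (Subtype.ext h1)
  obtain ⟨A, hA⟩ := Cfsg.Agent.Tits.Roots.exists_cartan M'' fun i j hij => by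
    rcases hsl'' i j hij with h1 | h1
    · exact Or.inl h1
    · exact Or.inr (Or.inl h1)
  have hfinC : Finite (G ⧸ B) := inferInstance
  obtain ⟨g, hg1, hg2, hg3⟩ := exists_root hA H'' hHon ((1 : G) : G ⧸ B) (k := e ⟨k, hk⟩) (Set.mem_univ _)
  have hgB : g ∈ B := by
    have h1 : g ∈ MulAction.stabilizer G ((1 : G) : G ⧸ B) := Fix_le hg1
    rwa [stab_base] at h1
  have hPk : ∀ (j : I) (hj : j ∈ K), P'' (e ⟨j, hj⟩) = P j := by
    intro j hj
    show P ((e.symm (e ⟨j, hj⟩) : ↥K) : I) = P j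
    rw [Equiv.symm_apply_apply]
  refine ⟨g, hgB, fun h1 => ?_, fun j hj hjk => ?_⟩
  · rw [← hPk k hk] at h1
    rw [(lam_base hBP'' hgB).2 h1] at hg2
    exact absurd hg2 (by decide)
  · have h1 := hg3 (e ⟨j, hj⟩) (Set.mem_univ _) (fun h2 => hjk (congrArg Subtype.val (e.injective h2)))
    have h2 := (lam_base hBP'' hgB).1 h1
    rwa [hPk j hj] at h2

theorem ind_of_res [Finite G] {M : CoxeterMatrix I} (hBP : ∀ i, B ≤ P i) (h3 : ∀ i, B.relIndex (P i) = 3)
    (hsl : ∀ i j, i ≠ j → M i j = 2 ∨ M i j = 3) {K : Set I} {PK : Subgroup G} {L : Type*} [Group L] [Finite L]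
    {φ : ↥PK →* L} {Q : Cfsg.BNPair L} {e : ↥K ≃ ↥Q.S} (h : ResBN B P K PK φ Q e (fun i j => M i j)) :
    Ind B K (fun l g => lam (adj B P) l ((1 : G) : G ⧸ B) g) := by
  refine Ind.of_dual fun k hk => ?_
  obtain ⟨g, hg, h1, h2⟩ := dual_of_res hBP h3 hsl h hk
  exact ⟨g, hg, lam_base_one hBP hg h1, fun l hl hlk => (lam_base hBP hg).2 (h2 l hl hlk)⟩

/-- the residues of type `K` come from a (B,N)-pair of a finite group -/
def Honest (B : Subgroup G) (P : I → Subgroup G) (M : CoxeterMatrix I) (K : Set I) : Prop :=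
  ∃ (PK : Subgroup G) (L : Type u) (_ : Group L) (_ : Finite L) (φ : ↥PK →* L) (Q : Cfsg.BNPair L)
    (e : ↥K ≃ ↥Q.S), ResBN B P K PK φ Q e (fun i j => M i j)

/-- **All residues of corank one honest ⟹ `A_n`, `D_n`, `E_6`, `E_7`, `E_8`.** -/
theorem out_of_honest [Finite G] [Fintype I] [DecidableEq I] {M : CoxeterMatrix I} (hBP : ∀ i, B ≤ P i)
    (h3 : ∀ i, B.relIndex (P i) = 3) (hsl : ∀ i j, i ≠ j → M i j = 2 ∨ M i j = 3)
    (hconn : ∀ J : Set I, J.Nonempty → Jᶜ.Nonempty → ∃ a ∈ J, ∃ b ∈ Jᶜ, M a b ≠ 2) (hcard : 3 ≤ Fintype.card I)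
    (hres : ∀ k, Honest.{u} B P M {l | l ≠ k}) : Shape.Out M := by
  have hne : Nonempty I := Fintype.card_pos_iff.1 (by omega)
  have hgp : GP B P (fun i j => M i j) := by
    intro i j hij
    obtain ⟨k, hki, hkj⟩ : ∃ k, k ≠ i ∧ k ≠ j := by
      by_contra hcon
      push Not at hcon
      have h1 : (Finset.univ : Finset I) ⊆ {i, j} := by
        intro k _
        by_cases hk : k = i
        · simp [hk]
        · simp [hcon k hk]
      have h2 := Finset.card_le_card h1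
      have h4 := Finset.card_le_two (a := i) (b := j)
      rw [Finset.card_univ] at h2
      omega
    obtain ⟨PK, L, _, _, φ, Q, e, h⟩ := hres k
    exact h.gpp hBP (show i ∈ {l | l ≠ k} from hki.symm) (show j ∈ {l | l ≠ k} from hkj.symm)
  have hcs := cs_group hBP h3 hgp
  have htr : ∀ x y : G ⧸ B, ∃ g : G, g • x = y := fun x y => MulAction.exists_smul_eq G x y
  refine out (A := adj B P) (m := fun i j => M i j) (c := ((1 : G) : G ⧸ B)) hcs (fun _ _ _ => rfl) hsl hconn htr ?_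
  refine ind_of_proper hcs htr hsl (fun i => ?_) hcard fun k => ?_
  · obtain ⟨a, ha, b, hb, hab⟩ := hconn {i} ⟨i, rfl⟩ (by
      by_contra hcon
      rw [Set.not_nonempty_iff_eq_empty] at hcon
      have h1 : (Finset.univ : Finset I) ⊆ {i} := by
        intro k _
        by_contra hk
        have h2 : k ∈ ({i} : Set I)ᶜ := fun h4 => hk (Finset.mem_singleton.2 h4)
        rw [hcon] at h2
        exact h2
      have h2 := Finset.card_le_card h1
      rw [Finset.card_univ, Finset.card_singleton] at h2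
      omega)
    obtain rfl : a = i := ha
    have hba : b ≠ a := hb
    exact ⟨b, hba, (hsl a b hba.symm).resolve_left hab⟩
  · rw [stab_base]
    obtain ⟨PK, L, _, _, φ, Q, e, h⟩ := hres k
    exact ind_of_res hBP h3 hsl h

end Cfsg.Agent.Omega.EH3.NonSph
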