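import Cfsg.Agent.ParSys.Wt.Lam

/-!
# Simply laced, non-spherical, all panels of size three (bb #12580): independent characters

`Ind H T y` : the functions `y k`, `k ∈ T`, are linearly independent over `𝔽₂` on the subgroup `H`.
`Ind.cross` : the one step rule (crossing a wall).
-/

set_option autoImplicit false

namespace Cfsg.Agent.Omega.EH3.NonSph

variable {G : Type*} [Group G] {ι κ : Type*}

/-- the functions `y k`, `k ∈ T`, are linearly independent over `𝔽₂` on `H` -/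
def Ind (H : Subgroup G) (T : Set ι) (y : ι → G → ZMod 2) : Prop :=
  ∀ U : Finset ι, (∀ k ∈ U, k ∈ T) → (∀ g ∈ H, ∑ k ∈ U, y k g = 0) → U = ∅

/-- `f` is a character of `H` -/
def Chr (H : Subgroup G) (f : G → ZMod 2) : Prop := ∀ a ∈ H, ∀ b ∈ H, f (a * b) = f a + f b

theorem Chr.one {H : Subgroup G} {f : G → ZMod 2} (h : Chr H f) : f 1 = 0 := by
  have := h 1 H.one_mem 1 H.one_mem
  rw [mul_one] at this
  have z : ∀ a : ZMod 2, a = a + a → a = 0 := by decide
  exact z _ this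

theorem Chr.inv {H : Subgroup G} {f : G → ZMod 2} (h : Chr H f) {a : G} (ha : a ∈ H) : f a⁻¹ = f a := by
  have := h a ha a⁻¹ (H.inv_mem ha)
  rw [mul_inv_cancel, h.one] at this
  have z : ∀ a b : ZMod 2, 0 = a + b → b = a := by decide
  exact z _ _ this

theorem Chr.conj {H : Subgroup G} {f : G → ZMod 2} (h : Chr H f) {t g : G} (ht : t ∈ H) (hg : g ∈ H) :
    f (t * g * t⁻¹) = f g := by
  rw [h _ (H.mul_mem ht hg) _ (H.inv_mem ht), h t ht g hg, h.inv ht]
  have z : ∀ a b : ZMod 2, a + b + a = b := by decide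
  exact z _ _

theorem Chr.sum {H : Subgroup G} {y : ι → G → ZMod 2} (U : Finset ι) (h : ∀ k ∈ U, Chr H (y k)) :
    Chr H fun g => ∑ k ∈ U, y k g := by
  intro a ha b hb
  show ∑ k ∈ U, y k (a * b) = (∑ k ∈ U, y k a) + ∑ k ∈ U, y k b
  rw [← Finset.sum_add_distrib]
  exact Finset.sum_congr rfl fun k hk => h k hk a ha b hb

theorem Ind.mono {H : Subgroup G} {T T' : Set ι} {y : ι → G → ZMod 2} (h : Ind H T y) (hT : T' ⊆ T) :
    Ind H T' y :=
  fun U hU h1 => h U (fun k hk => hT (hU k hk)) h1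

theorem Ind.ne {H : Subgroup G} {T : Set ι} {y : ι → G → ZMod 2} (h : Ind H T y) {x : ι} (hx : x ∈ T) :
    ∃ t ∈ H, y x t = 1 := by
  by_contra hcon
  push Not at hcon
  have h1 := h {x} (by simpa using hx) (fun g hg => by
    rw [Finset.sum_singleton]
    have z : ∀ a : ZMod 2, a ≠ 1 → a = 0 := by decide
    exact z _ (hcon g hg))
  simp at h1

/-- change of the names and of the functions -/
theorem Ind.map [DecidableEq ι] {H : Subgroup G} {T : Set ι} {y : ι → G → ZMod 2} (h : Ind H T y) {T' : Set κ}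
    {y' : κ → G → ZMod 2} (f : κ → ι) (hf : ∀ k ∈ T', f k ∈ T) (he : ∀ k ∈ T', ∀ g ∈ H, y' k g = y (f k) g)
    (inj : ∀ k ∈ T', ∀ l ∈ T', f k = f l → k = l) : Ind H T' y' := by
  intro U hU h1
  have h2 := h (U.image f) (fun k hk => by
    obtain ⟨l, hl, rfl⟩ := Finset.mem_image.1 hk
    exact hf l (hU l hl)) (fun g hg => by
    rw [Finset.sum_image (fun a ha b hb hab => inj a (hU a ha) b (hU b hb) hab)]
    rw [← h1 g hg]
    exact Finset.sum_congr rfl fun k hk => (he k (hU k hk) g hg).symm)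
  exact Finset.image_eq_empty.1 h2

/-- independence on the kernel of a member -/
theorem Ind.ker [DecidableEq ι] {H H' : Subgroup G} {T : Set ι} {y : ι → G → ZMod 2} (h : Ind H T y)
    (hy : ∀ k ∈ T, Chr H (y k)) {x : ι} (hx : x ∈ T) (hH' : ∀ g, g ∈ H' ↔ g ∈ H ∧ y x g = 0) :
    Ind H' (T \ {x}) y := by
  intro U hU h1
  obtain ⟨t, ht, hxt⟩ := h.ne hx
  have hxU : x ∉ U := fun h2 => (hU x h2).2 rfl
  have hc := Chr.sum U fun k hk => hy k (hU k hk).1
  have z : ∀ a : ZMod 2, a = 0 ∨ a = 1 := by decide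
  have key : ∀ g ∈ H, ∑ k ∈ U, y k g = (∑ k ∈ U, y k t) * y x g := by
    intro g hg
    rcases z (y x g) with h2 | h2
    · rw [h2, mul_zero]
      exact h1 g ((hH' g).2 ⟨hg, h2⟩)
    · rw [h2, mul_one]
      have h3 : g * t⁻¹ ∈ H' := by
        rw [hH']
        refine ⟨H.mul_mem hg (H.inv_mem ht), ?_⟩
        rw [hy x hx g hg _ (H.inv_mem ht), (hy x hx).inv ht, h2, hxt]
        decide
      have h4 := h1 _ h3
      have h5 : ∑ k ∈ U, y k (g * t⁻¹) = ∑ k ∈ U, y k g + ∑ k ∈ U, y k t⁻¹ := hc g hg t⁻¹ (H.inv_mem ht)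
      have h6 : ∑ k ∈ U, y k t⁻¹ = ∑ k ∈ U, y k t := hc.inv ht
      rw [h5, h6] at h4
      have z2 : ∀ a b : ZMod 2, a + b = 0 → a = b := by decide
      exact z2 _ _ h4
  rcases z (∑ k ∈ U, y k t) with h2 | h2
  · exact h U (fun k hk => (hU k hk).1) (fun g hg => by rw [key g hg, h2, zero_mul])
  · exfalso
    have h3 := h (insert x U) (fun k hk => by
      rcases Finset.mem_insert.1 hk with rfl | hk
      · exact hx
      · exact (hU k hk).1) (fun g hg => by
      rw [Finset.sum_insert hxU, key g hg, h2, one_mul]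
      have z2 : ∀ a : ZMod 2, a + a = 0 := by decide
      exact z2 _)
    exact Finset.insert_ne_empty _ _ h3

/-- **The one step rule.** -/
theorem Ind.cross [DecidableEq ι] [DecidableEq κ] {H H' : Subgroup G} {T : Set ι} {y : ι → G → ZMod 2}
    (h : Ind H T y) (hy : ∀ k ∈ T, Chr H (y k)) {x : ι} (hx : x ∈ T)
    (hH' : ∀ g, g ∈ H' ↔ g ∈ H ∧ y x g = 0) {T' : Set κ} {y' : κ → G → ZMod 2} (f : κ → ι) (New : Set κ)
    (hf : ∀ k ∈ T', f k ∈ T ∧ f k ≠ x) (hold : ∀ k ∈ T', k ∉ New → ∀ g ∈ H', y' k g = y (f k) g)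
    (hnew : ∀ k ∈ T', k ∈ New → ∀ t ∈ H, y x t = 1 → ∀ g ∈ H', y' k g + y' k (t * g * t⁻¹) = y (f k) g)
    (injo : ∀ k ∈ T', ∀ l ∈ T', k ∉ New → l ∉ New → f k = f l → k = l)
    (injn : ∀ k ∈ T', ∀ l ∈ T', k ∈ New → l ∈ New → f k = f l → k = l) : Ind H' T' y' := by
  classical
  have hk := h.ker hy hx hH'
  intro U hU h1
  obtain ⟨t, ht, hxt⟩ := h.ne hx
  have hle : H' ≤ H := fun g hg => ((hH' g).1 hg).1
  have hconj : ∀ g ∈ H', t * g * t⁻¹ ∈ H' := by
    intro g hg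
    rw [hH']
    refine ⟨H.mul_mem (H.mul_mem ht (hle hg)) (H.inv_mem ht), ?_⟩
    rw [(hy x hx).conj ht (hle hg)]
    exact ((hH' g).1 hg).2
  set Un := U.filter (· ∈ New) with hUn
  set Uo := U.filter (· ∉ New) with hUo
  have hsplit : ∀ g, ∑ k ∈ U, y' k g = ∑ k ∈ Un, y' k g + ∑ k ∈ Uo, y' k g := fun g =>
    (Finset.sum_filter_add_sum_filter_not U (· ∈ New) fun k => y' k g).symm
  have mn : ∀ k ∈ Un, k ∈ T' ∧ k ∈ New := fun k hk => ⟨hU k (Finset.mem_filter.1 hk).1, (Finset.mem_filter.1 hk).2⟩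
  have mo : ∀ k ∈ Uo, k ∈ T' ∧ k ∉ New := fun k hk => ⟨hU k (Finset.mem_filter.1 hk).1, (Finset.mem_filter.1 hk).2⟩
  have hn : Un = ∅ := by
    have h2 := hk (Un.image f) (fun k hk => by
      obtain ⟨l, hl, rfl⟩ := Finset.mem_image.1 hk
      exact ⟨(hf l (mn l hl).1).1, (hf l (mn l hl).1).2⟩) (fun g hg => by
      rw [Finset.sum_image (fun a ha b hb hab => injn a (mn a ha).1 b (mn b hb).1 (mn a ha).2 (mn b hb).2 hab)]
      have e1 : ∑ k ∈ Un, y (f k) g = ∑ k ∈ Un, y' k g + ∑ k ∈ Un, y' k (t * g * t⁻¹) := by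
        rw [← Finset.sum_add_distrib]
        exact Finset.sum_congr rfl fun k hk => (hnew k (mn k hk).1 (mn k hk).2 t ht hxt g hg).symm
      have e2 : ∑ k ∈ Uo, y' k (t * g * t⁻¹) = ∑ k ∈ Uo, y' k g := by
        refine Finset.sum_congr rfl fun k hk => ?_
        rw [hold k (mo k hk).1 (mo k hk).2 _ (hconj g hg), hold k (mo k hk).1 (mo k hk).2 g hg,
          (hy _ (hf k (mo k hk).1).1).conj ht (hle hg)]
      have e3 := h1 g hg
      have e4 := h1 _ (hconj g hg)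
      rw [hsplit] at e3 e4
      rw [e2] at e4
      rw [e1]
      have z2 : ∀ a b c : ZMod 2, a + c = 0 → b + c = 0 → a + b = 0 := by decide
      exact z2 _ _ _ e3 e4)
    exact Finset.image_eq_empty.1 h2
  have ho : Uo = ∅ := by
    have h2 := hk (Uo.image f) (fun k hk => by
      obtain ⟨l, hl, rfl⟩ := Finset.mem_image.1 hk
      exact ⟨(hf l (mo l hl).1).1, (hf l (mo l hl).1).2⟩) (fun g hg => by
      rw [Finset.sum_image (fun a ha b hb hab => injo a (mo a ha).1 b (mo b hb).1 (mo a ha).2 (mo b hb).2 hab)]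
      have e3 := h1 g hg
      rw [hsplit, hn, Finset.sum_empty, zero_add] at e3
      rw [← e3]
      exact Finset.sum_congr rfl fun k hk => (hold k (mo k hk).1 (mo k hk).2 g hg).symm)
    exact Finset.image_eq_empty.1 h2
  rw [Finset.eq_empty_iff_forall_notMem]
  intro k hkU
  by_cases hN : k ∈ New
  · have : k ∈ Un := Finset.mem_filter.2 ⟨hkU, hN⟩
    rw [hn] at this
    exact absurd this (Finset.notMem_empty k)
  · have : k ∈ Uo := Finset.mem_filter.2 ⟨hkU, hN⟩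
    rw [ho] at this
    exact absurd this (Finset.notMem_empty k)

/-- the kernel of a character, as a subgroup -/
def kerSub (H : Subgroup G) (x : G → ZMod 2) (hx : Chr H x) : Subgroup G where
  carrier := {g | g ∈ H ∧ x g = 0}
  mul_mem' {a b} ha hb := ⟨H.mul_mem ha.1 hb.1, by rw [hx a ha.1 b hb.1, ha.2, hb.2, add_zero]⟩
  one_mem' := ⟨H.one_mem, hx.one⟩
  inv_mem' {a} ha := ⟨H.inv_mem ha.1, by rw [hx.inv ha.1, ha.2]⟩

theorem mem_kerSub {H : Subgroup G} {x : G → ZMod 2} {hx : Chr H x} {g : G} : g ∈ kerSub H x hx ↔ g ∈ H ∧ x g = 0 :=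
  Iff.rfl

theorem kerSub_le {H : Subgroup G} {x : G → ZMod 2} {hx : Chr H x} : kerSub H x hx ≤ H := fun _ h => h.1

theorem card_lt [Finite G] {H H' : Subgroup G} (hle : H' ≤ H) {t : G} (ht : t ∈ H) (ht' : t ∉ H') :
    Nat.card H' < Nat.card H := by
  refine lt_of_le_of_ne (Subgroup.card_le_of_le hle) fun h => ht' ?_
  rw [Subgroup.eq_of_le_of_card_ge hle h.ge]
  exact ht

end Cfsg.Agent.Omega.EH3.NonSph
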