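import Cfsg.Agent.Omega.EH3.NonSph.Walk

/-!
# Cycles and two branch nodes (bb #12580)

* `no_sys` : a system of states closed under walks and turns does not exist;
* `no_walk` : an infinite walk without backtracking (so a cycle) does not exist;
* `no_D` : two disjoint pairs of leaves at the two ends of a path do not exist (`D~_n`, and a node of degree four).
-/

set_option autoImplicit false

namespace Cfsg.Agent.Omega.EH3.NonSph

open Cfsg.Agent.ParSys Cfsg.Agent.ParSys.Free Cfsg.Agent.ParSys.Wt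

variable {C I G : Type*} [Group G] [MulAction G C] {A : I → C → C → Prop} {m : I → I → ℕ} {J : Set I}

/-- a system of states `(k, Λ)` -/
structure Sys (m : I → I → ℕ) (J : Set I) (S : I → Set I → Prop) : Prop where
  mem : ∀ k Λ, S k Λ → k ∈ J ∧ ∀ l ∈ Λ, l ∈ J ∧ l ≠ k ∧ m k l = 3
  step : ∀ k Λ, S k Λ → (∃ mm ∈ Λ, ∃ Λ', S mm Λ' ∧ k ∉ Λ') ∨
    ∃ e ∈ Λ, ∃ e' ∈ Λ, e ≠ e' ∧ m e e' = 2 ∧ ∃ Λ', S k Λ' ∧ e ∉ Λ' ∧ e' ∉ Λ'

theorem no_sys_aux [Finite G] (h : CS G A m) (hJ : ∀ i ∈ J, ∀ j ∈ J, i ≠ j → m i j = 2 ∨ m i j = 3)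
    {S : I → Set I → Prop} (hS : Sys m J S) (n : ℕ) : ∀ k Λ, S k Λ → ¬ WS G A J k Λ n := by
  induction n using Nat.strong_induction_on with
  | _ n ih =>
    intro k Λ h0 W
    obtain ⟨hk, hΛ⟩ := hS.mem k Λ h0
    rcases hS.step k Λ h0 with ⟨mm, hmm, Λ', h1, h2⟩ | ⟨e, he, e', he', hne, hme, Λ', h1, h2, h3⟩
    · obtain ⟨h3, h4, h5⟩ := hΛ mm hmm
      obtain ⟨-, hΛ'⟩ := hS.mem mm Λ' h1
      obtain ⟨n', hn', W'⟩ := walk (Λ' := Λ') h hJ hk h3 h4.symm h5 hmm (fun l hl => ⟨(hΛ' l hl).1, by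
        rintro rfl
        exact h2 hl, (hΛ' l hl).2.1, (hΛ' l hl).2.2⟩) W
      exact ih n' hn' mm Λ' h1 W'
    · obtain ⟨a1, a2, a3⟩ := hΛ e he
      obtain ⟨b1, b2, b3⟩ := hΛ e' he'
      obtain ⟨-, hΛ'⟩ := hS.mem k Λ' h1
      obtain ⟨n', hn', W'⟩ := turn (Λ' := Λ') h hJ hk a1 b1 a2.symm b2.symm a3 b3 hne hme he he' (fun l hl =>
        ⟨(hΛ' l hl).1, (hΛ' l hl).2.1, by
        rintro rfl
        exact h2 hl, by
        rintro rfl
        exact h3 hl, (hΛ' l hl).2.2⟩) W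
      exact ih n' hn' k Λ' h1 W'

theorem no_sys [Finite G] (h : CS G A m) (hJ : ∀ i ∈ J, ∀ j ∈ J, i ≠ j → m i j = 2 ∨ m i j = 3) {c : C}
    (hI : Ind (MulAction.stabilizer G c) J (fun l g => lam A l c g)) {S : I → Set I → Prop} (hS : Sys m J S) {k : I}
    {Λ : Set I} (h0 : S k Λ) : False := by
  obtain ⟨hk, hΛ⟩ := hS.mem k Λ h0
  obtain ⟨n, W⟩ := start h hJ hI hk hΛ
  exact no_sys_aux h hJ hS n k Λ h0 W

/-- **No infinite walk without backtracking.** -/
theorem no_walk [Finite G] (h : CS G A m) (hJ : ∀ i ∈ J, ∀ j ∈ J, i ≠ j → m i j = 2 ∨ m i j = 3) {c : C}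
    (hI : Ind (MulAction.stabilizer G c) J (fun l g => lam A l c g)) {v : ℕ → I} (hv : ∀ n, v n ∈ J)
    (h1 : ∀ n, v (n + 1) ≠ v n ∧ m (v n) (v (n + 1)) = 3) (h2 : ∀ n, v (n + 2) ≠ v n) : False := by
  refine no_sys h hJ hI (S := fun k Λ => ∃ n, k = v n ∧ Λ = {v (n + 1)}) ⟨?_, ?_⟩ ⟨0, rfl, rfl⟩
  · rintro _ _ ⟨n, rfl, rfl⟩
    refine ⟨hv n, ?_⟩
    rintro l rfl
    exact ⟨hv _, h1 n⟩
  · rintro _ _ ⟨n, rfl, rfl⟩
    exact Or.inl ⟨v (n + 1), rfl, {v (n + 2)}, ⟨n + 1, rfl, rfl⟩, fun h0 => h2 n h0.symm⟩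

/-- **No cycle.** -/
theorem no_A [Finite G] (h : CS G A m) (hJ : ∀ i ∈ J, ∀ j ∈ J, i ≠ j → m i j = 2 ∨ m i j = 3) {c : C}
    (hI : Ind (MulAction.stabilizer G c) J (fun l g => lam A l c g)) {n : ℕ} (hn : 3 ≤ n) {v : ZMod n → I}
    (hv : ∀ a, v a ∈ J) (hinj : Function.Injective v) (h3 : ∀ a, m (v a) (v (a + 1)) = 3) : False := by
  have : Fact (1 < n) := ⟨by omega⟩
  have h10 : (1 : ZMod n) ≠ 0 := one_ne_zero
  have h20 : (2 : ZMod n) ≠ 0 := by
    intro h0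
    have h1 : ((2 : ℕ) : ZMod n) = 0 := by exact_mod_cast h0
    rw [ZMod.natCast_eq_zero_iff] at h1
    have := Nat.le_of_dvd (by norm_num) h1
    omega
  refine no_walk h hJ hI (v := fun k => v (k : ZMod n)) (fun k => hv _) (fun k => ⟨fun h0 => ?_, ?_⟩) (fun k h0 => ?_)
  · have h1 := hinj h0
    push_cast at h1
    exact h10 (by simpa using h1)
  · push_cast
    exact h3 _
  · have h1 := hinj h0
    push_cast at h1
    exact h20 (by simpa using h1)

/-- **No two disjoint pairs of leaves at the ends of a path.** -/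
theorem no_D [Finite G] (h : CS G A m) (hJ : ∀ i ∈ J, ∀ j ∈ J, i ≠ j → m i j = 2 ∨ m i j = 3) {c : C}
    (hI : Ind (MulAction.stabilizer G c) J (fun l g => lam A l c g)) {v : ℕ → I} {r : ℕ} (hv : ∀ i ≤ r, v i ∈ J)
    (hv1 : ∀ i < r, v (i + 1) ≠ v i ∧ m (v i) (v (i + 1)) = 3) (hv2 : ∀ i, i + 2 ≤ r → v (i + 2) ≠ v i)
    {a a' b b' : I} (ha : a ∈ J) (ha' : a' ∈ J) (hb : b ∈ J) (hb' : b' ∈ J) (ha0 : a ≠ v 0 ∧ m (v 0) a = 3)
    (ha0' : a' ≠ v 0 ∧ m (v 0) a' = 3) (hbr : b ≠ v r ∧ m (v r) b = 3) (hbr' : b' ≠ v r ∧ m (v r) b' = 3)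
    (haa : a ≠ a' ∧ m a a' = 2) (hbb : b ≠ b' ∧ m b b' = 2)
    (h1 : ∀ x, x = a ∨ x = a' → (if r = 0 then x ≠ b ∧ x ≠ b' else x ≠ v 1))
    (h2 : ∀ x, x = b ∨ x = b' → 0 < r → x ≠ v (r - 1)) : False := by
  classical
  have hsymm := h.symm
  -- the sets of directions
  let R : ℕ → Set I := fun i => if i < r then {v (i + 1)} else {b, b'}
  let L : ℕ → Set I := fun i => if 0 < i then {v (i - 1)} else {a, a'}
  refine no_sys h hJ hI (S := fun k Λ => ∃ i ≤ r, k = v i ∧ (Λ = R i ∨ Λ = L i)) ⟨?_, ?_⟩ ⟨0, Nat.zero_le _, rfl,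
    Or.inl rfl⟩
  · rintro _ _ ⟨i, hi, rfl, rfl | rfl⟩
    · refine ⟨hv i hi, ?_⟩
      by_cases h3 : i < r
      · simp only [R, if_pos h3, Set.mem_singleton_iff]
        rintro l rfl
        exact ⟨hv _ (by omega), hv1 i h3⟩
      · obtain rfl : i = r := by omega
        simp only [R, if_neg h3, Set.mem_insert_iff, Set.mem_singleton_iff]
        rintro l (rfl | rfl)
        · exact ⟨hb, hbr⟩
        · exact ⟨hb', hbr'⟩
    · refine ⟨hv i hi, ?_⟩
      by_cases h3 : 0 < i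
      · simp only [L, if_pos h3, Set.mem_singleton_iff]
        rintro l rfl
        obtain ⟨j, rfl⟩ : ∃ j, i = j + 1 := ⟨i - 1, by omega⟩
        refine ⟨hv _ (by omega), ?_, ?_⟩
        · exact (hv1 j (by omega)).1.symm
        · rw [hsymm]
          exact (hv1 j (by omega)).2
      · obtain rfl : i = 0 := by omega
        simp only [L, if_neg h3, Set.mem_insert_iff, Set.mem_singleton_iff]
        rintro l (rfl | rfl)
        · exact ⟨ha, ha0⟩
        · exact ⟨ha', ha0'⟩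
  · rintro _ _ ⟨i, hi, rfl, rfl | rfl⟩
    · by_cases h3 : i < r
      · left
        refine ⟨v (i + 1), by simp [R, h3], R (i + 1), ⟨i + 1, by omega, rfl, Or.inl rfl⟩, ?_⟩
        by_cases h4 : i + 1 < r
        · simp only [R, if_pos h4, Set.mem_singleton_iff]
          exact (hv2 i (by omega)).symm
        · obtain rfl : r = i + 1 := by omega
          simp only [R, if_neg h4, Set.mem_insert_iff, Set.mem_singleton_iff, not_or]
          exact ⟨fun h0 => h2 b (Or.inl rfl) (by omega) (by simpa using h0.symm),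
            fun h0 => h2 b' (Or.inr rfl) (by omega) (by simpa using h0.symm)⟩
      · obtain rfl : i = r := by omega
        right
        refine ⟨b, by simp [R], b', by simp [R], hbb.1, hbb.2, L i, ⟨i, le_rfl, rfl, Or.inr rfl⟩, ?_⟩
        by_cases h4 : 0 < i
        · simp only [L, if_pos h4, Set.mem_singleton_iff]
          exact ⟨h2 b (Or.inl rfl) h4, h2 b' (Or.inr rfl) h4⟩
        · obtain rfl : i = 0 := by omega
          simp only [L, if_neg h4, Set.mem_insert_iff, Set.mem_singleton_iff, not_or]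
          have e1 := h1 a (Or.inl rfl)
          have e2 := h1 a' (Or.inr rfl)
          rw [if_pos rfl] at e1 e2
          exact ⟨⟨e1.1.symm, e2.1.symm⟩, ⟨e1.2.symm, e2.2.symm⟩⟩
    · by_cases h3 : 0 < i
      · left
        obtain ⟨j, rfl⟩ : ∃ j, i = j + 1 := ⟨i - 1, by omega⟩
        refine ⟨v j, by simp [L], L j, ⟨j, by omega, rfl, Or.inr rfl⟩, ?_⟩
        by_cases h4 : 0 < j
        · obtain ⟨k, rfl⟩ : ∃ k, j = k + 1 := ⟨j - 1, by omega⟩
          simp only [L, if_pos h4, Set.mem_singleton_iff]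
          exact hv2 k (by omega)
        · obtain rfl : j = 0 := by omega
          simp only [L, if_neg h4, Set.mem_insert_iff, Set.mem_singleton_iff, not_or]
          have e1 := h1 a (Or.inl rfl)
          have e2 := h1 a' (Or.inr rfl)
          rw [if_neg (by omega)] at e1 e2
          exact ⟨e1.symm, e2.symm⟩
      · obtain rfl : i = 0 := by omega
        right
        refine ⟨a, by simp [L], a', by simp [L], haa.1, haa.2, R 0, ⟨0, Nat.zero_le _, rfl, Or.inl rfl⟩, ?_⟩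
        have e1 := h1 a (Or.inl rfl)
        have e2 := h1 a' (Or.inr rfl)
        by_cases h4 : 0 < r
        · simp only [R, if_pos h4, Set.mem_singleton_iff]
          rw [if_neg (by omega)] at e1 e2
          exact ⟨e1, e2⟩
        · simp only [R, if_neg h4, Set.mem_insert_iff, Set.mem_singleton_iff, not_or]
          rw [if_pos (by omega)] at e1 e2
          exact ⟨e1, e2⟩

end Cfsg.Agent.Omega.EH3.NonSph
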