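import Cfsg.Agent.Omega.EH3.NonSph.Shape
import Cfsg.Agent.Omega.EH3.NonSph.Sys
import Cfsg.Agent.Omega.EH3.NonSph.Exc

/-!
# Simply laced chamber systems with panels of size three are spherical (bb #12580)

`out` : a connected simply laced chamber system whose panels have three chambers, with a finite chamber transitive group of
automorphisms such that the characters `x_i` are independent on the stabiliser of a chamber, has type `A_n`, `D_n`, `E_6`,
`E_7` or `E_8`.
-/

set_option autoImplicit false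

namespace Cfsg.Agent.Omega.EH3.NonSph

open Cfsg.Agent.ParSys Cfsg.Agent.ParSys.Free Cfsg.Agent.ParSys.Wt Cfsg.Agent.LieRecognition.CoxExcl
  Cfsg.Agent.LieRecognition.CoxClass

section star

set_option linter.unusedSectionVars false

variable {B : Type*} [Fintype B] [DecidableEq B] {M : CoxeterMatrix B}

/-- the nodes of a star -/
def nd (x y z : ℕ → B) (s i : ℕ) : B := if s = 0 then x i else if s = 1 then y i else z i

/-- the lengths of the arms -/
def ln (p q r s : ℕ) : ℕ := if s = 0 then p else if s = 1 then q else r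

/-- adjacency of the nodes of a star -/
def ad (s i t j : ℕ) : Bool :=
  (Nat.beq s t && (Nat.beq (i + 1) j || Nat.beq (j + 1) i)) || ((Nat.beq i 0 && Nat.beq j 1) ||
    (Nat.beq j 0 && Nat.beq i 1))

theorem ad_iff {s i t j : ℕ} :
    ad s i t j = true ↔ (s = t ∧ (i + 1 = j ∨ j + 1 = i)) ∨ (i = 0 ∧ j = 1) ∨ (j = 0 ∧ i = 1) := by
  unfold ad
  simp only [Bool.or_eq_true, Bool.and_eq_true, Nat.beq_eq]

theorem pth_val {v : ℕ → B} {n : ℕ} (h : Pth M v n) {i j : ℕ} (hi : i < n) (hj : j < n) (hij : i ≠ j) :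
    (M (v i) (v j) = 3 ∧ (i + 1 = j ∨ j + 1 = i)) ∨ (M (v i) (v j) = 2 ∧ ¬ (i + 1 = j ∨ j + 1 = i)) := by
  rcases Nat.lt_or_ge i j with h1 | h1
  · have h2 := h i j h1 hj
    by_cases h3 : i + 1 = j
    · rw [if_pos h3] at h2
      exact Or.inl ⟨h2, Or.inl h3⟩
    · rw [if_neg h3] at h2
      exact Or.inr ⟨h2, by omega⟩
  · have h2 := h j i (by omega) hi
    rw [M.symmetric] at h2
    by_cases h3 : j + 1 = i
    · rw [if_pos h3] at h2
      exact Or.inl ⟨h2, Or.inr h3⟩
    · rw [if_neg h3] at h2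
      exact Or.inr ⟨h2, by omega⟩

theorem pth_arm {x y z : ℕ → B} {p q r : ℕ} (h : ST M x p y q z r) {s : ℕ} (hs : s < 3) :
    Pth M (nd x y z s) (ln p q r s + 1) := by
  have hs' : s = 0 ∨ s = 1 ∨ s = 2 := by omega
  rcases hs' with rfl | rfl | rfl
  · exact h.px
  · exact h.py
  · exact h.pz

theorem nd_zero {x y z : ℕ → B} {p q r : ℕ} (h : ST M x p y q z r) (s : ℕ) : nd x y z s 0 = x 0 := by
  have hx0 := h.xy0
  have hz0 := h.xz0
  unfold nd
  split_ifs
  · rfl
  · exact hx0.symm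
  · exact hz0.symm

theorem star_val {x y z : ℕ → B} {p q r : ℕ} (h : ST M x p y q z r) {s t i j : ℕ} (hs : s < 3) (ht : t < 3)
    (hi : i ≤ ln p q r s) (hj : j ≤ ln p q r t) (h0 : i ≠ 0 ∨ j ≠ 0) (h1 : s ≠ t ∨ i ≠ j) :
    M (nd x y z s i) (nd x y z t j) = if ad s i t j = true then 3 else 2 := by
  have key : ∀ s t i j : ℕ, s < t → t < 3 → i ≤ ln p q r s → j ≤ ln p q r t → (i ≠ 0 ∨ j ≠ 0) →
      M (nd x y z s i) (nd x y z t j) = if ad s i t j = true then 3 else 2 := by
    intro s t i j hst ht hi hj h0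
    by_cases hi0 : i = 0
    · subst hi0
      rw [nd_zero h s, ← nd_zero h t]
      rcases pth_val (pth_arm h ht) (i := 0) (j := j) (by omega) (by omega) (by omega) with ⟨h2, h3⟩ | ⟨h2, h3⟩
      · rw [h2, if_pos (ad_iff.2 (by omega))]
      · rw [h2, if_neg (fun h4 => by rw [ad_iff] at h4; omega)]
    by_cases hj0 : j = 0
    · subst hj0
      rw [nd_zero h t, ← nd_zero h s]
      rcases pth_val (pth_arm h (show s < 3 by omega)) (i := i) (j := 0) (by omega) (by omega) (by omega) with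
        ⟨h2, h3⟩ | ⟨h2, h3⟩
      · rw [h2, if_pos (ad_iff.2 (by omega))]
      · rw [h2, if_neg (fun h4 => by rw [ad_iff] at h4; omega)]
    rw [if_neg (fun h4 => by rw [ad_iff] at h4; omega)]
    have hc : (s = 0 ∧ t = 1) ∨ (s = 0 ∧ t = 2) ∨ (s = 1 ∧ t = 2) := by omega
    rcases hc with ⟨rfl, rfl⟩ | ⟨rfl, rfl⟩ | ⟨rfl, rfl⟩
    · exact h.xy i j (by omega) hi (by omega) hj
    · exact h.xz i j (by omega) hi (by omega) hj
    · exact h.yz i j (by omega) hi (by omega) hj
  rcases Nat.lt_trichotomy s t with h2 | h2 | h2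
  · exact key s t i j h2 ht hi hj h0
  · subst h2
    have hij : i ≠ j := by
      rcases h1 with h1 | h1
      · exact absurd rfl h1
      · exact h1
    rcases pth_val (pth_arm h hs) (i := i) (j := j) (by omega) (by omega) hij with ⟨h2, h3⟩ | ⟨h2, h3⟩
    · rw [h2, if_pos (ad_iff.2 (by omega))]
    · rw [h2, if_neg (fun h4 => by rw [ad_iff] at h4; omega)]
  · rw [M.symmetric, key t s j i h2 hs hj hi h0.symm]
    by_cases h4 : ad t j s i = true
    · rw [if_pos h4, if_pos (ad_iff.2 (by rw [ad_iff] at h4; omega))]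
    · rw [if_neg h4, if_neg (fun h5 => h4 (ad_iff.2 (by rw [ad_iff] at h5; omega)))]

/-- the nodes of a subdiagram from a table of positions in a star -/
def tv (x y z : ℕ → B) (tb : List (ℕ × ℕ)) (n : ℕ) : B := nd x y z (tb.getD n (0, 0)).1 (tb.getD n (0, 0)).2

/-- the table is correct -/
def tok (p q r : ℕ) (tb E : List (ℕ × ℕ)) (i j : ℕ) : Prop :=
  (tb.getD i (0, 0)).1 < 3 ∧ (tb.getD j (0, 0)).1 < 3 ∧
    (tb.getD i (0, 0)).2 ≤ ln p q r (tb.getD i (0, 0)).1 ∧ (tb.getD j (0, 0)).2 ≤ ln p q r (tb.getD j (0, 0)).1 ∧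
    ((tb.getD i (0, 0)).2 ≠ 0 ∨ (tb.getD j (0, 0)).2 ≠ 0) ∧
    ((tb.getD i (0, 0)).1 ≠ (tb.getD j (0, 0)).1 ∨ (tb.getD i (0, 0)).2 ≠ (tb.getD j (0, 0)).2) ∧
    (if ad (tb.getD i (0, 0)).1 (tb.getD i (0, 0)).2 (tb.getD j (0, 0)).1 (tb.getD j (0, 0)).2 = true then 3 else 2) =
      Vm.dia E i j

instance (p q r : ℕ) (tb E : List (ℕ × ℕ)) (i j : ℕ) : Decidable (tok p q r tb E i j) := by
  unfold tok
  infer_instance

theorem sub_of_star {m : B → B → ℕ} (hm : ∀ i j, i ≠ j → m i j = M i j) {x y z : ℕ → B} {p q r : ℕ}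
    (h : ST M x p y q z r) {k : ℕ} {tb E : List (ℕ × ℕ)} (hk : ∀ i < k, ∀ j < k, i ≠ j → tok p q r tb E i j) :
    Sub m Set.univ E k (tv x y z tb) := by
  have hval : ∀ i < k, ∀ j < k, i ≠ j → M (tv x y z tb i) (tv x y z tb j) = Vm.dia E i j := by
    intro i hi j hj hij
    obtain ⟨h1, h2, h3, h4, h5, h6, h7⟩ := hk i hi j hj hij
    rw [← h7]
    exact star_val h h1 h2 h3 h4 h5 h6
  have hinj : ∀ i < k, ∀ j < k, tv x y z tb i = tv x y z tb j → i = j := by
    intro i hi j hj he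
    by_contra hij
    have h1 := hval i hi j hj hij
    rw [he, M.diagonal] at h1
    unfold Vm.dia at h1
    split_ifs at h1 <;> omega
  exact ⟨fun i _ => Set.mem_univ _, hinj, fun i hi j hj hij => by
    rw [hm _ _ fun he => hij (hinj i hi j hj he), hval i hi j hj hij]⟩

end star

variable {C I G : Type*} [Group G] [MulAction G C] {A : I → C → C → Prop} {m : I → I → ℕ}

/-- the affine configurations do not occur -/
theorem ex [Finite G] [Fintype I] [DecidableEq I] {M : CoxeterMatrix I} (h : CS G A m)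
    (hm : ∀ i j, i ≠ j → m i j = M i j) (hsl : ∀ i j, i ≠ j → M i j = 2 ∨ M i j = 3)
    (htr : ∀ x y : C, ∃ g : G, g • x = y) {c : C}
    (hI : Ind (MulAction.stabilizer G c) Set.univ (fun l g => lam A l c g)) : Shape.Ex M := by
  have hJ : ∀ i ∈ (Set.univ : Set I), ∀ j ∈ (Set.univ : Set I), i ≠ j → m i j = 2 ∨ m i j = 3 := by
    intro i _ j _ hij
    rw [hm i j hij]
    exact hsl i j hij
  have ne3 : ∀ {i j : I}, M i j = 3 → i ≠ j := by
    rintro i j h3 rfl
    rw [M.diagonal] at h3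
    omega
  have ne2 : ∀ {i j : I}, M i j = 2 → i ≠ j := by
    rintro i j h3 rfl
    rw [M.diagonal] at h3
    omega
  have m3 : ∀ {i j : I}, M i j = 3 → m i j = 3 := fun h3 => (hm _ _ (ne3 h3)).trans h3
  have m2 : ∀ {i j : I}, M i j = 2 → m i j = 2 := fun h2 => (hm _ _ (ne2 h2)).trans h2
  refine ⟨hsl, ?_, ?_, ?_, ?_, ?_⟩
  · intro v h1 h2
    exact no_walk h hJ hI (v := v) (fun _ => Set.mem_univ _) (fun n => ⟨(ne3 (h1 n)).symm, m3 (h1 n)⟩) h2
  · intro v n a b c' d hv ha hb hc hd ha3 hb3 hc3 hd3 hab hac had hbc hbd hcd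
    refine no_D h hJ hI (v := v) (r := n) (a := a) (a' := b) (b := c') (b' := d) (fun _ _ => Set.mem_univ _)
      (fun i hi => ?_) (fun i hi => ?_) (Set.mem_univ _) (Set.mem_univ _) (Set.mem_univ _) (Set.mem_univ _)
      ⟨(ne3 ha3).symm, m3 ha3⟩ ⟨(ne3 hb3).symm, m3 hb3⟩ ⟨(ne3 hc3).symm, m3 hc3⟩ ⟨(ne3 hd3).symm, m3 hd3⟩
      ⟨ne2 hab, m2 hab⟩ ⟨ne2 hcd, m2 hcd⟩ ?_ ?_
    · have h1 := hv.next M (i := i) (by omega)
      exact ⟨(ne3 h1).symm, m3 h1⟩
    · have h1 := hv.far M (i := i) (j := i + 2) (by omega) (by omega)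
      exact (ne2 h1).symm
    · intro x hx
      split_ifs with h1
      · rcases hx with rfl | rfl
        · exact ⟨ne2 hac, ne2 had⟩
        · exact ⟨ne2 hbc, ne2 hbd⟩
      · rcases hx with rfl | rfl
        · exact (ne2 (ha.2 1 (by omega) one_ne_zero)).symm
        · exact (ne2 (hb.2 1 (by omega) one_ne_zero)).symm
    · intro x hx h0
      rcases hx with rfl | rfl
      · exact (ne2 (hc.2 (n - 1) (by omega) (by omega))).symm
      · exact (ne2 (hd.2 (n - 1) (by omega) (by omega))).symm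
  · intro x y z hst
    exact no_E6 h htr hI (sub_of_star hm hst (k := 7)
      (tb := [(0, 0), (0, 1), (0, 2), (1, 1), (1, 2), (2, 1), (2, 2)]) (by decide +kernel))
  · intro x y z hst
    exact no_E7 h htr hI (sub_of_star hm hst (k := 8)
      (tb := [(1, 3), (1, 2), (1, 1), (0, 0), (2, 1), (2, 2), (2, 3), (0, 1)]) (by decide +kernel))
  · intro x y z hst
    exact no_E8 h htr hI (sub_of_star hm hst (k := 9)
      (tb := [(2, 5), (2, 4), (2, 3), (2, 2), (2, 1), (0, 0), (1, 1), (1, 2), (0, 1)]) (by decide +kernel))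

/-- **Connected simply laced chamber systems with panels of size three and independent characters are spherical.** -/
theorem out [Finite G] [Fintype I] [DecidableEq I] [Nonempty I] {M : CoxeterMatrix I} (h : CS G A m)
    (hm : ∀ i j, i ≠ j → m i j = M i j) (hsl : ∀ i j, i ≠ j → M i j = 2 ∨ M i j = 3)
    (hconn : ∀ J : Set I, J.Nonempty → Jᶜ.Nonempty → ∃ a ∈ J, ∃ b ∈ Jᶜ, M a b ≠ 2)
    (htr : ∀ x y : C, ∃ g : G, g • x = y) {c : C}
    (hI : Ind (MulAction.stabilizer G c) Set.univ (fun l g => lam A l c g)) : Shape.Out M :=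
  Shape.classify (ex h hm hsl htr hI) hconn

end Cfsg.Agent.Omega.EH3.NonSph
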