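import Cfsg.Agent.LieRecognition.CoxClass

/-!
# Simply laced connected diagrams without an affine subdiagram are `A_n`, `D_n`, `E_6`, `E_7`, `E_8`

Combinatorial version of `CoxClass.classify`: the positive form is replaced by the excluded configurations `Ex`.
-/

set_option autoImplicit false
set_option linter.unusedSectionVars false

namespace Cfsg.Agent.Omega.EH3.NonSph.Shape

open Finset Cfsg.Agent.LieRecognition.CoxForm Cfsg.Agent.LieRecognition.CoxExcl Cfsg.Agent.LieRecognition.CoxClass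

variable {B : Type*} [Fintype B] [DecidableEq B] (M : CoxeterMatrix B)

/-- the excluded configurations -/
structure Ex : Prop where
  sl : ∀ a b : B, a ≠ b → M a b = 2 ∨ M a b = 3
  cyc : ∀ v : ℕ → B, (∀ n, M (v n) (v (n + 1)) = 3) → (∀ n, v (n + 2) ≠ v n) → False
  D : ∀ (v : ℕ → B) (n : ℕ) (a b c d : B), Pth M v (n + 1) → Att M v (n + 1) a 0 → Att M v (n + 1) b 0 →
    Att M v (n + 1) c n → Att M v (n + 1) d n → M (v 0) a = 3 → M (v 0) b = 3 → M (v n) c = 3 → M (v n) d = 3 →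
    M a b = 2 → M a c = 2 → M a d = 2 → M b c = 2 → M b d = 2 → M c d = 2 → False
  E6 : ∀ x y z : ℕ → B, ¬ ST M x 2 y 2 z 2
  E7 : ∀ x y z : ℕ → B, ¬ ST M x 1 y 3 z 3
  E8 : ∀ x y z : ℕ → B, ¬ ST M x 1 y 2 z 5

variable {M}

theorem Ex.three (E : Ex M) {a b : B} (h : 3 ≤ M a b) : M a b = 3 := by
  have hab : a ≠ b := by
    rintro rfl
    rw [M.diagonal] at h
    omega
  rcases E.sl a b hab with h1 | h1
  · omega
  · exact h1

/-- existence of a leaf -/
theorem exists_leaf (E : Ex M) {S : Finset B} (hS : Conn M S) (h2 : 2 ≤ S.card) :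
    ∃ l ∈ S, ∃ k ∈ S, k ≠ l ∧ M k l = 3 ∧ ∀ b ∈ S, b ≠ l → b ≠ k → M b l = 2 := by
  by_contra hcon
  have nb : ∀ l ∈ S, ∃ k ∈ S, k ≠ l ∧ M k l = 3 := by
    intro l hl
    obtain ⟨l', hl', b, hb, hne⟩ := hS {l} (by simpa using hl) (by simp) (by
      rw [sdiff_singleton_eq_erase]
      apply Finset.card_pos.1
      rw [card_erase_of_mem hl]
      omega)
    rw [mem_singleton] at hl'
    subst hl'
    rw [mem_sdiff, mem_singleton] at hb
    refine ⟨b, hb.1, hb.2, ?_⟩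
    rw [M.symmetric]
    exact (E.sl l' b (Ne.symm hb.2)).resolve_left hne
  have nx : ∀ l ∈ S, ∀ k ∈ S, k ≠ l → M k l = 3 → ∃ b ∈ S, b ≠ l ∧ b ≠ k ∧ M b l = 3 := by
    intro l hl k hk hkl h3
    by_contra hno
    apply hcon
    refine ⟨l, hl, k, hk, hkl, h3, fun b hb hbl hbk => ?_⟩
    by_contra hb2
    exact hno ⟨b, hb, hbl, hbk, (E.sl b l hbl).resolve_left hb2⟩
  let T := {pc : B × B // pc.1 ∈ S ∧ pc.2 ∈ S ∧ pc.1 ≠ pc.2 ∧ M pc.1 pc.2 = 3}
  have step : ∀ t : T, ∃ t' : T, t'.1.1 = t.1.2 ∧ t'.1.2 ≠ t.1.1 := by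
    rintro ⟨⟨p, c⟩, hp, hc, hpc, h3⟩
    obtain ⟨b, hb, hbc, hbp, hb3⟩ := nx c hc p hp hpc h3
    refine ⟨⟨(c, b), hc, hb, Ne.symm hbc, ?_⟩, rfl, hbp⟩
    show M c b = 3
    rw [M.symmetric]
    exact hb3
  choose f hf1 hf2 using step
  obtain ⟨l, hl⟩ := Finset.card_pos.1 (by omega : 0 < S.card)
  obtain ⟨k, hk, hkl, h3⟩ := nb l hl
  let t0 : T := ⟨(k, l), hk, hl, hkl, h3⟩
  have key : ∀ n, (f^[n + 1] t0).1.1 = (f^[n] t0).1.2 := by
    intro n
    rw [Function.iterate_succ_apply']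
    exact hf1 _
  refine E.cyc (fun n => (f^[n] t0).1.1) (fun n => ?_) (fun n => ?_)
  · show M (f^[n] t0).1.1 (f^[n + 1] t0).1.1 = 3
    rw [key]
    exact (f^[n] t0).2.2.2.2
  · show (f^[n + 1 + 1] t0).1.1 ≠ (f^[n] t0).1.1
    rw [key (n + 1), Function.iterate_succ_apply']
    exact hf2 _

theorem step_P (E : Ex M) {S : Finset B} (hS : IsP M S) {k l : B} (hk : k ∈ S) (h3 : M k l = 3)
    (h2 : ∀ b ∈ S, b ≠ k → M b l = 2) : IsP M (insert l S) ∨ IsS M (insert l S) := by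
  obtain ⟨v, n, hv, hvS⟩ := hS
  obtain ⟨t, ht, rfl⟩ := (hvS k).1 hk
  have h2' : ∀ i, i ≤ n → i ≠ t → M (v i) l = 2 := fun i hi hit =>
    h2 _ ((hvS _).2 ⟨i, hi, rfl⟩) (hv.ne M (by omega) (by omega) hit)
  by_cases htn : t = n
  · subst htn
    left
    refine ⟨ext v t l, t + 1, Pth_ext M hv h3 fun i hi => h2' i (by omega) (by omega), ?_⟩
    intro b
    rw [mem_insert, hvS, ext_mem]
  by_cases ht0 : t = 0
  · subst ht0
    left
    refine ⟨ext (fun i => v (n - i)) n l, n + 1, Pth_ext M (Pth_rev M hv) (by simpa using h3)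
      fun i hi => h2' (n - i) (by omega) (by omega), ?_⟩
    intro b
    rw [mem_insert, hvS, ext_mem]
    refine or_congr Iff.rfl ⟨?_, ?_⟩
    · rintro ⟨i, hi, rfl⟩
      exact ⟨n - i, by omega, congrArg v (by omega : n - (n - i) = i)⟩
    · rintro ⟨i, hi, rfl⟩
      exact ⟨n - i, by omega, rfl⟩
  right
  refine ⟨fun i => v (t + i), n - t, fun i => v (t - i), t, fun i => if i = 0 then v t else l, 1,
    ⟨hv.shift M t _ (by omega), hv.back M t _ (by omega) (le_refl _), ?_, by omega, by omega, le_refl _,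
      rfl, rfl, ?_, ?_, ?_⟩, ?_⟩
  · intro i j hij hj
    obtain rfl : i = 0 := by omega
    obtain rfl : j = 1 := by omega
    simpa using h3
  · intro i j hi1 hi hj1 hj
    show M (v (t + i)) (v (t - j)) = 2
    rw [M.symmetric]
    exact hv.far M (by omega) (by omega)
  · intro i j hi1 hi hj1 hj
    show M (v (t + i)) (if j = 0 then v t else l) = 2
    rw [if_neg (by omega)]
    exact h2' _ (by omega) (by omega)
  · intro i j hi1 hi hj1 hj
    show M (v (t - i)) (if j = 0 then v t else l) = 2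
    rw [if_neg (by omega)]
    exact h2' _ (by omega) (by omega)
  · intro b
    rw [mem_insert, hvS]
    constructor
    · rintro (rfl | ⟨i, hi, rfl⟩)
      · exact Or.inr (Or.inr ⟨1, le_refl _, by simp⟩)
      · rcases Nat.lt_or_ge i t with hit | hit
        · exact Or.inr (Or.inl ⟨t - i, by omega, congrArg v (by omega : t - (t - i) = i)⟩)
        · exact Or.inl ⟨i - t, by omega, congrArg v (by omega : t + (i - t) = i)⟩
    · rintro (⟨i, hi, rfl⟩ | ⟨i, hi, rfl⟩ | ⟨i, hi, rfl⟩)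
      · exact Or.inr ⟨t + i, by omega, rfl⟩
      · exact Or.inr ⟨t - i, by omega, rfl⟩
      · by_cases hi0 : i = 0
        · exact Or.inr ⟨t, ht, by simp [hi0]⟩
        · exact Or.inl (by simp [hi0])

theorem step_S_aux (E : Ex M) {S : Finset B} {x : ℕ → B} {p : ℕ} {y : ℕ → B} {q : ℕ} {z : ℕ → B} {r : ℕ}
    (h : ST M x p y q z r)
    (hS : ∀ b, b ∈ S ↔ (∃ i, i ≤ p ∧ x i = b) ∨ (∃ i, i ≤ q ∧ y i = b) ∨ (∃ i, i ≤ r ∧ z i = b)) {t : ℕ} (ht : t ≤ p)
    {l : B} (h3 : M (x t) l = 3) (h2 : ∀ b ∈ S, b ≠ x t → M b l = 2) : IsS M (insert l S) := by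
  have hx2 : ∀ i, i ≤ p → i ≠ t → M (x i) l = 2 := fun i hi hit =>
    h2 _ ((hS _).2 (Or.inl ⟨i, hi, rfl⟩)) (h.px.ne M (by omega) (by omega) hit)
  have hyx : ∀ i j, i ≤ p → 1 ≤ j → j ≤ q → y j ≠ x i := by
    intro i j hi hj1 hj
    by_cases hi0 : i = 0
    · subst hi0
      rw [h.xy0]
      exact h.py.ne M (by omega) (by omega) (by omega)
    · apply Ne.symm
      apply ne_of_two M
      exact h.xy i j (by omega) hi hj1 hj
  have hzx : ∀ i j, i ≤ p → 1 ≤ j → j ≤ r → z j ≠ x i := by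
    intro i j hi hj1 hj
    by_cases hi0 : i = 0
    · subst hi0
      rw [h.xz0]
      exact h.pz.ne M (by omega) (by omega) (by omega)
    · apply Ne.symm
      apply ne_of_two M
      exact h.xz i j (by omega) hi hj1 hj
  have hy2 : ∀ j, 1 ≤ j → j ≤ q → M (y j) l = 2 := fun j h1 hj =>
    h2 _ ((hS _).2 (Or.inr (Or.inl ⟨j, hj, rfl⟩))) (hyx t j ht h1 hj)
  have hz2 : ∀ j, 1 ≤ j → j ≤ r → M (z j) l = 2 := fun j h1 hj =>
    h2 _ ((hS _).2 (Or.inr (Or.inr ⟨j, hj, rfl⟩))) (hzx t j ht h1 hj)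
  have hp := h.hp
  have hq := h.hq
  have hr := h.hr
  have xy1 : ∀ j, j ≠ 0 → j ≤ p → M (x j) (y 1) = 2 := fun j hj0 hj => h.xy j 1 (by omega) hj le_rfl hq
  have xz1 : ∀ j, j ≠ 0 → j ≤ p → M (x j) (z 1) = 2 := fun j hj0 hj => h.xz j 1 (by omega) hj le_rfl hr
  have x0y1 : M (x 0) (y 1) = 3 := by rw [h.xy0]; exact h.py.next M (by omega)
  have x0z1 : M (x 0) (z 1) = 3 := by rw [h.xz0]; exact h.pz.next M (by omega)
  by_cases htp : t = p
  · subst htp
    refine ⟨ext x t l, t + 1, y, q, z, r,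
      ⟨Pth_ext M h.px h3 fun i hi => hx2 i (by omega) (by omega), h.py, h.pz, by omega, hq, hr, ?_, ?_, ?_, ?_,
        h.yz⟩, ?_⟩
    · rw [ext_le (by omega)]
      exact h.xy0
    · rw [ext_le (by omega)]
      exact h.xz0
    · intro i j hi1 hi hj1 hj
      by_cases hit : i ≤ t
      · rw [ext_le hit]
        exact h.xy i j hi1 hit hj1 hj
      · rw [ext_gt (by omega), M.symmetric]
        exact hy2 j hj1 hj
    · intro i j hi1 hi hj1 hj
      by_cases hit : i ≤ t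
      · rw [ext_le hit]
        exact h.xz i j hi1 hit hj1 hj
      · rw [ext_gt (by omega), M.symmetric]
        exact hz2 j hj1 hj
    · intro b
      rw [mem_insert, hS, ext_mem, or_assoc]
  · exfalso
    refine E.D x t (y 1) (z 1) (x (t + 1)) l (h.px.mono M (by omega : t + 1 ≤ p + 1))
      ⟨by omega, fun j hj hj0 => xy1 j hj0 (by omega)⟩ ⟨by omega, fun j hj hj0 => xz1 j hj0 (by omega)⟩
      ⟨by omega, fun j hj hj0 => h.px.far M (by omega) (by omega)⟩ ⟨by omega, fun j hj hj0 => hx2 j (by omega) hj0⟩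
      x0y1 x0z1 ?_ h3 (h.yz 1 1 le_rfl hq le_rfl hr) ?_ (hy2 1 le_rfl hq) ?_ (hz2 1 le_rfl hr)
      (hx2 _ (by omega) (by omega))
    · rw [h.px.next M (by omega)]
    · rw [M.symmetric]
      exact xy1 _ (by omega) (by omega)
    · rw [M.symmetric]
      exact xz1 _ (by omega) (by omega)

theorem step_S (E : Ex M) {S : Finset B} (hS : IsS M S) {k l : B} (hk : k ∈ S) (h3 : M k l = 3)
    (h2 : ∀ b ∈ S, b ≠ k → M b l = 2) : IsS M (insert l S) := by
  obtain ⟨x, p, y, q, z, r, h, hxy⟩ := hS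
  rcases (hxy k).1 hk with ⟨t, ht, rfl⟩ | ⟨t, ht, rfl⟩ | ⟨t, ht, rfl⟩
  · exact step_S_aux E h hxy ht h3 h2
  · exact step_S_aux E (h.swap M) (fun b => by rw [hxy]; exact or_left_comm) ht h3 h2
  · exact step_S_aux E (h.rot M) (fun b => by rw [hxy]; exact or_rotate.symm) ht h3 h2

theorem shapes (E : Ex M) (n : ℕ) : ∀ S : Finset B, S.card = n + 1 → Conn M S → IsP M S ∨ IsS M S := by
  induction n with
  | zero =>
    intro S hS _
    obtain ⟨a, rfl⟩ := Finset.card_eq_one.1 hS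
    left
    refine ⟨fun _ => a, 0, Pth_one M _, ?_⟩
    intro b
    rw [mem_singleton]
    constructor
    · rintro rfl
      exact ⟨0, le_refl _, rfl⟩
    · rintro ⟨i, _, rfl⟩
      rfl
  | succ n ih =>
    intro S hS hc
    obtain ⟨l, hl, k, hk, hkl, h3, h2⟩ := exists_leaf E hc (by omega)
    have hS' : (S.erase l).card = n + 1 := by
      rw [card_erase_of_mem hl]
      omega
    have hk' : k ∈ S.erase l := mem_erase.2 ⟨hkl, hk⟩
    have h2' : ∀ b ∈ S.erase l, b ≠ k → M b l = 2 := fun b hb hbk =>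
      h2 b (mem_erase.1 hb).2 (mem_erase.1 hb).1 hbk
    have hi := Finset.insert_erase hl
    rw [← hi]
    rcases ih _ hS' (hc.erase M hl hk hkl h2) with h | h
    · exact step_P E h hk' h3 h2'
    · exact Or.inr (step_S E h hk' h3 h2')

theorem ST_mono {x y z : ℕ → B} {p q r : ℕ} (h : ST M x p y q z r) {a b c : ℕ} (ha : 1 ≤ a) (hb : 1 ≤ b) (hc : 1 ≤ c)
    (hap : a ≤ p) (hbq : b ≤ q) (hcr : c ≤ r) : ST M x a y b z c :=
  ⟨h.px.mono M (by omega), h.py.mono M (by omega), h.pz.mono M (by omega), ha, hb, hc, h.xy0, h.xz0,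
    fun i j h1 h2 h3 h4 => h.xy i j h1 (by omega) h3 (by omega),
    fun i j h1 h2 h3 h4 => h.xz i j h1 (by omega) h3 (by omega),
    fun i j h1 h2 h3 h4 => h.yz i j h1 (by omega) h3 (by omega)⟩

variable (M) in
/-- the outcomes: `A_n`, `D_n`, `E_6`, `E_7`, `E_8` -/
def Out : Prop :=
  (∃ (n : ℕ) (v : Fin n ≃ B), Lab M v mA) ∨ (∃ (n : ℕ) (v : Fin n ≃ B), 4 ≤ n ∧ Lab M v (mD n)) ∨
  (∃ v : Fin 6 ≃ B, Lab M v (mE 6)) ∨ (∃ v : Fin 7 ≃ B, Lab M v (mE 7)) ∨ (∃ v : Fin 8 ≃ B, Lab M v (mE 8))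

theorem star_aux (E : Ex M) {x y z : ℕ → B} {p q r : ℕ} (h : ST M x p y q z r) (hpq : p ≤ q) (hqr : q ≤ r)
    (hs : ∀ b, (∃ i, i ≤ p ∧ x i = b) ∨ (∃ i, i ≤ q ∧ y i = b) ∨ (∃ i, i ≤ r ∧ z i = b)) : Out M := by
  have hp := h.hp
  have hq := h.hq
  have hr := h.hr
  have hp1 : p = 1 := by
    by_contra hcon
    exact E.E6 _ _ _ (ST_mono h (a := 2) (b := 2) (c := 2) (by omega) (by omega) (by omega) (by omega) (by omega)
      (by omega))
  subst hp1
  have hq2 : q ≤ 2 := by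
    by_contra hcon
    exact E.E7 _ _ _ (ST_mono h (a := 1) (b := 3) (c := 3) (by omega) (by omega) (by omega) (by omega) (by omega)
      (by omega))
  rcases Nat.lt_or_ge q 2 with hq1 | hq1
  · obtain rfl : q = 1 := by omega
    right; left
    have h0y := h.py.next M (i := 0) (by omega)
    have h0x := h.px.next M (i := 0) (by omega)
    rw [Nat.zero_add] at h0x h0y
    rw [← h.xy0, h.xz0] at h0y
    rw [h.xz0] at h0x
    obtain ⟨e, he⟩ := mD_lab M h.pz hr h0x h0y (fun i h1 h2 => by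
        rw [M.symmetric]; exact h.xz 1 i le_rfl le_rfl h1 h2) (fun i h1 h2 => by
        rw [M.symmetric]; exact h.yz 1 i le_rfl le_rfl h1 h2) (h.xy 1 1 le_rfl le_rfl le_rfl le_rfl) (by
        intro b
        rcases hs b with ⟨i, hi, rfl⟩ | ⟨i, hi, rfl⟩ | ⟨i, hi, rfl⟩
        · by_cases hi0 : i = 0
          · subst hi0
            exact Or.inr (Or.inr ⟨0, by omega, h.xz0.symm⟩)
          · obtain rfl : i = 1 := by omega
            exact Or.inl rfl
        · by_cases hi0 : i = 0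
          · subst hi0
            exact Or.inr (Or.inr ⟨0, by omega, h.xz0.symm.trans h.xy0⟩)
          · obtain rfl : i = 1 := by omega
            exact Or.inr (Or.inl rfl)
        · exact Or.inr (Or.inr ⟨i, hi, rfl⟩))
    exact ⟨r + 3, e, by omega, he⟩
  · obtain rfl : q = 2 := by omega
    have hr4 : r ≤ 4 := by
      by_contra hcon
      exact E.E8 _ _ _ (ST_mono h (a := 1) (b := 2) (c := 5) (by omega) (by omega) (by omega) (by omega) (by omega)
        (by omega))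
    have hlab := mE_lab M h hs
    interval_cases r
    · exact Or.inr (Or.inr (Or.inl hlab))
    · exact Or.inr (Or.inr (Or.inr (Or.inl hlab)))
    · exact Or.inr (Or.inr (Or.inr (Or.inr hlab)))

theorem star_case (E : Ex M) {x y z : ℕ → B} {p q r : ℕ} (h : ST M x p y q z r)
    (hs : ∀ b, (∃ i, i ≤ p ∧ x i = b) ∨ (∃ i, i ≤ q ∧ y i = b) ∨ (∃ i, i ≤ r ∧ z i = b)) : Out M := by
  have main : ∀ {x y z : ℕ → B} {p q r : ℕ}, ST M x p y q z r → p ≤ r → q ≤ r →
      (∀ b, (∃ i, i ≤ p ∧ x i = b) ∨ (∃ i, i ≤ q ∧ y i = b) ∨ (∃ i, i ≤ r ∧ z i = b)) → Out M := by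
    intro x y z p q r h h1 h2 hs
    rcases Nat.le_total p q with h3 | h3
    · exact star_aux E h h3 h2 hs
    · exact star_aux E (h.swap M) h3 h1 (fun b => or_left_comm.1 (hs b))
  rcases Nat.le_total p r with h1 | h1
  · rcases Nat.le_total q r with h2 | h2
    · exact main h h1 h2 hs
    · exact main (h.rot M) h2 (by omega) (fun b => or_rotate.2 (hs b))
  · rcases Nat.le_total q p with h2 | h2
    · exact main ((h.rot M).rot M) h2 h1 (fun b => or_rotate.2 (or_rotate.2 (hs b)))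
    · exact main (h.rot M) (by omega) (by omega) (fun b => or_rotate.2 (hs b))

/-- **Connected simply laced diagrams without the configurations `Ex`.** -/
theorem classify (E : Ex M) [Nonempty B]
    (hconn : ∀ J : Set B, J.Nonempty → Jᶜ.Nonempty → ∃ a ∈ J, ∃ b ∈ Jᶜ, M a b ≠ 2) : Out M := by
  have hc : Conn M (Finset.univ : Finset B) := by
    intro J _ hJ hJc
    obtain ⟨a, ha, b, hb, hab⟩ := hconn (J : Set B) (by simpa using hJ) (by
      obtain ⟨b, hb⟩ := hJc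
      exact ⟨b, by simpa using hb⟩)
    exact ⟨a, by simpa using ha, b, by simpa using hb, hab⟩
  have hcard : (Finset.univ : Finset B).card = Fintype.card B := rfl
  have hpos : 0 < Fintype.card B := Fintype.card_pos
  rcases shapes E (Fintype.card B - 1) Finset.univ (by omega) hc with h | h
  · obtain ⟨v, n, hv, hS⟩ := h
    have hs : ∀ b, ∃ i, i < n + 1 ∧ v i = b := fun b => by
      obtain ⟨i, hi, hb⟩ := (hS b).1 (Finset.mem_univ b)
      exact ⟨i, by omega, hb⟩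
    obtain ⟨e, he⟩ := mA_lab M hv hs
    exact Or.inl ⟨n + 1, e, he⟩
  · obtain ⟨x, p, y, q, z, r, h, hS⟩ := h
    exact star_case E h (fun b => (hS b).1 (Finset.mem_univ b))

end Cfsg.Agent.Omega.EH3.NonSph.Shape
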