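import Cfsg.Agent.Omega.EH3.NonSph.Vm

/-!
# Soundness of the certificates (bb #12580)
-/

set_option autoImplicit false

namespace Cfsg.Agent.Omega.EH3.NonSph.Vm

open Cfsg.Agent.ParSys Cfsg.Agent.ParSys.Free Cfsg.Agent.ParSys.Wt

variable {C I G : Type*} [Group G] [MulAction G C] {A : I → C → C → Prop} {m : I → I → ℕ}

/-- the environment: the letters `i : ℕ` stand for the nodes `ι i` -/
structure Env (G : Type*) [Group G] {C I : Type*} [MulAction G C] (A : I → C → C → Prop) (m : I → I → ℕ) (ι : ℕ → I)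
    (mat : ℕ → ℕ → ℕ) : Prop where
  cs : CS G A m
  h2 : ∀ i j, mat i j = 2 → ι i ≠ ι j ∧ m (ι i) (ι j) = 2
  h3 : ∀ i j, mat i j = 3 → ι i ≠ ι j ∧ m (ι i) (ι j) = 3
  cube : ∀ i j k, mat i j = 2 → mat i k = 2 → mat j k = 2 → ∀ a b c d a' b' c' d' : C, A (ι i) a b → A (ι j) b c →
    A (ι j) a d → A (ι i) d c → A (ι k) a a' → A (ι k) b b' → A (ι k) c c' → A (ι k) d d' → A (ι i) a' b' →
    A (ι j) b' c' → A (ι j) a' d' → A (ι i) d' c'

/-- the named chambers are fixed by `H` and the adjacencies hold -/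
structure Real (A : I → C → C → Prop) (ι : ℕ → I) (H : Subgroup G) (φ : ℕ → C) (vs : List ℕ)
    (es : List (ℕ × ℕ × ℕ)) : Prop where
  ed : ∀ a i b, (a, i, b) ∈ es → A (ι i) (φ a) (φ b) ∧ a ∈ vs ∧ b ∈ vs
  fx : ∀ v ∈ vs, ∀ g ∈ H, g • φ v = φ v

variable {ι : ℕ → I} {mat : ℕ → ℕ → ℕ} {H : Subgroup G} {φ : ℕ → C} {vs : List ℕ} {es : List (ℕ × ℕ × ℕ)}

theorem upd {vs : List ℕ} {x : ℕ} (hx : x ∉ vs) (φ : ℕ → C) (z : C) : ∀ v ∈ vs, Function.update φ x z v = φ v := by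
  intro v hv
  have h : v ≠ x := by
    rintro rfl
    exact hx hv
  exact Function.update_of_ne h z φ

/-- adding a new chamber -/
theorem Real.add (R : Real A ι H φ vs es) {x : ℕ} (hx : x ∉ vs) {c : C} (hc : ∀ g ∈ H, g • c = c)
    {es' : List (ℕ × ℕ × ℕ)}
    (he : ∀ a i b, (a, i, b) ∈ es' → (a, i, b) ∈ es ∨ (A (ι i) (Function.update φ x c a) (Function.update φ x c b) ∧
      (a = x ∨ a ∈ vs) ∧ (b = x ∨ b ∈ vs))) : Real A ι H (Function.update φ x c) (x :: vs) es' := by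
  have key : ∀ v ∈ vs, Function.update φ x c v = φ v := upd hx φ c
  refine ⟨?_, ?_⟩
  · intro a i b h
    rcases he a i b h with h1 | ⟨h1, h2, h3⟩
    · obtain ⟨h2, h3, h4⟩ := R.ed a i b h1
      refine ⟨?_, List.mem_cons_of_mem _ h3, List.mem_cons_of_mem _ h4⟩
      rw [key a h3, key b h4]
      exact h2
    · exact ⟨h1, List.mem_cons.2 h2, List.mem_cons.2 h3⟩
  · intro v hv g hg
    rcases List.mem_cons.1 hv with rfl | hv
    · rw [Function.update_self]
      exact hc g hg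
    · rw [key v hv]
      exact R.fx v hv g hg

theorem Con.sound (E : Env G A m ι mat) {con : Con} {vs' : List ℕ} {es' : List (ℕ × ℕ × ℕ)}
    (hr : con.run mat vs es = some (vs', es')) (R : Real A ι H φ vs es) :
    ∃ φ' : ℕ → C, (∀ v ∈ vs, φ' v = φ v) ∧ Real A ι H φ' vs' es' ∧ (∀ v ∈ vs, v ∈ vs') ∧ (∀ e ∈ es, e ∈ es') := by
  cases con with
  | sq a i b j c x =>
    simp only [Con.run] at hr
    split_ifs at hr with h
    simp only [Bool.and_eq_true, not_mem1, mem3_iff, Nat.beq_eq] at h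
    obtain ⟨h1, h2, h3, h4⟩ := h
    obtain ⟨hij, hm⟩ := E.h2 _ _ h1
    obtain ⟨rfl, rfl⟩ := Prod.mk.inj (Option.some.inj hr)
    obtain ⟨e1, a1, b1⟩ := R.ed _ _ _ h2
    obtain ⟨e2, -, c1⟩ := R.ed _ _ _ h3
    obtain ⟨z, ⟨hz1, hz2⟩, hzu⟩ := E.cs.square hij hm e1 e2
    have ne : ∀ v ∈ vs, Function.update φ x z v = φ v := upd h4 φ z
    refine ⟨Function.update φ x z, ne, R.add h4 ?_ ?_, fun v hv => List.mem_cons_of_mem _ hv, fun e he => by simp [he]⟩
    · intro g hg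
      apply hzu
      have t1 := E.cs.act g _ _ _ hz1
      have t2 := E.cs.act g _ _ _ hz2
      rw [R.fx a a1 g hg] at t1
      rw [R.fx c c1 g hg] at t2
      exact ⟨t1, t2⟩
    · intro p k q h
      simp only [List.mem_cons, Prod.mk.injEq] at h
      rcases h with ⟨rfl, rfl, rfl⟩ | ⟨rfl, rfl, rfl⟩ | ⟨rfl, rfl, rfl⟩ | ⟨rfl, rfl, rfl⟩ | h
      · right
        rw [ne _ a1, Function.update_self]
        exact ⟨hz1, Or.inr a1, Or.inl rfl⟩
      · right
        rw [ne _ a1, Function.update_self]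
        exact ⟨E.cs.cham.symm hz1, Or.inl rfl, Or.inr a1⟩
      · right
        rw [ne _ c1, Function.update_self]
        exact ⟨hz2, Or.inl rfl, Or.inr c1⟩
      · right
        rw [ne _ c1, Function.update_self]
        exact ⟨E.cs.cham.symm hz2, Or.inr c1, Or.inl rfl⟩
      · exact Or.inl h
  | hx a i b j c e x y =>
    simp only [Con.run] at hr
    split_ifs at hr with h
    simp only [Bool.and_eq_true, not_mem1, mem3_iff, Nat.beq_eq] at h
    obtain ⟨h1, h2, h3, h4, h5, h6⟩ := h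
    obtain ⟨hij, hm⟩ := E.h3 _ _ h1
    obtain ⟨rfl, rfl⟩ := Prod.mk.inj (Option.some.inj hr)
    obtain ⟨e1, a1, b1⟩ := R.ed _ _ _ h2
    obtain ⟨e2, -, c1⟩ := R.ed _ _ _ h3
    obtain ⟨e3, -, d1⟩ := R.ed _ _ _ h4
    obtain ⟨z, w, ⟨hz1, hz2, hz3⟩, hzu⟩ := E.cs.hexagon hij hm e1 e2 e3
    have hxy : y ≠ x := fun h => h6 (h ▸ List.mem_cons_self)
    have hyv : y ∉ vs := fun h => h6 (List.mem_cons_of_mem _ h)
    have hfix : ∀ g ∈ H, g • z = z ∧ g • w = w := by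
      intro g hg
      apply hzu
      · have t1 := E.cs.act g _ _ _ hz1
        rwa [R.fx a a1 g hg] at t1
      · exact E.cs.act g _ _ _ hz2
      · have t1 := E.cs.act g _ _ _ hz3
        rwa [R.fx e d1 g hg] at t1
    have ne : ∀ v ∈ vs, Function.update φ x z v = φ v := upd h5 φ z
    have R1 : Real A ι H (Function.update φ x z) (x :: vs) ((a, j, x) :: (x, j, a) :: es) := by
      refine R.add h5 (fun g hg => (hfix g hg).1) ?_
      intro p k q h
      simp only [List.mem_cons, Prod.mk.injEq] at h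
      rcases h with ⟨rfl, rfl, rfl⟩ | ⟨rfl, rfl, rfl⟩ | h
      · right
        rw [ne _ a1, Function.update_self]
        exact ⟨hz1, Or.inr a1, Or.inl rfl⟩
      · right
        rw [ne _ a1, Function.update_self]
        exact ⟨E.cs.cham.symm hz1, Or.inl rfl, Or.inr a1⟩
      · exact Or.inl h
    have ne2 : ∀ v ∈ x :: vs, Function.update (Function.update φ x z) y w v = Function.update φ x z v :=
      upd h6 (Function.update φ x z) w
    have hx0 : Function.update φ x z x = z := Function.update_self _ _ _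
    refine ⟨Function.update (Function.update φ x z) y w, fun v hv => ?_, R1.add h6 (fun g hg => (hfix g hg).2) ?_,
      fun v hv => by simp [hv], fun e he => by simp [he]⟩
    · rw [ne2 v (List.mem_cons_of_mem _ hv), ne v hv]
    · intro p k q h
      simp only [List.mem_cons, Prod.mk.injEq] at h
      rcases h with ⟨rfl, rfl, rfl⟩ | ⟨rfl, rfl, rfl⟩ | ⟨rfl, rfl, rfl⟩ | ⟨rfl, rfl, rfl⟩ | ⟨rfl, rfl, rfl⟩ |
        ⟨rfl, rfl, rfl⟩ | h
      · left; simp
      · left; simp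
      · right
        rw [ne2 _ List.mem_cons_self, hx0, Function.update_self]
        exact ⟨hz2, Or.inr List.mem_cons_self, Or.inl rfl⟩
      · right
        rw [ne2 _ List.mem_cons_self, hx0, Function.update_self]
        exact ⟨E.cs.cham.symm hz2, Or.inl rfl, Or.inr List.mem_cons_self⟩
      · right
        rw [ne2 _ (List.mem_cons_of_mem _ d1), ne _ d1, Function.update_self]
        exact ⟨hz3, Or.inl rfl, Or.inr (List.mem_cons_of_mem _ d1)⟩
      · right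
        rw [ne2 _ (List.mem_cons_of_mem _ d1), ne _ d1, Function.update_self]
        exact ⟨E.cs.cham.symm hz3, Or.inr (List.mem_cons_of_mem _ d1), Or.inl rfl⟩
      · left; simp [h]
  | cu i j k a b c d a' b' c' d' =>
    simp only [Con.run] at hr
    split_ifs at hr with h
    simp only [Bool.and_eq_true, mem3_iff, Nat.beq_eq] at h
    obtain ⟨⟨h1, h2, h3⟩, ⟨f1, f2, f3, f4⟩, ⟨f5, f6, f7, f8⟩, f9, f10, f11⟩ := h
    obtain ⟨rfl, rfl⟩ := Prod.mk.inj (Option.some.inj hr)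
    have key := E.cube i j k h1 h2 h3 _ _ _ _ _ _ _ _ (R.ed _ _ _ f1).1 (R.ed _ _ _ f2).1 (R.ed _ _ _ f3).1
      (R.ed _ _ _ f4).1 (R.ed _ _ _ f5).1 (R.ed _ _ _ f6).1 (R.ed _ _ _ f7).1 (R.ed _ _ _ f8).1 (R.ed _ _ _ f9).1
      (R.ed _ _ _ f10).1 (R.ed _ _ _ f11).1
    have md := (R.ed _ _ _ f8).2.2
    have mc := (R.ed _ _ _ f7).2.2
    refine ⟨φ, fun _ _ => rfl, ⟨?_, R.fx⟩, fun v hv => hv, fun e he => by simp [he]⟩
    intro p l q h
    simp only [List.mem_cons, Prod.mk.injEq] at h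
    rcases h with ⟨rfl, rfl, rfl⟩ | ⟨rfl, rfl, rfl⟩ | h
    · exact ⟨key, md, mc⟩
    · exact ⟨E.cs.cham.symm key, mc, md⟩
    · exact R.ed _ _ _ h

theorem runCons_sound (E : Env G A m ι mat) {l : List Con} {vs' : List ℕ} {es' : List (ℕ × ℕ × ℕ)}
    (hr : runCons mat l vs es = some (vs', es')) (R : Real A ι H φ vs es) :
    ∃ φ' : ℕ → C, (∀ v ∈ vs, φ' v = φ v) ∧ Real A ι H φ' vs' es' ∧ (∀ v ∈ vs, v ∈ vs') := by
  induction l generalizing vs es φ with
  | nil =>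
    obtain ⟨rfl, rfl⟩ := Prod.mk.inj (Option.some.inj hr)
    exact ⟨φ, fun _ _ => rfl, R, fun _ h => h⟩
  | cons c cs ih =>
    unfold runCons at hr
    split at hr
    · exact absurd hr (by simp)
    · rename_i vs1 es1 h1
      obtain ⟨φ1, h2, R1, h3, -⟩ := Con.sound E h1 R
      obtain ⟨φ2, h4, R2, h5⟩ := ih hr R1
      exact ⟨φ2, fun v hv => (h4 v (h3 v hv)).trans (h2 v hv), R2, fun v hv => h5 v (h3 v hv)⟩

/-- the character of a label -/
noncomputable def chr (A : I → C → C → Prop) (ι : ℕ → I) (φ : ℕ → C) (p : ℕ × ℕ) (g : G) : ZMod 2 := lam A (ι p.2) (φ p.1) g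

theorem Lk.sound (E : Env G A m ι mat) (R : Real A ι H φ vs es) {k : Lk} {p q : ℕ × ℕ}
    (hr : k.run mat es p = some q) : (∀ g ∈ H, chr A ι φ q g = chr A ι φ p g) ∧ p.1 ∈ vs ∧ q.1 ∈ vs := by
  obtain ⟨u, l⟩ := p
  cases k with
  | l2 i v =>
    simp only [Lk.run] at hr
    split_ifs at hr with h
    simp only [Bool.and_eq_true, mem3_iff, Nat.beq_eq] at h
    obtain rfl := Option.some.inj hr
    obtain ⟨h1, h2⟩ := h
    obtain ⟨hij, hm⟩ := E.h2 _ _ h1
    obtain ⟨e1, u1, v1⟩ := R.ed _ _ _ h2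
    exact ⟨fun g hg => (E.cs.par2 hij hm e1 (R.fx u u1 g hg) (R.fx v v1 g hg)).symm, u1, v1⟩
  | l3 i w v =>
    simp only [Lk.run] at hr
    split_ifs at hr with h
    simp only [Bool.and_eq_true, mem3_iff, Nat.beq_eq] at h
    obtain rfl := Option.some.inj hr
    obtain ⟨h1, h2, h3⟩ := h
    obtain ⟨hij, hm⟩ := E.h3 _ _ h1
    obtain ⟨e1, u1, w1⟩ := R.ed _ _ _ h2
    obtain ⟨e2, -, v1⟩ := R.ed _ _ _ h3
    exact ⟨fun g hg => (E.cs.par3 hij hm e1 e2 (R.fx u u1 g hg) (R.fx w w1 g hg) (R.fx v v1 g hg)).symm, u1, v1⟩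

theorem chain_sound (E : Env G A m ι mat) (R : Real A ι H φ vs es) {l : List Lk} {p q : ℕ × ℕ}
    (hr : chain mat es l p = some q) : (∀ g ∈ H, chr A ι φ q g = chr A ι φ p g) ∧ (p.1 ∈ vs → q.1 ∈ vs) := by
  induction l generalizing p with
  | nil =>
    obtain rfl := Option.some.inj hr
    exact ⟨fun _ _ => rfl, fun h => h⟩
  | cons k ks ih =>
    unfold chain at hr
    split at hr
    · exact absurd hr (by simp)
    · rename_i r h1
      obtain ⟨h2, h3, h4⟩ := Lk.sound E R h1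
      obtain ⟨h5, h6⟩ := ih hr
      exact ⟨fun g hg => (h5 g hg).trans (h2 g hg), fun _ => h6 h4⟩

/-- a realised state with `|H| = n` -/
def Good (G : Type*) [Group G] {C I : Type*} [MulAction G C] (A : I → C → C → Prop) (ι : ℕ → I) (s : St) (n : ℕ) :
    Prop :=
  ∃ (H : Subgroup G) (φ : ℕ → C), Nat.card H = n ∧ Real A ι H φ s.vs s.es ∧ (∀ p ∈ s.ls, p.1 ∈ s.vs) ∧
    Ind H {p | p ∈ s.ls} (chr A ι φ)

theorem chr_chr (E : Env G A m ι mat) (hf : ∀ v ∈ vs, ∀ g ∈ H, g • φ v = φ v) {p : ℕ × ℕ} (hp : p.1 ∈ vs) :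
    Chr H (chr A ι φ p) :=
  fun a ha b hb => E.cs.lam_mul (hf _ hp a ha) (hf _ hp b hb)

theorem Stp.sound [Finite G] (E : Env G A m ι mat) {t : Stp} {s s' : St} (hr : t.run mat s = some s') {n : ℕ}
    (hG : Good G A ι s n) : ∃ n' < n, Good G A ι s' n' := by
  classical
  obtain ⟨H, φ, rfl, R, hlv, hI⟩ := hG
  unfold Stp.run at hr
  split_ifs at hr with h0
  simp only [Bool.and_eq_true, not_mem1, mem2_iff, isSome'_iff] at h0
  obtain ⟨hx, hxc, hc'⟩ := h0
  split at hr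
  · exact absurd hr (by simp)
  rename_i vs1 es1 hcons
  split_ifs at hr with h1
  simp only [Bool.and_eq_true, allLb_iff] at h1
  obtain ⟨hlabs, hndy, hnds⟩ := h1
  split at hr
  · exact absurd hr (by simp)
  rename_i r hres
  obtain rfl := (Option.some.inj hr).symm
  have hx' : t.x ∈ s.ls := hx
  have hCx : Chr H (chr A ι φ t.x) := chr_chr E R.fx (hlv _ hx')
  obtain ⟨hch, hcv⟩ := chain_sound E R hxc
  have hcvs : t.c ∈ s.vs := hcv (hlv _ hx')
  -- the new group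
  set H' := kerSub H (chr A ι φ t.x) hCx with hH'
  have hle : H' ≤ H := kerSub_le
  obtain ⟨c0, hc0⟩ := E.cs.cham.ex (ι t.m) (φ t.c)
  have hfix0 : ∀ g ∈ H', g • c0 = c0 := by
    intro g hg
    have h2 : lam A (ι t.m) (φ t.c) g = 0 := by
      have h3 := hch g hg.1
      have h4 : chr A ι φ t.x g = 0 := hg.2
      rw [h4] at h3
      exact h3
    exact lam_eq_zero.1 h2 _ hc0
  have R0 : Real A ι H' (Function.update φ t.c' c0) (t.c' :: s.vs) ((t.c, t.m, t.c') :: (t.c', t.m, t.c) :: s.es) := by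
    have R' : Real A ι H' φ s.vs s.es := ⟨R.ed, fun v hv g hg => R.fx v hv g (hle hg)⟩
    refine R'.add hc' hfix0 ?_
    intro p k q h
    simp only [List.mem_cons, Prod.mk.injEq] at h
    have e0 : Function.update φ t.c' c0 t.c = φ t.c :=
      Function.update_of_ne (fun h : t.c = t.c' => hc' (by rw [← h]; exact hcvs)) _ _
    rcases h with ⟨rfl, rfl, rfl⟩ | ⟨rfl, rfl, rfl⟩ | h
    · right
      rw [e0, Function.update_self]
      exact ⟨hc0, Or.inr hcvs, Or.inl rfl⟩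
    · right
      rw [e0, Function.update_self]
      exact ⟨E.cs.cham.symm hc0, Or.inl rfl, Or.inr hcvs⟩
    · exact Or.inl h
  obtain ⟨φ', hφ', R1, hvs1⟩ := runCons_sound E hcons R0
  have hφ : ∀ v ∈ s.vs, φ' v = φ v := by
    intro v hv
    rw [hφ' v (List.mem_cons_of_mem _ hv)]
    exact Function.update_of_ne (fun h : v = t.c' => hc' (by rw [← h]; exact hv)) _ _
  have hvs : ∀ v ∈ s.vs, v ∈ vs1 := fun v hv => hvs1 v (List.mem_cons_of_mem _ hv)
  have hchr : ∀ p : ℕ × ℕ, p.1 ∈ s.vs → chr (G := G) A ι φ' p = chr A ι φ p := by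
    intro p hp
    funext g
    unfold chr
    rw [hφ _ hp]
  -- the new labels
  have hlab : ∀ b ∈ t.labs, b.e ∈ s.vs ∧ (∀ g ∈ H, lam A (ι b.m) (φ b.e) g = chr A ι φ t.x g) ∧
      A (ι b.m) (φ b.e) (φ' b.ep) ∧ b.ep ∈ vs1 ∧ b.ep ∉ s.vs ∧ (ι b.m ≠ ι b.l ∧ m (ι b.m) (ι b.l) = 3) ∧
      (∀ g ∈ H, lam A (ι b.l) (φ b.e) g = chr A ι φ b.y g) ∧ b.y ∈ s.ls ∧ b.y ≠ t.x := by
    intro b hb
    have h2 := hlabs b hb
    simp only [Lb.ok, Bool.and_eq_true, isSome'_iff, mem3_iff, not_mem1, Nat.beq_eq, mem2_iff] at h2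
    obtain ⟨q1, q2, q3, q4, q5, q6, q7⟩ := h2
    obtain ⟨u1, u2⟩ := chain_sound E R q1
    have hbe : b.e ∈ s.vs := u2 hcvs
    obtain ⟨w1, w2⟩ := chain_sound E R q5
    obtain ⟨e1, -, e2⟩ := R1.ed _ _ _ q2
    rw [hφ _ hbe] at e1
    refine ⟨hbe, fun g hg => ?_, e1, e2, q3, E.h3 _ _ q4, fun g hg => w1 g hg, q6, ?_⟩
    · exact (u1 g hg).trans (hch g hg)
    · intro h3
      rw [h3] at q7
      simp at q7
  set T : Set (ℕ × ℕ) := {p | p ∈ s.ls} with hT
  set T' : Set (ℕ × ℕ) := {p | okSrc s t.x t.labs p = true} with hT'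
  set New : Set (ℕ × ℕ) := {p | p.1 ∉ s.vs} with hNew
  have hT'cases : ∀ p ∈ T', (p ∈ s.ls ∧ p ≠ t.x) ∨ ∃ b ∈ t.labs, (b.ep, b.l) = p := by
    intro p hp
    have hp : okSrc s t.x t.labs p = true := hp
    simp only [okSrc, Bool.or_eq_true, Bool.and_eq_true, mem2_iff, zs, List.mem_map] at hp
    rcases hp with ⟨h2, h3⟩ | ⟨b, hb, h2⟩
    · left
      refine ⟨h2, fun h4 => ?_⟩
      rw [h4] at h3
      simp at h3
    · right
      exact ⟨b, hb, h2⟩
  have hold' : ∀ p ∈ T', p ∉ New → p ∈ s.ls ∧ p ≠ t.x := by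
    intro p hp hn
    rcases hT'cases p hp with h2 | ⟨b, hb, rfl⟩
    · exact h2
    · exact absurd (hlab b hb).2.2.2.2.1 hn
  have hnew' : ∀ p ∈ T', p ∈ New → ∃ b ∈ t.labs, (b.ep, b.l) = p := by
    intro p hp hn
    rcases hT'cases p hp with h2 | h2
    · exact absurd (hlv _ h2.1) hn
    · exact h2
  set f : ℕ × ℕ → ℕ × ℕ := fun p => if h : p ∈ T' ∧ p ∈ New then (hnew' p h.1 h.2).choose.y else p with hf
  have hfn : ∀ p (h1 : p ∈ T') (h2 : p ∈ New), ∃ b ∈ t.labs, (b.ep, b.l) = p ∧ f p = b.y := by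
    intro p h1 h2
    have h3 : f p = (hnew' p h1 h2).choose.y := dif_pos ⟨h1, h2⟩
    exact ⟨_, (hnew' p h1 h2).choose_spec.1, (hnew' p h1 h2).choose_spec.2, h3⟩
  have hfo : ∀ p, p ∉ New → f p = p := fun p hp => dif_neg fun h => hp h.2
  have hmem : ∀ g, g ∈ H' ↔ g ∈ H ∧ chr A ι φ t.x g = 0 := fun g => mem_kerSub
  have hI1 : Ind H' T' (chr A ι φ') := by
    refine hI.cross (fun k hk => chr_chr E R.fx (hlv k hk)) hx' hmem f New ?_ ?_ ?_ ?_ ?_
    · intro k hk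
      by_cases hn : k ∈ New
      · obtain ⟨b, hb, -, h3⟩ := hfn k hk hn
        rw [h3]
        exact ⟨(hlab b hb).2.2.2.2.2.2.2.1, (hlab b hb).2.2.2.2.2.2.2.2⟩
      · rw [hfo k hn]
        exact hold' k hk hn
    · intro k hk hn g hg
      rw [hfo k hn, hchr k (by by_contra h; exact hn h)]
    · intro k hk hn u hu hxu g hg
      obtain ⟨b, hb, hbk, h3⟩ := hfn k hk hn
      obtain ⟨q1, q2, q3, q4, q5, q6, q7, q8, q9⟩ := hlab b hb
      rw [h3, ← q7 g (hle hg), ← hbk]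
      show lam A (ι b.l) (φ' b.ep) g + lam A (ι b.l) (φ' b.ep) (u * g * u⁻¹) = _
      have hug : u * g * u⁻¹ ∈ H' := by
        rw [hmem]
        refine ⟨H.mul_mem (H.mul_mem hu (hle hg)) (H.inv_mem hu), ?_⟩
        rw [hCx.conj hu (hle hg)]
        exact hg.2
      have hue : u⁻¹ • φ b.e = φ b.e := R.fx _ q1 _ (H.inv_mem hu)
      have hadj : A (ι b.m) (φ b.e) (u⁻¹ • φ' b.ep) := by
        have := E.cs.act u⁻¹ _ _ _ q3
        rwa [hue] at this
      have hne : φ' b.ep ≠ u⁻¹ • φ' b.ep := by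
        intro h4
        have h5 : lam A (ι b.m) (φ b.e) u⁻¹ = 1 := by
          rw [q2 _ (H.inv_mem hu), hCx.inv hu, hxu]
        exact E.cs.ne_of_lam_one hue h5 q3 h4.symm
      have hge : g • φ b.e = φ b.e := R.fx _ q1 g (hle hg)
      have hgp : g • φ' b.ep = φ' b.ep := R1.fx _ q4 g hg
      have hgu : g • (u⁻¹ • φ' b.ep) = u⁻¹ • φ' b.ep := by
        have h6 := R1.fx _ q4 _ hug
        have e : g * u⁻¹ = u⁻¹ * (u * g * u⁻¹) := by group
        rw [smul_smul, e, mul_smul, h6]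
      have hfano := E.cs.fano q6.1 q6.2 q3 hadj hne hge hgp hgu
      have h7 : lam A (ι b.l) (u⁻¹ • φ' b.ep) g = lam A (ι b.l) (φ' b.ep) (u * g * u⁻¹) := by
        rw [E.cs.lam_smul, inv_inv]
      rw [h7] at hfano
      have z : ∀ a b c : ZMod 2, a + b + c = 0 → b + c = a := by decide
      exact z _ _ _ hfano
    · intro k hk l hl hnk hnl h2
      rw [hfo k hnk, hfo l hnl] at h2
      exact h2
    · intro k hk l hl hnk hnl h2
      obtain ⟨b, hb, hbk, h3⟩ := hfn k hk hnk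
      obtain ⟨b', hb', hbl, h4⟩ := hfn l hl hnl
      have h5 : b.y = b'.y := by rw [← h3, ← h4, h2]
      have h6 := List.inj_on_of_nodup_map (nd_nodup hndy) hb hb' h5
      rw [← hbk, ← hbl, h6]
  have hR1 : ∀ q ∈ r, ∃ b ∈ t.next, b.src ∈ T' ∧ chain mat es1 b.ch b.src = some q ∧ q.1 ∈ t.keep := by
    intro q hq
    obtain ⟨b, hb, h2, h3, h4⟩ := results_mem hres hq
    exact ⟨b, hb, h2, h3, h4⟩
  have hT'v : ∀ p ∈ T', p.1 ∈ vs1 := by
    intro p hp
    rcases hT'cases p hp with h2 | ⟨b, hb, rfl⟩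
    · exact hvs _ (hlv _ h2.1)
    · exact (hlab b hb).2.2.2.1
  set F : ℕ × ℕ → ℕ × ℕ := fun q => if h : q ∈ r then (hR1 q h).choose.src else q with hF
  have hFs : ∀ q (h : q ∈ r), ∃ b ∈ t.next, b.src ∈ T' ∧ chain mat es1 b.ch b.src = some q ∧ F q = b.src := by
    intro q h
    have h3 : F q = (hR1 q h).choose.src := dif_pos h
    obtain ⟨u1, u2, u3, -⟩ := (hR1 q h).choose_spec
    exact ⟨_, u1, u2, u3, h3⟩
  have hI2 : Ind H' {p | p ∈ r} (chr A ι φ') := by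
    refine hI1.map F ?_ ?_ ?_
    · intro q hq
      obtain ⟨b, hb, h2, -, h3⟩ := hFs q hq
      rw [h3]
      exact h2
    · intro q hq g hg
      obtain ⟨b, hb, h2, h3, h4⟩ := hFs q hq
      rw [h4]
      exact (chain_sound E R1 h3).1 g hg
    · intro q hq q' hq' h2
      obtain ⟨b, hb, -, h3, h4⟩ := hFs q hq
      obtain ⟨b', hb', -, h5, h6⟩ := hFs q' hq'
      have h7 : b.src = b'.src := by rw [← h4, ← h6, h2]
      have h8 := List.inj_on_of_nodup_map (nd_nodup hnds) hb hb' h7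
      subst h8
      exact Option.some.inj (h3.symm.trans h5)
  obtain ⟨u, hu, hxu⟩ := hI.ne hx'
  refine ⟨Nat.card H', card_lt hle hu ?_, H', φ', rfl, ⟨?_, ?_⟩, ?_, hI2⟩
  · intro h2
    rw [h2.2] at hxu
    exact absurd hxu (by decide)
  · intro a i b h
    obtain ⟨h2, h3, h4⟩ := mem_filt3 h
    obtain ⟨h5, h6, h7⟩ := R1.ed _ _ _ h2
    exact ⟨h5, mem_filt.2 ⟨h6, h3⟩, mem_filt.2 ⟨h7, h4⟩⟩
  · intro v hv
    exact R1.fx v (mem_filt.1 hv).1
  · intro q hq
    obtain ⟨b, hb, h2, h3, h4⟩ := hR1 q hq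
    exact mem_filt.2 ⟨(chain_sound E R1 h3).2 (hT'v _ h2), h4⟩

theorem runs_sound [Finite G] (E : Env G A m ι mat) {l : List Stp} {s s' : St} (hr : runs mat l s = some s') {n : ℕ}
    (hG : Good G A ι s n) : ∃ n', n' + l.length ≤ n ∧ Good G A ι s' n' := by
  induction l generalizing s n with
  | nil =>
    obtain rfl := Option.some.inj hr
    exact ⟨n, by simp, hG⟩
  | cons t ts ih =>
    unfold runs at hr
    split at hr
    · exact absurd hr (by simp)
    · rename_i s1 h1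
      obtain ⟨n1, h2, h3⟩ := Stp.sound E h1 hG
      obtain ⟨n2, h4, h5⟩ := ih hr h3
      exact ⟨n2, by simp only [List.length_cons]; omega, h5⟩

theorem sub_sound {r : List (ℕ × ℕ)} {s0 s : St} (h : sub r s0 s = true) {n : ℕ} (hG : Good G A ι s n) :
    Good G A ι s0 n := by
  classical
  obtain ⟨H, φ, hn, R, hlv, hI⟩ := hG
  simp only [sub, Bool.and_eq_true, List.all_eq_true, mem1_iff, mem2_iff, mem3_iff] at h
  obtain ⟨h1, h2, h3, h4, h5, h7⟩ := h
  refine ⟨H, fun v => φ (look r v), hn, ⟨?_, ?_⟩, h5, ?_⟩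
  · intro a i b hab
    exact ⟨(R.ed _ _ _ (h2 _ hab)).1, (h7 _ hab).1, (h7 _ hab).2⟩
  · intro v hv g hg
    exact R.fx _ (h1 v hv) g hg
  · refine hI.map (fun p => (look r p.1, p.2)) (fun p hp => h3 p hp) (fun p hp g hg => rfl) ?_
    intro p hp q hq hpq
    exact List.inj_on_of_nodup_map (nd_nodup h4) hp hq hpq

end Cfsg.Agent.Omega.EH3.NonSph.Vm
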