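import Cfsg.Agent.Omega.EH3.NonSph.Ind

/-!
# Certificates for infinite descent in simply laced chamber systems (bb #12580)

A state is a finite list of chambers (named by natural numbers) fixed by a subgroup `H`, a list of adjacencies and a list of
labels `(v, l)`; a label stands for the character `lam A (ι l) (φ v)`, and the labels of a state are linearly independent
on `H`.  `Stp.run` crosses a wall.
-/

set_option autoImplicit false

namespace Cfsg.Agent.Omega.EH3.NonSph.Vm

open Cfsg.Agent.ParSys Cfsg.Agent.ParSys.Free Cfsg.Agent.ParSys.Wt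

/-! ### The machine -/

def mem1 (a : ℕ) : List ℕ → Bool
  | [] => false
  | b :: t => Nat.beq a b || mem1 a t

def mem2 (a l : ℕ) : List (ℕ × ℕ) → Bool
  | [] => false
  | (b, k) :: t => (Nat.beq a b && Nat.beq l k) || mem2 a l t

def mem3 (a i b : ℕ) : List (ℕ × ℕ × ℕ) → Bool
  | [] => false
  | (x, y, z) :: t => (Nat.beq a x && (Nat.beq i y && Nat.beq b z)) || mem3 a i b t

def nd : List (ℕ × ℕ) → Bool
  | [] => true
  | p :: t => !mem2 p.1 p.2 t && nd t

/-- constructions -/
inductive Con
  | sq (a i b j c x : ℕ)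
  | hx (a i b j c e x y : ℕ)
  | cu (i j k a b c d a' b' c' d' : ℕ)

def Con.run (mat : ℕ → ℕ → ℕ) (vs : List ℕ) (es : List (ℕ × ℕ × ℕ)) : Con → Option (List ℕ × List (ℕ × ℕ × ℕ))
  | .sq a i b j c x =>
    if Nat.beq (mat i j) 2 && (mem3 a i b es && (mem3 b j c es && !mem1 x vs)) then
      some (x :: vs, (a, j, x) :: (x, j, a) :: (x, i, c) :: (c, i, x) :: es) else none
  | .hx a i b j c e x y =>
    if Nat.beq (mat i j) 3 && (mem3 a i b es && (mem3 b j c es && (mem3 c i e es && (!mem1 x vs && !mem1 y (x :: vs))))) then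
      some (y :: x :: vs, (a, j, x) :: (x, j, a) :: (x, i, y) :: (y, i, x) :: (y, j, e) :: (e, j, y) :: es) else none
  | .cu i j k a b c d a' b' c' d' =>
    if (Nat.beq (mat i j) 2 && (Nat.beq (mat i k) 2 && Nat.beq (mat j k) 2)) &&
      ((mem3 a i b es && (mem3 b j c es && (mem3 a j d es && mem3 d i c es))) &&
      ((mem3 a k a' es && (mem3 b k b' es && (mem3 c k c' es && mem3 d k d' es))) &&
      (mem3 a' i b' es && (mem3 b' j c' es && mem3 a' j d' es)))) then
      some (vs, (d', i, c') :: (c', i, d') :: es) else none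

def runCons (mat : ℕ → ℕ → ℕ) : List Con → List ℕ → List (ℕ × ℕ × ℕ) → Option (List ℕ × List (ℕ × ℕ × ℕ))
  | [], vs, es => some (vs, es)
  | c :: cs, vs, es => match c.run mat vs es with
    | none => none
    | some (vs', es') => runCons mat cs vs' es'

/-- equalities of characters -/
inductive Lk
  | l2 (i v : ℕ)
  | l3 (i w v : ℕ)

def Lk.run (mat : ℕ → ℕ → ℕ) (es : List (ℕ × ℕ × ℕ)) : Lk → ℕ × ℕ → Option (ℕ × ℕ)
  | .l2 i v, (u, l) => if Nat.beq (mat i l) 2 && mem3 u i v es then some (v, l) else none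
  | .l3 i w v, (u, l) => if Nat.beq (mat i l) 3 && (mem3 u i w es && mem3 w l v es) then some (v, i) else none

def chain (mat : ℕ → ℕ → ℕ) (es : List (ℕ × ℕ × ℕ)) : List Lk → ℕ × ℕ → Option (ℕ × ℕ)
  | [], p => some p
  | k :: ks, p => match k.run mat es p with
    | none => none
    | some q => chain mat es ks q

structure St where
  vs : List ℕ
  es : List (ℕ × ℕ × ℕ)
  ls : List (ℕ × ℕ)

/-- a new label `(ep, l)`, with the old label `y` -/
structure Lb where
  e : ℕ
  m : ℕ
  ep : ℕ
  l : ℕ
  y : ℕ × ℕ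
  c1 : List Lk
  c2 : List Lk

structure Nx where
  src : ℕ × ℕ
  ch : List Lk

structure Stp where
  x : ℕ × ℕ
  xc : List Lk
  c : ℕ
  m : ℕ
  c' : ℕ
  cons : List Con
  labs : List Lb
  keep : List ℕ
  next : List Nx

def isSome' (o : Option (ℕ × ℕ)) (a b : ℕ) : Bool :=
  match o with
  | none => false
  | some (x, y) => Nat.beq x a && Nat.beq y b

def Lb.ok (mat : ℕ → ℕ → ℕ) (s : St) (es1 : List (ℕ × ℕ × ℕ)) (x : ℕ × ℕ) (c m : ℕ) (b : Lb) : Bool :=
  isSome' (chain mat s.es b.c1 (c, m)) b.e b.m && (mem3 b.e b.m b.ep es1 && (!mem1 b.ep s.vs &&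
    (Nat.beq (mat b.m b.l) 3 && (isSome' (chain mat s.es b.c2 b.y) b.e b.l && (mem2 b.y.1 b.y.2 s.ls &&
      !(Nat.beq b.y.1 x.1 && Nat.beq b.y.2 x.2))))))

def allLb (p : Lb → Bool) : List Lb → Bool
  | [] => true
  | b :: t => p b && allLb p t

def filt (keep : List ℕ) : List ℕ → List ℕ
  | [] => []
  | v :: t => if mem1 v keep then v :: filt keep t else filt keep t

def filt3 (keep : List ℕ) : List (ℕ × ℕ × ℕ) → List (ℕ × ℕ × ℕ)
  | [] => []
  | (a, i, b) :: t => if mem1 a keep && mem1 b keep then (a, i, b) :: filt3 keep t else filt3 keep t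

/-- the new labels -/
def results (mat : ℕ → ℕ → ℕ) (es : List (ℕ × ℕ × ℕ)) (keep : List ℕ) (ok : ℕ × ℕ → Bool) : List Nx → Option (List (ℕ × ℕ))
  | [] => some []
  | b :: t => match ok b.src, chain mat es b.ch b.src, results mat es keep ok t with
    | true, some q, some r => if mem1 q.1 keep then some (q :: r) else none
    | _, _, _ => none

def zs (l : List Lb) : List (ℕ × ℕ) := l.map fun b => (b.ep, b.l)

def okSrc (s : St) (x : ℕ × ℕ) (labs : List Lb) (p : ℕ × ℕ) : Bool :=
  (mem2 p.1 p.2 s.ls && !(Nat.beq p.1 x.1 && Nat.beq p.2 x.2)) || mem2 p.1 p.2 (zs labs)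

def Stp.run (mat : ℕ → ℕ → ℕ) (t : Stp) (s : St) : Option St :=
  if mem2 t.x.1 t.x.2 s.ls && (isSome' (chain mat s.es t.xc t.x) t.c t.m && (!mem1 t.c' s.vs)) then
    match runCons mat t.cons (t.c' :: s.vs) ((t.c, t.m, t.c') :: (t.c', t.m, t.c) :: s.es) with
    | none => none
    | some (vs1, es1) =>
      if allLb (Lb.ok mat s es1 t.x t.c t.m) t.labs && (nd (t.labs.map Lb.y) && nd (t.next.map Nx.src)) then
        match results mat es1 t.keep (okSrc s t.x t.labs) t.next with
        | none => none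
        | some r => some ⟨filt t.keep vs1, filt3 t.keep es1, r⟩
      else none
  else none

def runs (mat : ℕ → ℕ → ℕ) : List Stp → St → Option St
  | [], s => some s
  | t :: ts, s => match t.run mat s with
    | none => none
    | some s' => runs mat ts s'

/-- renaming, given by an association list -/
def look (r : List (ℕ × ℕ)) (v : ℕ) : ℕ :=
  match r with
  | [] => v
  | (a, b) :: t => if Nat.beq a v then b else look t v

/-- `s0`, renamed by `r`, is part of `s` -/
def sub (r : List (ℕ × ℕ)) (s0 s : St) : Bool :=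
  (s0.vs.all fun v => mem1 (look r v) s.vs) && ((s0.es.all fun e => mem3 (look r e.1) e.2.1 (look r e.2.2) s.es) &&
    ((s0.ls.all fun p => mem2 (look r p.1) p.2 s.ls) && (nd (s0.ls.map fun p => (look r p.1, p.2)) &&
      ((s0.ls.all fun p => mem1 p.1 s0.vs) && s0.es.all fun e => mem1 e.1 s0.vs && mem1 e.2.2 s0.vs))))

def init (n : ℕ) : St := ⟨[0], [], (List.range n).map fun l => (0, l)⟩

/-- the certificate: a prefix, and a period with a renaming -/
def check (mat : ℕ → ℕ → ℕ) (n : ℕ) (pre per : List Stp) (r : List (ℕ × ℕ)) : Bool :=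
  match runs mat pre (init n) with
  | none => false
  | some s0 => match runs mat per s0 with
    | none => false
    | some s1 => sub r s0 s1 && !per.isEmpty

/-! ### Elementary facts -/

theorem mem1_iff {a : ℕ} {l : List ℕ} : mem1 a l = true ↔ a ∈ l := by
  induction l with
  | nil => simp [mem1]
  | cons b t ih => simp [mem1, ih]

theorem mem2_iff {a k : ℕ} {l : List (ℕ × ℕ)} : mem2 a k l = true ↔ (a, k) ∈ l := by
  induction l with
  | nil => simp [mem2]
  | cons b t ih => obtain ⟨x, y⟩ := b; simp [mem2, ih]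

theorem mem3_iff {a i b : ℕ} {l : List (ℕ × ℕ × ℕ)} : mem3 a i b l = true ↔ (a, i, b) ∈ l := by
  induction l with
  | nil => simp [mem3]
  | cons e t ih => obtain ⟨x, y, z⟩ := e; simp [mem3, ih]

theorem not_mem1 {a : ℕ} {l : List ℕ} : (!mem1 a l) = true ↔ a ∉ l := by
  rw [← mem1_iff]; simp

theorem nd_nodup {l : List (ℕ × ℕ)} (h : nd l = true) : l.Nodup := by
  induction l with
  | nil => exact List.nodup_nil
  | cons p t ih =>
    simp only [nd, Bool.and_eq_true, Bool.not_eq_true'] at h
    refine List.nodup_cons.2 ⟨fun h1 => ?_, ih h.2⟩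
    rw [mem2_iff.2 (show (p.1, p.2) ∈ t from h1)] at h
    exact absurd h.1 (by decide)

theorem isSome'_iff {o : Option (ℕ × ℕ)} {a b : ℕ} : isSome' o a b = true ↔ o = some (a, b) := by
  cases o with
  | none => simp [isSome']
  | some p => obtain ⟨x, y⟩ := p; simp [isSome']

theorem allLb_iff {p : Lb → Bool} {l : List Lb} : allLb p l = true ↔ ∀ b ∈ l, p b = true := by
  induction l with
  | nil => simp [allLb]
  | cons b t ih => simp [allLb, ih]

theorem mem_filt {keep l : List ℕ} {v : ℕ} : v ∈ filt keep l ↔ v ∈ l ∧ v ∈ keep := by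
  induction l with
  | nil => simp [filt]
  | cons a t ih =>
    unfold filt
    by_cases h : mem1 a keep = true
    · rw [if_pos h]
      rw [mem1_iff] at h
      simp only [List.mem_cons, ih]
      constructor
      · rintro (rfl | h1)
        · exact ⟨Or.inl rfl, h⟩
        · exact ⟨Or.inr h1.1, h1.2⟩
      · rintro ⟨rfl | h1, h2⟩
        · exact Or.inl rfl
        · exact Or.inr ⟨h1, h2⟩
    · rw [if_neg h]
      rw [mem1_iff] at h
      simp only [List.mem_cons, ih]
      constructor
      · exact fun h1 => ⟨Or.inr h1.1, h1.2⟩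
      · rintro ⟨rfl | h1, h2⟩
        · exact absurd h2 h
        · exact ⟨h1, h2⟩

theorem mem_filt3 {keep : List ℕ} {l : List (ℕ × ℕ × ℕ)} {a i b : ℕ} (h : (a, i, b) ∈ filt3 keep l) :
    (a, i, b) ∈ l ∧ a ∈ keep ∧ b ∈ keep := by
  induction l with
  | nil => simp [filt3] at h
  | cons e t ih =>
    obtain ⟨x, y, z⟩ := e
    unfold filt3 at h
    by_cases h1 : (mem1 x keep && mem1 z keep) = true
    · rw [if_pos h1] at h
      rw [Bool.and_eq_true, mem1_iff, mem1_iff] at h1
      rcases List.mem_cons.1 h with h2 | h2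
      · obtain ⟨rfl, h3⟩ := Prod.mk.inj h2
        obtain ⟨rfl, rfl⟩ := Prod.mk.inj h3
        exact ⟨List.mem_cons_self, h1.1, h1.2⟩
      · exact ⟨List.mem_cons_of_mem _ (ih h2).1, (ih h2).2⟩
    · rw [if_neg h1] at h
      exact ⟨List.mem_cons_of_mem _ (ih h).1, (ih h).2⟩

theorem results_mem {mat : ℕ → ℕ → ℕ} {es : List (ℕ × ℕ × ℕ)} {keep : List ℕ} {ok : ℕ × ℕ → Bool} {l : List Nx}
    {r : List (ℕ × ℕ)} (h : results mat es keep ok l = some r) {q : ℕ × ℕ} (hq : q ∈ r) :
    ∃ b ∈ l, ok b.src = true ∧ chain mat es b.ch b.src = some q ∧ q.1 ∈ keep := by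
  induction l generalizing r with
  | nil =>
    simp only [results, Option.some.injEq] at h
    subst h
    simp at hq
  | cons b t ih =>
    unfold results at h
    split at h
    · rename_i q' r' h1 h2 h3
      by_cases h4 : mem1 q'.1 keep = true
      · rw [if_pos h4, Option.some.injEq] at h
        subst h
        rcases List.mem_cons.1 hq with rfl | hq
        · exact ⟨b, List.mem_cons_self, h1, h2, mem1_iff.1 h4⟩
        · obtain ⟨b', hb', h5⟩ := ih h3 hq
          exact ⟨b', List.mem_cons_of_mem _ hb', h5⟩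
      · rw [if_neg h4] at h
        exact absurd h (by simp)
    · exact absurd h (by simp)

end Cfsg.Agent.Omega.EH3.NonSph.Vm
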