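import Cfsg.Agent.Omega.EH3.NonSph.Cube

/-!
# Walks and turns in a simply laced chamber system (bb #12580)

State `WS J k Λ n`: chambers `c' -k- c`, fixed by a subgroup of order `n` on which the characters
`{x_i^c : i ∈ J, i ≠ k} ∪ {x_l^{c'} : l ∈ Λ}` are independent.

* `walk` : `mm ∈ Λ` adjacent to `k`; new state at `mm` with `Λ' = N(mm) \ {k}`;
* `turn` : `e, e' ∈ Λ` not adjacent; new state at `k` with `Λ' = N(k) \ {e, e'}`.
-/

set_option autoImplicit false

namespace Cfsg.Agent.Omega.EH3.NonSph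

open Cfsg.Agent.ParSys Cfsg.Agent.ParSys.Free Cfsg.Agent.ParSys.Wt

variable {C I G : Type*} [Group G] [MulAction G C] {A : I → C → C → Prop} {m : I → I → ℕ}

/-- the rule for the new labels -/
theorem new_rule (h : CS G A m) {k l : I} (hkl : k ≠ l) (hm : m k l = 3) {c d : C} (hcd : A k c d)
    {H : Subgroup G} (hH : ∀ g ∈ H, g • c = c) {H' : Subgroup G} (hH' : ∀ g, g ∈ H' ↔ g ∈ H ∧ lam A k c g = 0)
    {t : G} (ht : t ∈ H) (ht1 : lam A k c t = 1) {g : G} (hg : g ∈ H') :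
    lam A l d g + lam A l d (t * g * t⁻¹) = lam A l c g := by
  have hx : Chr H (fun g => lam A k c g) := chr_lam h hH
  have hgH := ((hH' g).1 hg).1
  have hug : t * g * t⁻¹ ∈ H' := by
    rw [hH']
    refine ⟨H.mul_mem (H.mul_mem ht hgH) (H.inv_mem ht), ?_⟩
    have := hx.conj ht hgH
    exact this.trans ((hH' g).1 hg).2
  have fix : ∀ g ∈ H', g • d = d := fun g hg => lam_eq_zero.1 ((hH' g).1 hg).2 d hcd
  have hue : t⁻¹ • c = c := hH _ (H.inv_mem ht)
  have hadj : A k c (t⁻¹ • d) := by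
    have := h.act t⁻¹ _ _ _ hcd
    rwa [hue] at this
  have hne : d ≠ t⁻¹ • d := by
    intro h4
    have h5 : lam A k c t⁻¹ = 1 := by
      rw [h.lam_inv (hH t ht), ht1]
    exact h.ne_of_lam_one hue h5 hcd h4.symm
  have hgu : g • (t⁻¹ • d) = t⁻¹ • d := by
    have h6 := fix _ hug
    have e : g * t⁻¹ = t⁻¹ * (t * g * t⁻¹) := by group
    rw [smul_smul, e, mul_smul, h6]
  have hfano := h.fano hkl hm hcd hadj hne (hH g hgH) (fix g hg) hgu
  have h7 : lam A l (t⁻¹ • d) g = lam A l d (t * g * t⁻¹) := by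
    rw [h.lam_smul, inv_inv]
  rw [h7] at hfano
  have z : ∀ a b c : ZMod 2, a + b + c = 0 → b + c = a := by decide
  exact z _ _ _ hfano

/-- the state -/
def WS (G : Type*) [Group G] {C I : Type*} [MulAction G C] (A : I → C → C → Prop) (J : Set I) (k : I) (Λ : Set I)
    (n : ℕ) : Prop :=
  ∃ (H : Subgroup G) (c' c : C), Nat.card H = n ∧ A k c' c ∧ (∀ g ∈ H, g • c' = c') ∧ (∀ g ∈ H, g • c = c) ∧
    Ind H {s : I ⊕ I | s.elim (fun l => l ∈ Λ) (fun i => i ∈ J ∧ i ≠ k)}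
      (fun s g => s.elim (fun l => lam A l c' g) (fun i => lam A i c g))

theorem WS.mono {J : Set I} {k : I} {Λ Λ' : Set I} {n : ℕ} (h : WS G A J k Λ n) (hΛ : Λ' ⊆ Λ) : WS G A J k Λ' n := by
  obtain ⟨H, c', c, h1, h2, h3, h4, h5⟩ := h
  refine ⟨H, c', c, h1, h2, h3, h4, h5.mono ?_⟩
  rintro (l | i) hl
  · exact hΛ hl
  · exact hl

variable {J : Set I}

/-- crossing the wall `k` from a full independent set -/
theorem start [Finite G] (h : CS G A m) (hJ : ∀ i ∈ J, ∀ j ∈ J, i ≠ j → m i j = 2 ∨ m i j = 3) {c : C}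
    (hI : Ind (MulAction.stabilizer G c) J (fun l g => lam A l c g)) {k : I} (hk : k ∈ J) {Λ : Set I}
    (hΛ : ∀ l ∈ Λ, l ∈ J ∧ l ≠ k ∧ m k l = 3) : ∃ n, WS G A J k Λ n := by
  classical
  have hf : ∀ g ∈ MulAction.stabilizer G c, g • c = c := fun g hg => hg
  have hchr : ∀ l, Chr (MulAction.stabilizer G c) (fun g => lam A l c g) := fun l => chr_lam h hf
  obtain ⟨d, hd⟩ := h.cham.ex k c
  have fd : ∀ g ∈ kerSub _ _ (hchr k), g • d = d := fun g hg => lam_eq_zero.1 hg.2 d hd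
  refine ⟨_, kerSub _ _ (hchr k), c, d, rfl, hd, fun g hg => hf g hg.1, fd, ?_⟩
  refine hI.cross (fun l _ => hchr l) hk (fun g => mem_kerSub) (fun s => s.elim (fun l => l) (fun i => i))
    {s | s.elim (fun _ => False) (fun i => m k i = 3)} ?_ ?_ ?_ ?_ ?_
  · rintro (l | i) hl
    · exact ⟨(hΛ l hl).1, (hΛ l hl).2.1⟩
    · exact hl
  · rintro (l | i) hl hn g hg
    · rfl
    · have hl : i ∈ J ∧ i ≠ k := hl
      have hn : ¬ m k i = 3 := hn
      exact (h.par2 hl.2.symm ((hJ k hk i hl.1 hl.2.symm).resolve_right hn) hd (hf g hg.1) (fd g hg)).symm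
  · rintro (l | i) hl hn t ht hxt g hg
    · exact absurd hn (by simp)
    · have hl : i ∈ J ∧ i ≠ k := hl
      have hn : m k i = 3 := hn
      exact new_rule h hl.2.symm hn hd hf (fun g => mem_kerSub) ht hxt hg
  · rintro (l | i) hl (l' | i') hl' hn hn' he
    · exact congrArg _ he
    · have he : l = i' := he
      subst he
      exact absurd (hΛ _ hl).2.2 hn'
    · have he : i = l' := he
      subst he
      exact absurd (hΛ _ hl').2.2 hn
    · exact congrArg _ he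
  · rintro (l | i) hl (l' | i') hl' hn hn' he
    · exact absurd hn (by simp)
    · exact absurd hn (by simp)
    · exact absurd hn' (by simp)
    · exact congrArg _ he

theorem chr_ws (h : CS G A m) {H : Subgroup G} {c' c : C} (h' : ∀ g ∈ H, g • c' = c') (h1 : ∀ g ∈ H, g • c = c)
    (s : I ⊕ I) : Chr H (fun g => s.elim (fun l => lam A l c' g) (fun i => lam A i c g)) := by
  rcases s with l | i
  · exact chr_lam h h'
  · exact chr_lam h h1

theorem walk [Finite G] (h : CS G A m) (hJ : ∀ i ∈ J, ∀ j ∈ J, i ≠ j → m i j = 2 ∨ m i j = 3) {k mm : I}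
    {Λ Λ' : Set I} {n : ℕ} (hk : k ∈ J) (hmm : mm ∈ J) (hne : k ≠ mm) (hm : m k mm = 3) (hΛ : mm ∈ Λ)
    (hΛ' : ∀ l ∈ Λ', l ∈ J ∧ l ≠ k ∧ l ≠ mm ∧ m mm l = 3) (W : WS G A J k Λ n) :
    ∃ n' < n, WS G A J mm Λ' n' := by
  classical
  obtain ⟨H, c', c, rfl, hA, f', f, hI⟩ := W
  have hx : (Sum.inr mm : I ⊕ I) ∈ {s : I ⊕ I | s.elim (fun l => l ∈ Λ) (fun i => i ∈ J ∧ i ≠ k)} := ⟨hmm, hne.symm⟩
  have hC := chr_lam (l := mm) h f
  obtain ⟨d, hd⟩ := h.cham.ex mm c
  have fd : ∀ g ∈ kerSub H _ hC, g • d = d := fun g hg => lam_eq_zero.1 hg.2 d hd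
  obtain ⟨t, ht, hxt⟩ := hI.ne hx
  have hcc : c' ≠ c := h.cham.ne hA
  refine ⟨Nat.card (kerSub H _ hC), card_lt kerSub_le ht fun h2 => ?_, kerSub H _ hC, c, d, rfl, hd,
    fun g hg => f g hg.1, fd, ?_⟩
  · have h3 : lam A mm c t = 0 := h2.2
    have h4 : lam A mm c t = 1 := hxt
    rw [h3] at h4
    exact absurd h4 (by decide)
  have hmk : m mm k = 3 := by rw [h.symm]; exact hm
  refine hI.cross (fun s _ => chr_ws h f' f s) hx (fun g => mem_kerSub)
    (fun s => s.elim (fun l => Sum.inr l) (fun i => if i = k then Sum.inl mm else Sum.inr i))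
    {s | s.elim (fun _ => False) (fun i => i ≠ k ∧ m mm i = 3)} ?_ ?_ ?_ ?_ ?_
  · rintro (l | i) hl
    · exact ⟨⟨(hΛ' l hl).1, (hΛ' l hl).2.1⟩, fun he => (hΛ' l hl).2.2.1 (Sum.inr.inj he)⟩
    · have hl : i ∈ J ∧ i ≠ mm := hl
      by_cases hik : i = k
      · simp only [Sum.elim_inr, if_pos hik]
        exact ⟨hΛ, by simp⟩
      · simp only [Sum.elim_inr, if_neg hik]
        exact ⟨⟨hl.1, hik⟩, fun he => hl.2 (Sum.inr.inj he)⟩
  · rintro (l | i) hl hn g hg
    · rfl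
    · have hl : i ∈ J ∧ i ≠ mm := hl
      by_cases hik : i = k
      · simp only [Sum.elim_inr, if_pos hik, Sum.elim_inl]
        subst hik
        exact (h.par3 hne hm hA hd (f' g hg.1) (f g hg.1) (fd g hg)).symm
      · simp only [Sum.elim_inr, if_neg hik]
        have hn : ¬ (i ≠ k ∧ m mm i = 3) := hn
        have h2 : m mm i = 2 := (hJ mm hmm i hl.1 hl.2.symm).resolve_right fun h3 => hn ⟨hik, h3⟩
        exact (h.par2 hl.2.symm h2 hd (f g hg.1) (fd g hg)).symm
  · rintro (l | i) hl hn t ht hxt g hg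
    · exact absurd hn (by simp)
    · have hl : i ∈ J ∧ i ≠ mm := hl
      have hn : i ≠ k ∧ m mm i = 3 := hn
      simp only [Sum.elim_inr, if_neg hn.1]
      exact new_rule h hl.2.symm hn.2 hd f (fun g => mem_kerSub) ht hxt hg
  · rintro (l | i) hl (l' | i') hl' hn hn' he
    · exact congrArg _ (Sum.inr.inj he)
    · have hl' : i' ∈ J ∧ i' ≠ mm := hl'
      by_cases hik : i' = k
      · simp [hik] at he
      · simp only [Sum.elim_inr, if_neg hik, Sum.elim_inl, Sum.inr.injEq] at he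
        subst he
        exact absurd ⟨hik, (hΛ' _ hl).2.2.2⟩ hn'
    · have hl : i ∈ J ∧ i ≠ mm := hl
      by_cases hik : i = k
      · simp [hik] at he
      · simp only [Sum.elim_inr, if_neg hik, Sum.elim_inl, Sum.inr.injEq] at he
        subst he
        exact absurd ⟨hik, (hΛ' _ hl').2.2.2⟩ hn
    · by_cases hik : i = k <;> by_cases hik' : i' = k
      · rw [hik, hik']
      · simp [hik, hik'] at he
      · simp [hik, hik'] at he
      · simp only [Sum.elim_inr, if_neg hik, if_neg hik', Sum.inr.injEq] at he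
        rw [he]
  · rintro (l | i) hl (l' | i') hl' hn hn' he
    · exact absurd hn (by simp)
    · exact absurd hn (by simp)
    · exact absurd hn' (by simp)
    · have hn : i ≠ k ∧ m mm i = 3 := hn
      have hn' : i' ≠ k ∧ m mm i' = 3 := hn'
      simp only [Sum.elim_inr, if_neg hn.1, if_neg hn'.1, Sum.inr.injEq] at he
      rw [he]

/-- first third of a turn -/
theorem turn1 [Finite G] (h : CS G A m) (hJ : ∀ i ∈ J, ∀ j ∈ J, i ≠ j → m i j = 2 ∨ m i j = 3) {k e e' : I}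
    (he : e ∈ J) (hek : k ≠ e) (hm : m k e = 3) (hee : e ≠ e') {H : Subgroup G} {c' c : C}
    (hA : A k c' c) (f' : ∀ g ∈ H, g • c' = c') (f : ∀ g ∈ H, g • c = c)
    (hI : Ind H {s : I ⊕ I | s.elim (fun l => l = e ∨ l = e') (fun i => i ∈ J ∧ i ≠ k)}
      (fun s g => s.elim (fun l => lam A l c' g) (fun i => lam A i c g))) :
    ∃ (H1 : Subgroup G) (c1 : C), H1 ≤ H ∧ Nat.card H1 < Nat.card H ∧ A e c c1 ∧ (∀ g ∈ H1, g • c1 = c1) ∧
      Ind H1 {s : I ⊕ I | s.elim (fun l => l = e') (fun i => i ∈ J ∧ i ≠ e)}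
        (fun s g => s.elim (fun l => lam A l c' g) (fun i => lam A i c1 g)) := by
  classical
  have hx : (Sum.inr e : I ⊕ I) ∈ {s : I ⊕ I | s.elim (fun l => l = e ∨ l = e') (fun i => i ∈ J ∧ i ≠ k)} :=
    ⟨he, hek.symm⟩
  have hC := chr_lam (l := e) h f
  obtain ⟨d, hd⟩ := h.cham.ex e c
  have fd : ∀ g ∈ kerSub H _ hC, g • d = d := fun g hg => lam_eq_zero.1 hg.2 d hd
  obtain ⟨t, ht, hxt⟩ := hI.ne hx
  refine ⟨kerSub H _ hC, d, kerSub_le, card_lt kerSub_le ht fun h2 => ?_, hd, fd, ?_⟩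
  · have h3 : lam A e c t = 0 := h2.2
    have h4 : lam A e c t = 1 := hxt
    rw [h3] at h4
    exact absurd h4 (by decide)
  have hmk : m e k = 3 := by rw [h.symm]; exact hm
  refine hI.cross (fun s _ => chr_ws h f' f s) hx (fun g => mem_kerSub)
    (fun s => s.elim (fun l => Sum.inl l) (fun i => if i = k then Sum.inl e else Sum.inr i))
    {s | s.elim (fun _ => False) (fun i => i ≠ k ∧ m e i = 3)} ?_ ?_ ?_ ?_ ?_
  · rintro (l | i) hl
    · exact ⟨Or.inr hl, by simp⟩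
    · have hl : i ∈ J ∧ i ≠ e := hl
      by_cases hik : i = k
      · simp only [Sum.elim_inr, if_pos hik]
        exact ⟨Or.inl rfl, by simp⟩
      · simp only [Sum.elim_inr, if_neg hik]
        exact ⟨⟨hl.1, hik⟩, fun he => hl.2 (Sum.inr.inj he)⟩
  · rintro (l | i) hl hn g hg
    · rfl
    · have hl : i ∈ J ∧ i ≠ e := hl
      by_cases hik : i = k
      · simp only [Sum.elim_inr, if_pos hik, Sum.elim_inl]
        subst hik
        exact (h.par3 hek hm hA hd (f' g hg.1) (f g hg.1) (fd g hg)).symm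
      · simp only [Sum.elim_inr, if_neg hik]
        have hn : ¬ (i ≠ k ∧ m e i = 3) := hn
        have h2 : m e i = 2 := (hJ e he i hl.1 hl.2.symm).resolve_right fun h3 => hn ⟨hik, h3⟩
        exact (h.par2 hl.2.symm h2 hd (f g hg.1) (fd g hg)).symm
  · rintro (l | i) hl hn t ht hxt g hg
    · exact absurd hn (by simp)
    · have hl : i ∈ J ∧ i ≠ e := hl
      have hn : i ≠ k ∧ m e i = 3 := hn
      simp only [Sum.elim_inr, if_neg hn.1]
      exact new_rule h hl.2.symm hn.2 hd f (fun g => mem_kerSub) ht hxt hg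
  · rintro (l | i) hl (l' | i') hl' hn hn' he
    · exact congrArg _ (Sum.inl.inj he)
    · have hl : l = e' := hl
      by_cases hik : i' = k
      · simp only [Sum.elim_inr, if_pos hik, Sum.elim_inl, Sum.inl.injEq] at he
        exact absurd (he.symm.trans hl) hee
      · simp [hik] at he
    · have hl' : l' = e' := hl'
      by_cases hik : i = k
      · simp only [Sum.elim_inr, if_pos hik, Sum.elim_inl, Sum.inl.injEq] at he
        exact absurd (he.trans hl') hee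
      · simp [hik] at he
    · by_cases hik : i = k <;> by_cases hik' : i' = k
      · rw [hik, hik']
      · simp [hik, hik'] at he
      · simp [hik, hik'] at he
      · simp only [Sum.elim_inr, if_neg hik, if_neg hik', Sum.inr.injEq] at he
        rw [he]
  · rintro (l | i) hl (l' | i') hl' hn hn' he
    · exact absurd hn (by simp)
    · exact absurd hn (by simp)
    · exact absurd hn' (by simp)
    · have hn : i ≠ k ∧ m e i = 3 := hn
      have hn' : i' ≠ k ∧ m e i' = 3 := hn'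
      simp only [Sum.elim_inr, if_neg hn.1, if_neg hn'.1, Sum.inr.injEq] at he
      rw [he]

/-- second third of a turn: the labels are `inl false = (c1, k)`, `inl true = (c1', k)`, `inr i = (c2, i)` -/
theorem turn2 [Finite G] (h : CS G A m) (hJ : ∀ i ∈ J, ∀ j ∈ J, i ≠ j → m i j = 2 ∨ m i j = 3) {k e e' : I}
    (hk : k ∈ J) (he' : e' ∈ J) (hek : k ≠ e) (hek' : k ≠ e') (hm' : m k e' = 3) (hee : e ≠ e')
    (hme : m e e' = 2) {H : Subgroup G} {c' c c1 : C} (hA : A k c' c) (hA1 : A e c c1) (f' : ∀ g ∈ H, g • c' = c')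
    (f : ∀ g ∈ H, g • c = c) (f1 : ∀ g ∈ H, g • c1 = c1)
    (hI : Ind H {s : I ⊕ I | s.elim (fun l => l = e') (fun i => i ∈ J ∧ i ≠ e)}
      (fun s g => s.elim (fun l => lam A l c' g) (fun i => lam A i c1 g))) :
    ∃ (H2 : Subgroup G) (c2 c1' : C), H2 ≤ H ∧ Nat.card H2 < Nat.card H ∧ A e' c1 c2 ∧ A e c1' c2 ∧
      (∀ g ∈ H2, g • c2 = c2) ∧ (∀ g ∈ H2, g • c1' = c1') ∧
      Ind H2 {s : Bool ⊕ I | s.elim (fun _ => True) (fun i => i ∈ J ∧ i ≠ e ∧ i ≠ e')}
        (fun s g => s.elim (fun b => lam A k (bif b then c1' else c1) g) (fun i => lam A i c2 g)) := by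
  classical
  have hx : (Sum.inr e' : I ⊕ I) ∈ {s : I ⊕ I | s.elim (fun l => l = e') (fun i => i ∈ J ∧ i ≠ e)} :=
    ⟨he', hee.symm⟩
  have hC := chr_lam (l := e') h f1
  obtain ⟨d, hd⟩ := h.cham.ex e' c1
  have fd : ∀ g ∈ kerSub H _ hC, g • d = d := fun g hg => lam_eq_zero.1 hg.2 d hd
  obtain ⟨t, ht, hxt⟩ := hI.ne hx
  obtain ⟨x, ⟨hx1, hx2⟩, hxu⟩ := h.square hee hme hA1 hd
  have fx : ∀ g ∈ kerSub H _ hC, g • x = x := by
    intro g hg
    apply hxu
    have t1 := h.act g _ _ _ hx1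
    have t2 := h.act g _ _ _ hx2
    rw [f g hg.1] at t1
    rw [fd g hg] at t2
    exact ⟨t1, t2⟩
  refine ⟨kerSub H _ hC, d, x, kerSub_le, card_lt kerSub_le ht fun h2 => ?_, hd, hx2, fd, fx, ?_⟩
  · have h3 : lam A e' c1 t = 0 := h2.2
    have h4 : lam A e' c1 t = 1 := hxt
    rw [h3] at h4
    exact absurd h4 (by decide)
  have hmk : m e' k = 3 := by rw [h.symm]; exact hm'
  refine hI.cross (fun s _ => chr_ws h f' f1 s) hx (fun g => mem_kerSub)
    (fun s : Bool ⊕ I => s.elim (fun b => bif b then Sum.inl e' else Sum.inr k) (fun i => Sum.inr i))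
    {s | s.elim (fun _ => False) (fun i => m e' i = 3)} ?_ ?_ ?_ ?_ ?_
  · rintro ((_ | _) | i) hl
    · exact ⟨⟨hk, hek⟩, fun h0 => hek' (Sum.inr.inj h0)⟩
    · exact ⟨rfl, by simp⟩
    · have hl : i ∈ J ∧ i ≠ e ∧ i ≠ e' := hl
      exact ⟨⟨hl.1, hl.2.1⟩, fun h0 => hl.2.2 (Sum.inr.inj h0)⟩
  · rintro ((_ | _) | i) hl hn g hg
    · rfl
    · exact (h.par3 hek' hm' hA hx1 (f' g hg.1) (f g hg.1) (fx g hg)).symm
    · have hl : i ∈ J ∧ i ≠ e ∧ i ≠ e' := hl
      have hn : ¬ (m e' i = 3) := hn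
      have h2 : m e' i = 2 := (hJ e' he' i hl.1 hl.2.2.symm).resolve_right hn
      exact (h.par2 hl.2.2.symm h2 hd (f1 g hg.1) (fd g hg)).symm
  · rintro (b | i) hl hn t ht hxt g hg
    · exact absurd hn (by simp)
    · have hl : i ∈ J ∧ i ≠ e ∧ i ≠ e' := hl
      have hn : m e' i = 3 := hn
      exact new_rule h hl.2.2.symm hn hd f1 (fun g => mem_kerSub) ht hxt hg
  · rintro ((_ | _) | i) hl ((_ | _) | i') hl' hn hn' he
    · rfl
    · simp at he
    · have he : k = i' := Sum.inr.inj he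
      subst he
      exact absurd hmk hn'
    · simp at he
    · rfl
    · simp at he
    · have he : i = k := Sum.inr.inj he
      subst he
      exact absurd hmk hn
    · simp at he
    · exact congrArg _ (Sum.inr.inj he)
  · rintro (b | i) hl (b' | i') hl' hn hn' he
    · exact absurd hn (by simp)
    · exact absurd hn (by simp)
    · exact absurd hn' (by simp)
    · exact congrArg _ (Sum.inr.inj he)

/-- last third of a turn -/
theorem turn3 [Finite G] (h : CS G A m) (hJ : ∀ i ∈ J, ∀ j ∈ J, i ≠ j → m i j = 2 ∨ m i j = 3) {k e e' : I}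
    (hk : k ∈ J) (hek : k ≠ e) (hek' : k ≠ e') (hm : m k e = 3)
    (hm' : m k e' = 3) (hee : e ≠ e') {H : Subgroup G} {c1 c1' c2 : C} (hA1 : A e' c1 c2)
    (hA2 : A e c1' c2) (f1 : ∀ g ∈ H, g • c1 = c1) (f1' : ∀ g ∈ H, g • c1' = c1') (f2 : ∀ g ∈ H, g • c2 = c2)
    (hI : Ind H {s : Bool ⊕ I | s.elim (fun _ => True) (fun i => i ∈ J ∧ i ≠ e ∧ i ≠ e')}
        (fun s g => s.elim (fun b => lam A k (bif b then c1' else c1) g) (fun i => lam A i c2 g))) {Λ : Set I}
    (hΛ : ∀ l ∈ Λ, l ∈ J ∧ l ≠ k ∧ l ≠ e ∧ l ≠ e' ∧ m k l = 3) :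
    ∃ n' < Nat.card H, WS G A J k Λ n' := by
  classical
  have hx : (Sum.inr k : Bool ⊕ I) ∈ {s : Bool ⊕ I | s.elim (fun _ => True) (fun i => i ∈ J ∧ i ≠ e ∧ i ≠ e')} :=
    ⟨hk, hek, hek'⟩
  have hC := chr_lam (l := k) h f2
  obtain ⟨d, hd⟩ := h.cham.ex k c2
  have fd : ∀ g ∈ kerSub H _ hC, g • d = d := fun g hg => lam_eq_zero.1 hg.2 d hd
  obtain ⟨t, ht, hxt⟩ := hI.ne hx
  refine ⟨Nat.card (kerSub H _ hC), card_lt kerSub_le ht fun h2 => ?_, kerSub H _ hC, c2, d, rfl, hd,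
    fun g hg => f2 g hg.1, fd, ?_⟩
  · have h3 : lam A k c2 t = 0 := h2.2
    have h4 : lam A k c2 t = 1 := hxt
    rw [h3] at h4
    exact absurd h4 (by decide)
  have hmk : m e k = 3 := by rw [h.symm]; exact hm
  have hmk' : m e' k = 3 := by rw [h.symm]; exact hm'
  refine hI.cross (fun s _ => ?_) hx (fun g => mem_kerSub)
    (fun s : I ⊕ I => s.elim (fun l => Sum.inr l)
      (fun i => if i = e' then Sum.inl false else if i = e then Sum.inl true else Sum.inr i))
    {s | s.elim (fun _ => False) (fun i => i ≠ e ∧ i ≠ e' ∧ m k i = 3)} ?_ ?_ ?_ ?_ ?_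
  · rcases s with (_ | _) | i
    · exact chr_lam h f1
    · exact chr_lam h f1'
    · exact chr_lam h f2
  · rintro (l | i) hl
    · have hl := hΛ l hl
      exact ⟨⟨hl.1, hl.2.2.1, hl.2.2.2.1⟩, fun he => hl.2.1 (Sum.inr.inj he)⟩
    · have hl : i ∈ J ∧ i ≠ k := hl
      by_cases hi' : i = e'
      · simp only [Sum.elim_inr, if_pos hi']
        exact ⟨trivial, by simp⟩
      · by_cases hi : i = e
        · simp only [Sum.elim_inr, if_neg hi', if_pos hi]
          exact ⟨trivial, by simp⟩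
        · simp only [Sum.elim_inr, if_neg hi', if_neg hi]
          exact ⟨⟨hl.1, hi, hi'⟩, fun he => hl.2 (Sum.inr.inj he)⟩
  · rintro (l | i) hl hn g hg
    · rfl
    · have hl : i ∈ J ∧ i ≠ k := hl
      by_cases hi' : i = e'
      · simp only [Sum.elim_inr, if_pos hi', Sum.elim_inl]
        subst hi'
        exact (h.par3 hek'.symm hmk' hA1 hd (f1 g hg.1) (f2 g hg.1) (fd g hg)).symm
      · by_cases hi : i = e
        · simp only [Sum.elim_inr, if_neg hi', if_pos hi, Sum.elim_inl]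
          subst hi
          exact (h.par3 hek.symm hmk hA2 hd (f1' g hg.1) (f2 g hg.1) (fd g hg)).symm
        · simp only [Sum.elim_inr, if_neg hi', if_neg hi]
          have hn : ¬ (i ≠ e ∧ i ≠ e' ∧ m k i = 3) := hn
          have h2 : m k i = 2 := (hJ k hk i hl.1 hl.2.symm).resolve_right fun h3 => hn ⟨hi, hi', h3⟩
          exact (h.par2 hl.2.symm h2 hd (f2 g hg.1) (fd g hg)).symm
  · rintro (l | i) hl hn t ht hxt g hg
    · exact absurd hn (by simp)
    · have hl : i ∈ J ∧ i ≠ k := hl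
      have hn : i ≠ e ∧ i ≠ e' ∧ m k i = 3 := hn
      simp only [Sum.elim_inr, if_neg hn.1, if_neg hn.2.1]
      exact new_rule h hl.2.symm hn.2.2 hd f2 (fun g => mem_kerSub) ht hxt hg
  · have key : ∀ i : I, i ∉ ({e, e'} : Set I) →
        (if i = e' then Sum.inl false else if i = e then Sum.inl true else Sum.inr i : Bool ⊕ I) = Sum.inr i := by
      intro i hi
      simp only [Set.mem_insert_iff, Set.mem_singleton_iff, not_or] at hi
      rw [if_neg hi.2, if_neg hi.1]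
    rintro (l | i) hl (l' | i') hl' hn hn' he
    · exact congrArg _ (Sum.inr.inj he)
    · simp only [Sum.elim_inr, Sum.elim_inl] at he
      split_ifs at he with h1 h2
      have he := Sum.inr.inj he
      subst he
      exact absurd ⟨h2, h1, (hΛ _ hl).2.2.2.2⟩ hn'
    · simp only [Sum.elim_inr, Sum.elim_inl] at he
      split_ifs at he with h1 h2
      have he := Sum.inr.inj he
      subst he
      exact absurd ⟨h2, h1, (hΛ _ hl').2.2.2.2⟩ hn
    · simp only [Sum.elim_inr] at he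
      split_ifs at he with h1 h2 h3 h4 h5 h6 h7 h8 <;> simp_all
  · rintro (l | i) hl (l' | i') hl' hn hn' he
    · exact absurd hn (by simp)
    · exact absurd hn (by simp)
    · exact absurd hn' (by simp)
    · have hn : i ≠ e ∧ i ≠ e' ∧ m k i = 3 := hn
      have hn' : i' ≠ e ∧ i' ≠ e' ∧ m k i' = 3 := hn'
      simp only [Sum.elim_inr, if_neg hn.1, if_neg hn.2.1, if_neg hn'.1, if_neg hn'.2.1, Sum.inr.injEq] at he
      rw [he]

theorem turn [Finite G] (h : CS G A m) (hJ : ∀ i ∈ J, ∀ j ∈ J, i ≠ j → m i j = 2 ∨ m i j = 3) {k e e' : I}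
    {Λ Λ' : Set I} {n : ℕ} (hk : k ∈ J) (he : e ∈ J) (he' : e' ∈ J) (hek : k ≠ e) (hek' : k ≠ e') (hm : m k e = 3)
    (hm' : m k e' = 3) (hee : e ≠ e') (hme : m e e' = 2) (h1 : e ∈ Λ) (h2 : e' ∈ Λ)
    (hΛ' : ∀ l ∈ Λ', l ∈ J ∧ l ≠ k ∧ l ≠ e ∧ l ≠ e' ∧ m k l = 3) (W : WS G A J k Λ n) :
    ∃ n' < n, WS G A J k Λ' n' := by
  obtain ⟨H, c', c, rfl, hA, f', f, hI⟩ := W
  have hI' := hI.mono (T' := {s : I ⊕ I | s.elim (fun l => l = e ∨ l = e') (fun i => i ∈ J ∧ i ≠ k)}) (by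
    rintro (l | i) hl
    · rcases (show l = e ∨ l = e' from hl) with rfl | rfl
      · exact h1
      · exact h2
    · exact hl)
  obtain ⟨H1, c1, hle1, hc1, hA1, f1, hI1⟩ := turn1 h hJ he hek hm hee hA f' f hI'
  obtain ⟨H2, c2, c1', hle2, hc2, hA2, hA2', f2, f2', hI2⟩ := turn2 h hJ hk he' hek hek' hm' hee hme hA hA1
    (fun g hg => f' g (hle1 hg)) (fun g hg => f g (hle1 hg)) f1 hI1
  obtain ⟨n', hn', W'⟩ := turn3 h hJ hk hek hek' hm hm' hee hA2 hA2' (fun g hg => f1 g (hle2 hg)) f2' f2 hI2 hΛ'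
  exact ⟨n', hn'.trans (hc2.trans hc1), W'⟩

end Cfsg.Agent.Omega.EH3.NonSph
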